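import Cfsg.Agent.H133.PB.Basic
import Cfsg.Agent.H133.PB.Even
import Cfsg.Agent.H690.Spor.RankThree
import Cfsg.Agent.H621.AltChar

/-!
# Principal blocks of permutation groups (S4826)

* `bd_of_chk` : rank 3; both constituents of the permutation character are real, so one of odd degree divisible by `p`
  gives `BD p 2 G`.
* `bd_four_real`, `bd_four_sylow` : the three small characters of a `4`-transitive group.
-/

set_option autoImplicit false

open Cfsg

namespace Cfsg.Agent.H701.PBPerm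

open Cfsg.Agent.H133.PB Cfsg.Agent.H690.Spor.RankThree Cfsg.Agent.Characters.Core
open scoped ComplexConjugate

universe u

section real

variable {G : Type u} [Group G] [Finite G]

/-- Two irreducible characters of different degrees with a real sum are real. -/
theorem real_of_sum (χ₁ χ₂ : IrrCharacter G) (hne : (χ₁ : G → ℂ) 1 ≠ (χ₂ : G → ℂ) 1)
    (h : ∀ g : G, ((χ₁ : G → ℂ) g + (χ₂ : G → ℂ) g).im = 0) (g : G) : ((χ₁ : G → ℂ) g).im = 0 := by
  classical
  have := Fintype.ofFinite G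
  have i1 := isIrr_conj χ₁.2
  have i2 := isIrr_conj χ₂.2
  have hsum : (fun g => conj ((χ₁ : G → ℂ) g)) + (fun g => conj ((χ₂ : G → ℂ) g)) = (χ₁ : G → ℂ) + (χ₂ : G → ℂ) := by
    funext x
    rw [Pi.add_apply, Pi.add_apply, ← map_add]
    exact Complex.conj_eq_iff_im.2 (h x)
  obtain ⟨n1, -, hn1⟩ := isIrr_apply_one χ₁.2
  obtain ⟨n2, -, hn2⟩ := isIrr_apply_one χ₂.2
  have hne12 : (χ₂ : G → ℂ) ≠ (χ₁ : G → ℂ) := fun h1 => hne (by rw [h1])
  have hc2 : (fun g => conj ((χ₂ : G → ℂ) g)) ≠ (χ₁ : G → ℂ) := by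
    intro h1
    have h2 : conj ((χ₂ : G → ℂ) 1) = (χ₁ : G → ℂ) 1 := congrFun h1 1
    rw [hn2, Complex.conj_natCast, ← hn2] at h2
    exact hne h2.symm
  have h3 : classInner ((fun g => conj ((χ₁ : G → ℂ) g)) + (fun g => conj ((χ₂ : G → ℂ) g))) (χ₁ : G → ℂ) = 1 := by
    rw [hsum, classInner_add_left, classInner_irr_self χ₁.2, classInner_irr_ne χ₂.2 χ₁.2 hne12, add_zero]
  rw [classInner_add_left, classInner_irr_ne i2 χ₁.2 hc2, add_zero] at h3
  have h4 : (fun g => conj ((χ₁ : G → ℂ) g)) = (χ₁ : G → ℂ) := by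
    by_contra h5
    rw [classInner_irr_ne i1 χ₁.2 h5] at h3
    exact zero_ne_one h3
  exact Complex.conj_eq_iff_im.1 (congrFun h4 g)

end real

/-! ### rank 3 -/

/-- Every solution of Frame's equations has one degree which is odd and divisible by `p`. -/
def chk (k l p : ℕ) : Bool := (List.range ((k + l) / 2 + 1)).all fun f =>
  (f == 0) || !(((1 + k + l) * k * l) % (f * (k + l - f)) == 0) ||
    (let D := ((1 + k + l) * k * l) / (f * (k + l - f)); !(Nat.sqrt D * Nat.sqrt D == D)) ||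
    ((f % 2 == 1) && (f % p == 0)) || (((k + l - f) % 2 == 1) && ((k + l - f) % p == 0))

theorem chk_spec {k l p : ℕ} (h : chk k l p = true) {f g D : ℕ} (hfg : f + g = k + l) (hle : f ≤ g)
    (hf : f ≠ 0) (hprod : f * g * D = (1 + k + l) * k * l) (hD : IsSquare D) :
    (Odd f ∧ p ∣ f) ∨ (Odd g ∧ p ∣ g) := by
  unfold chk at h
  rw [List.all_eq_true] at h
  have h1 := h f (List.mem_range.2 (by omega))
  have hg : k + l - f = g := by omega
  have hpos : 0 < f * g := Nat.mul_pos (by omega) (by omega)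
  have h2 : (1 + k + l) * k * l % (f * g) = 0 := by
    rw [← hprod]
    exact Nat.mul_mod_right _ _
  have h3 : (1 + k + l) * k * l / (f * g) = D := by
    rw [← hprod]
    exact Nat.mul_div_cancel_left _ hpos
  obtain ⟨m, hm⟩ := hD
  have h4 : Nat.sqrt D * Nat.sqrt D = D := by
    rw [hm, Nat.sqrt_eq]
  simp only [hg, h2, h3, h4] at h1
  simp [hf] at h1
  rcases h1 with h1 | h1
  · exact Or.inl ⟨Nat.odd_iff.2 h1.1, Nat.dvd_of_mod_eq_zero h1.2⟩
  · exact Or.inr ⟨Nat.odd_iff.2 h1.1, Nat.dvd_of_mod_eq_zero h1.2⟩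

/-- **Rank 3**: if every solution of Frame's equations has an odd degree divisible by `p`, then `BD p 2 G`. -/
theorem bd_of_chk {G : Type u} {X : Type*} [Group G] [MulAction G X] [Finite G] {R : X → X → Prop} {k l : ℕ}
    (h : R3 G X R k l) (hodd : Odd (k + l) ∨ ¬ (k + l) / 2 ∣ Nat.card G) {p : ℕ} (hc : chk k l p = true) :
    BD p 2 G := by
  classical
  have hn := h.cardn
  have hfin : Finite X := by
    by_contra hcon
    rw [not_finite_iff_infinite] at hcon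
    rw [Nat.card_eq_zero_of_infinite] at hn
    omega
  have := Fintype.ofFinite X
  obtain ⟨χ₁, χ₂, f, g, D, hf, hg, hfix, hfg, hprod, hsq⟩ := h.frame
  have hprod0 : (1 + k + l) * k * l ≠ 0 := by
    have := h.k0
    have := h.l0
    positivity
  have df : charDegree (χ₁ : G → ℂ) = f := Cfsg.Agent.Blocks.Basic.charDegree_of_eq hf
  have dg : charDegree (χ₂ : G → ℂ) = g := Cfsg.Agent.Blocks.Basic.charDegree_of_eq hg
  have hne : f ≠ g := by
    rintro rfl
    rcases hodd with h1 | h1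
    · rw [← hfg] at h1
      exact (Nat.not_odd_iff_even.2 ⟨f, rfl⟩) h1
    · apply h1
      have h2 : (k + l) / 2 = f := by omega
      rw [h2, ← df]
      exact Cfsg.Agent.Blocks.Knorr.charDegree_dvd χ₁.2
  have hf0 : f ≠ 0 := by
    rintro rfl
    rw [zero_mul, zero_mul] at hprod
    exact hprod0 hprod.symm
  have hg0 : g ≠ 0 := by
    rintro rfl
    rw [mul_zero, zero_mul] at hprod
    exact hprod0 hprod.symm
  have key : (Odd f ∧ p ∣ f) ∨ (Odd g ∧ p ∣ g) := by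
    rcases le_total f g with hle | hle
    · exact chk_spec hc hfg hle hf0 hprod (hsq hne)
    · exact (chk_spec hc (by omega) hle hg0 (by rw [mul_comm g f]; exact hprod) (hsq hne)).symm
  have hneC : (χ₁ : G → ℂ) 1 ≠ (χ₂ : G → ℂ) 1 := by
    rw [hf, hg]
    exact_mod_cast hne
  have him : ∀ x : G, ((χ₁ : G → ℂ) x + (χ₂ : G → ℂ) x).im = 0 := by
    intro x
    have h1 := congrArg Complex.im (hfix x)
    rw [add_assoc, Complex.add_im, Complex.one_im, zero_add, Complex.natCast_im] at h1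
    exact h1.symm
  rcases key with h1 | h1
  · refine BD.of_real χ₁ (real_of_sum χ₁ χ₂ hneC him) ?_ ?_
    · rw [df]; exact h1.1
    · rw [df]; exact h1.2
  · refine BD.of_real χ₂ (real_of_sum χ₂ χ₁ hneC.symm fun x => ?_) ?_ ?_
    · rw [add_comm]; exact him x
    · rw [dg]; exact h1.1
    · rw [dg]; exact h1.2

/-! ### 4-transitive groups -/

section four

open Cfsg.Agent.H621.AltChar

variable {G : Type u} {Ω : Type*} [Group G] [Finite G] [MulAction G Ω] [Finite Ω] {n : ℕ}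

/-- The three small characters of a `4`-transitive group; all real. -/
theorem exists_four (hn : Nat.card Ω = n) (h5 : 5 ≤ n) (h4 : MulAction.IsMultiplyPretransitive G Ω 4) {d : ℕ}
    (hd : d = n - 1 ∨ d * 2 = n * (n - 3) ∨ d * 2 = (n - 1) * (n - 2)) :
    ∃ χ : IrrCharacter G, charDegree (χ : G → ℂ) = d ∧ ∀ g : G, ((χ : G → ℂ) g).im = 0 := by
  have := Fintype.ofFinite G
  obtain ⟨m, rfl⟩ : ∃ m, n = m + 5 := ⟨n - 5, by omega⟩
  rcases hd with hd | hd | hd
  · refine ⟨⟨_, irr_one (G := G) (Ω := Ω) (by omega) h4⟩, ?_, fun g => ?_⟩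
    · apply Cfsg.Agent.Blocks.Basic.charDegree_of_eq
      show ((nf Ω (1 : G) : ℕ) : ℂ) - 1 = _
      rw [nf_one, hn, hd]
      rw [show m + 5 - 1 = m + 4 by omega]
      push_cast
      ring
    · show (((nf Ω g : ℕ) : ℂ) - 1).im = 0
      rw [Complex.sub_im, Complex.natCast_im, Complex.one_im, sub_zero]
  · refine ⟨⟨_, irr_a (G := G) (Ω := Ω) (by omega) h4⟩, ?_, fun g => ?_⟩
    · apply Cfsg.Agent.Blocks.Basic.charDegree_of_eq
      show (((nf Ω (1 : G) : ℕ) : ℂ) ^ 2 - 3 * ((nf Ω (1 : G) : ℕ) : ℂ) + ((nu Ω (1 : G) : ℕ) : ℂ)) / 2 = _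
      rw [nf_one, nu_one, hn]
      rw [show m + 5 - 3 = m + 2 by omega] at hd
      have hd' : (d : ℂ) * 2 = (m + 5) * (m + 2) := by exact_mod_cast hd
      push_cast
      linear_combination -hd' / 2
    · show ((((nf Ω g : ℕ) : ℂ) ^ 2 - 3 * ((nf Ω g : ℕ) : ℂ) + ((nu Ω g : ℕ) : ℂ)) / 2).im = 0
      have h1 : (((nf Ω g : ℕ) : ℂ) ^ 2 - 3 * ((nf Ω g : ℕ) : ℂ) + ((nu Ω g : ℕ) : ℂ)) / 2 =
          (((((nf Ω g : ℕ) : ℝ) ^ 2 - 3 * ((nf Ω g : ℕ) : ℝ) + ((nu Ω g : ℕ) : ℝ)) / 2 : ℝ) : ℂ) := by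
        push_cast; rfl
      rw [h1]
      exact Complex.ofReal_im _
  · refine ⟨⟨_, irr_b (G := G) (Ω := Ω) (by omega) h4⟩, ?_, fun g => ?_⟩
    · apply Cfsg.Agent.Blocks.Basic.charDegree_of_eq
      show (((nf Ω (1 : G) : ℕ) : ℂ) ^ 2 - 3 * ((nf Ω (1 : G) : ℕ) : ℂ) + 2 - ((nu Ω (1 : G) : ℕ) : ℂ)) / 2 = _
      rw [nf_one, nu_one, hn]
      rw [show m + 5 - 1 = m + 4 by omega, show m + 5 - 2 = m + 3 by omega] at hd
      have hd' : (d : ℂ) * 2 = (m + 4) * (m + 3) := by exact_mod_cast hd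
      push_cast
      linear_combination -hd' / 2
    · show ((((nf Ω g : ℕ) : ℂ) ^ 2 - 3 * ((nf Ω g : ℕ) : ℂ) + 2 - ((nu Ω g : ℕ) : ℂ)) / 2).im = 0
      have h1 : (((nf Ω g : ℕ) : ℂ) ^ 2 - 3 * ((nf Ω g : ℕ) : ℂ) + 2 - ((nu Ω g : ℕ) : ℂ)) / 2 =
          (((((nf Ω g : ℕ) : ℝ) ^ 2 - 3 * ((nf Ω g : ℕ) : ℝ) + 2 - ((nu Ω g : ℕ) : ℝ)) / 2 : ℝ) : ℂ) := by
        push_cast; rfl
      rw [h1]
      exact Complex.ofReal_im _

/-- a real character of odd degree -/
theorem bd_four_real (hn : Nat.card Ω = n) (h5 : 5 ≤ n) (h4 : MulAction.IsMultiplyPretransitive G Ω 4) {d p : ℕ}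
    (hd : d = n - 1 ∨ d * 2 = n * (n - 3) ∨ d * 2 = (n - 1) * (n - 2)) (ho : Odd d) (hp : p ∣ d) : BD p 2 G := by
  obtain ⟨χ, h1, h2⟩ := exists_four (G := G) hn h5 h4 hd
  exact BD.of_real χ h2 (by rw [h1]; exact ho) (by rw [h1]; exact hp)

/-- a `q`-element with centralizer a `q`-group -/
theorem bd_four_sylow (hn : Nat.card Ω = n) (h5 : 5 ≤ n) (h4 : MulAction.IsMultiplyPretransitive G Ω 4) {d p q : ℕ}
    (hq : q.Prime) {g : G} (hg : orderOf g = q) (hC : Nat.card (Subgroup.centralizer ({g} : Set G)) = q)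
    (hd : d = n - 1 ∨ d * 2 = n * (n - 3) ∨ d * 2 = (n - 1) * (n - 2)) (ho : ¬ q ∣ d) (hp : p ∣ d) : BD p q G := by
  have : Fact q.Prime := ⟨hq⟩
  obtain ⟨χ, h1, -⟩ := exists_four (G := G) hn h5 h4 hd
  obtain ⟨Q, hQ⟩ := isPGroup_centralizer_sylow (IsPGroup.of_card (n := 1) (by rw [hC, pow_one]))
    ⟨1, by rw [hg, pow_one]⟩
  exact BD.of_sylow Q hQ χ (by rw [h1]; exact ho) (by rw [h1]; exact hp)

end four

end Cfsg.Agent.H701.PBPerm
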