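import Cfsg.Agent.H709.PB.Guide
import Cfsg.Agent.H701.PBPerm
import Cfsg.Agent.H701.ZerosMathieu
import Cfsg.Agent.H852.IMMathieu2
import Cfsg.Agent.H729.PairMathieu

/-!
# S4826, the rows of the Mathieu groups

`row_m11`, `row_m12`, `row_m22`, `row_m23`, `row_m24` (import `Cfsg.Agent.H701.PBMathieu`).

* `row_two_of_noTwo` : `r` divides `|S|` once, no involution commutes with an element of order `r`, the divisors
  `≠ 1` of `r - 1` are even: `Row 2 S`.
-/

set_option autoImplicit false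

open Cfsg
open scoped Pointwise

namespace Cfsg.Agent.H701.PBMathieu

open Cfsg.Agent.H133.PB Cfsg.Agent.H701.PBPerm Cfsg.Agent.H701.ZMathieu Cfsg.Agent.H729.PairBase
open Cfsg.Agent.H852.IMMathieu Cfsg.Agent.H690.Spor.RankThree

universe u

/-- An involution normalizing `⟨x⟩`, `x` of prime order, commutes with `x` or inverts it. -/
theorem comm_or_inv {S : Type*} [Group S] {r : ℕ} (hr : r.Prime) {x t : S} (hx : orderOf x = r) (ht : t * t = 1)
    (hn : t * x * t⁻¹ ∈ Subgroup.zpowers x) : t * x * t⁻¹ = x ∨ t * x * t⁻¹ = x⁻¹ := by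
  obtain ⟨k, hk⟩ := Subgroup.mem_zpowers_iff.1 hn
  have ht' : t⁻¹ = t := inv_eq_of_mul_eq_one_left ht
  have h1 : x ^ (k * k) = x := by
    rw [zpow_mul, hk, conj_zpow, hk, ht']
    calc t * (t * x * t) * t = (t * t) * x * (t * t) := by group
      _ = x := by rw [ht, one_mul, mul_one]
  have h2 : x ^ ((k - 1) * (k + 1)) = 1 := by
    have : (k - 1) * (k + 1) = k * k - 1 := by ring
    rw [this, zpow_sub, h1, zpow_one, mul_inv_cancel]
  have h3 : (r : ℤ) ∣ (k - 1) * (k + 1) := by
    rw [← hx]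
    exact orderOf_dvd_iff_zpow_eq_one.2 h2
  rcases (Nat.prime_iff_prime_int.1 hr).dvd_or_dvd h3 with h4 | h4
  · left
    have h5 : x ^ (k - 1) = 1 := orderOf_dvd_iff_zpow_eq_one.1 (by rw [hx]; exact h4)
    rw [zpow_sub, zpow_one, mul_inv_eq_one] at h5
    rw [← hk, h5]
  · right
    have h5 : x ^ (k + 1) = 1 := orderOf_dvd_iff_zpow_eq_one.1 (by rw [hx]; exact h4)
    rw [zpow_add, zpow_one] at h5
    rw [← hk]
    exact eq_inv_of_mul_eq_one_left h5

/-- `Row 2` from a prime `r` dividing `|S|` once. -/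
theorem row_two_of_noTwo {S : Type u} [Group S] [Finite S] [IsSimpleGroup S] {r : ℕ} (hr : r.Prime)
    (h1 : r ∣ Nat.card S) (h2 : ¬ r ^ 2 ∣ Nat.card S) (hne : Nat.card S ≠ r) (h : NoTwo S r)
    (he : ∀ e, e ∣ r - 1 → e ≠ 1 → 2 ∣ e) : Row 2 S := by
  have : Fact r.Prime := ⟨hr⟩
  obtain ⟨x, e, n, hx, he1, he2, -, hN, -, -⟩ := exists_data hr h1 h2 hne
  have h3 : 2 ∣ Nat.card (Subgroup.normalizer ((Subgroup.zpowers x : Subgroup S) : Set S)) := by
    rw [hN]
    exact (he e he1 he2).mul_left _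
  have : Fact (Nat.Prime 2) := ⟨Nat.prime_two⟩
  obtain ⟨t, ht⟩ := exists_prime_orderOf_dvd_card' 2 h3
  have ht' : orderOf (t : S) = 2 := by rw [Subgroup.orderOf_coe, ht]
  have htt : (t : S) * t = 1 := by rw [← pow_two, ← ht', pow_orderOf_eq_one]
  have hx1 : x ≠ 1 := by
    rintro rfl
    rw [orderOf_one] at hx
    exact hr.one_lt.ne hx
  have hc := h.odd_cent hx
  refine Row.of_real_odd (g := x) ⟨1, by rw [hx, pow_one]⟩ hx1 ?_ (Nat.odd_iff.2 (by omega))
  rcases comm_or_inv hr hx htt ((Subgroup.mem_normalizer_iff.1 t.2 x).1 (Subgroup.mem_zpowers x)) with h4 | h4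
  · exact absurd (show Commute (t : S) x from mul_inv_eq_iff_eq_mul.1 h4) (h _ _ ht' hx)
  · exact isConj_iff.2 ⟨t, h4⟩

/-! ### `4`-transitivity of the models -/

theorem four_m11 : ∃ (hd : ∀ g ∈ Spor.M11, ∀ x ∈ ((Spor.squareDodecad : Set GolayPt) \ {some 0}),
      g x ∈ ((Spor.squareDodecad : Set GolayPt) \ {some 0})),
    letI := actOn Spor.M11 ((Spor.squareDodecad : Set GolayPt) \ {some 0}) hd
    MulAction.IsMultiplyPretransitive Spor.M11 ((Spor.squareDodecad : Set GolayPt) \ {some 0} : Set GolayPt) 4 ∧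
      Nat.card ((Spor.squareDodecad : Set GolayPt) \ {some 0} : Set GolayPt) = 11 := by
  refine ⟨fun g hg x hx => ⟨Cfsg.Agent.CoThreeStd.M12.smul_mem' hg.1 hx.1, fun h1 => hx.2 ?_⟩, trans_on _ _ _ 4 ?_, ?_⟩
  · have h2 : g (some 0) = some 0 := hg.2
    exact g.injective ((show g x = some 0 from h1).trans h2.symm)
  · intro x y hx hy
    have hinj : ∀ z : Fin 4 ↪ GolayPt, (∀ i, z i ∈ (Spor.squareDodecad : Set GolayPt) \ {some 0}) →
        Function.Injective (Fin.cons (some 0) z : Fin 5 → GolayPt) := by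
      intro z hz
      rw [Fin.cons_injective_iff]
      refine ⟨?_, z.injective⟩
      rintro ⟨i, hi⟩
      exact (hz i).2 hi
    have hmem : ∀ z : Fin 4 ↪ GolayPt, (∀ i, z i ∈ (Spor.squareDodecad : Set GolayPt) \ {some 0}) →
        ∀ i, (Fin.cons (some 0) z : Fin 5 → GolayPt) i ∈ Spor.squareDodecad := by
      intro z hz i
      refine Fin.cases ?_ (fun j => ?_) i
      · exact zero_mem
      · exact (hz j).1
    obtain ⟨g, hg, -⟩ := Cfsg.Agent.S0384.result _ dod_mem ⟨_, hinj x hx⟩ ⟨_, hinj y hy⟩ (hmem x hx) (hmem y hy)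
    exact ⟨((g : M24) : Equiv.Perm GolayPt), ⟨⟨(g : M24).2, g.2⟩, hg 0⟩, fun i => hg i.succ⟩
  · rw [Nat.card_coe_set_eq, Set.ncard_sdiff_singleton_of_mem (by exact zero_mem), Set.ncard_coe_finset,
      card_dod dod_mem]

theorem four_m12 : ∃ (hd : ∀ g ∈ Spor.M12, ∀ x ∈ (Spor.squareDodecad : Set GolayPt),
      g x ∈ (Spor.squareDodecad : Set GolayPt)),
    letI := actOn Spor.M12 (Spor.squareDodecad : Set GolayPt) hd
    MulAction.IsMultiplyPretransitive Spor.M12 (Spor.squareDodecad : Set GolayPt) 4 ∧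
      Nat.card (Spor.squareDodecad : Set GolayPt) = 12 := by
  have hn : Nat.card (Spor.squareDodecad : Set GolayPt) = 12 := by
    rw [Nat.card_coe_set_eq, Set.ncard_coe_finset, card_dod dod_mem]
  refine ⟨fun g hg x hx => Cfsg.Agent.CoThreeStd.M12.smul_mem' hg hx, ?_, hn⟩
  let _ := actOn Spor.M12 (Spor.squareDodecad : Set GolayPt) fun g hg x hx =>
    Cfsg.Agent.CoThreeStd.M12.smul_mem' hg hx
  have h5 := trans_on Spor.M12 (Spor.squareDodecad : Set GolayPt) (fun g hg x hx =>
    Cfsg.Agent.CoThreeStd.M12.smul_mem' hg hx) 5 (by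
      intro x y hx hy
      obtain ⟨g, hg, -⟩ := Cfsg.Agent.S0384.result _ dod_mem x y hx hy
      exact ⟨((g : M24) : Equiv.Perm GolayPt), ⟨(g : M24).2, g.2⟩, hg⟩)
  exact MulAction.isMultiplyPretransitive_of_le (n := 5) (by norm_num) (by rw [hn]; norm_num)

theorem four_m23 : ∃ (hd : ∀ g ∈ Spor.M23, ∀ x ∈ {x : GolayPt | x ≠ none}, g x ∈ {x : GolayPt | x ≠ none}),
    letI := actOn Spor.M23 {x : GolayPt | x ≠ none} hd
    MulAction.IsMultiplyPretransitive Spor.M23 {x : GolayPt | x ≠ none} 4 ∧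
      Nat.card {x : GolayPt | x ≠ none} = 23 := by
  refine ⟨fun g hg x hx h1 => ?_, trans_on _ _ _ 4 ?_, ?_⟩
  · have h2 : g none = none := hg.2
    exact hx (g.injective (h1.trans h2.symm))
  · intro x y hx hy
    have hinj : ∀ z : Fin 4 ↪ GolayPt, (∀ i, z i ∈ {x : GolayPt | x ≠ none}) →
        Function.Injective (Fin.cons none z : Fin 5 → GolayPt) := by
      intro z hz
      rw [Fin.cons_injective_iff]
      refine ⟨?_, z.injective⟩
      rintro ⟨i, hi⟩
      exact hz i hi
    obtain ⟨g, hg⟩ := Cfsg.Agent.SporadicStructure.M23Index253.exists_map Cfsg.Agent.S0366.result le_rfl _ _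
      (hinj x hx) (hinj y hy)
    exact ⟨(g : Equiv.Perm GolayPt), ⟨g.2, hg 0⟩, fun i => hg i.succ⟩
  · have h1 : ({x | x ≠ none} : Set GolayPt) = Set.univ \ {none} := by
      ext x
      simp
    rw [Nat.card_coe_set_eq, h1, Set.ncard_sdiff_singleton_of_mem (Set.mem_univ _), Set.ncard_univ,
      Nat.card_eq_fintype_card]
    decide

theorem four_m24 : MulAction.IsMultiplyPretransitive M24 GolayPt 4 ∧ Nat.card GolayPt = 24 := by
  have hN : Nat.card GolayPt = 24 := by rw [Nat.card_eq_fintype_card]; decide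
  have h5 : MulAction.IsMultiplyPretransitive M24 GolayPt 5 := Cfsg.Agent.S0366.result
  exact ⟨MulAction.isMultiplyPretransitive_of_le (n := 5) (by norm_num) (by rw [hN]; norm_num), hN⟩

/-! ### the rows -/

theorem row_m11 {S : Type u} [Group S] (h : Cfsg.Spor.IsoM11 S) {p : ℕ} (hp : p.Prime) (hd : p ∣ Nat.card S) :
    Row p S := by
  have hG := Cfsg.Agent.Cit.Eleven.isM11 h
  obtain ⟨e⟩ := h
  have := Cfsg.Agent.Cit.Eleven.finite (⟨MulEquiv.refl _⟩ : Cfsg.Spor.IsoM11 Spor.M11)
  have hG' := Cfsg.Agent.Cit.Eleven.isM11 (⟨MulEquiv.refl _⟩ : Cfsg.Spor.IsoM11 Spor.M11)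
  rw [Nat.card_congr e.toEquiv, card_M11] at hd
  have hm := prime_cases hp [2, 2, 2, 2, 3, 3, 5, 11] (by decide) hd (by decide)
  refine Row.of_equiv e ?_
  obtain ⟨hinv, h4, hn⟩ := four_m11
  let _ := actOn Spor.M11 ((Spor.squareDodecad : Set GolayPt) \ {some 0}) hinv
  obtain ⟨x, hx⟩ := exists_order (G := Spor.M11) (r := 11) (n := 720) (by norm_num) (by rw [card_M11])
  have c11 := SporadicA.M11Sylow.card_centralizer_eleven hG' hx
  obtain ⟨y, hy⟩ := exists_order (G := Spor.M11) (r := 5) (n := 1584) (by norm_num) (by rw [card_M11])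
  have c5 := SporadicA.M11Facts.card_centralizer_five hG' hy
  simp only [List.mem_cons, List.not_mem_nil, or_false] at hm
  have k2 : Row 2 Spor.M11 := Row.intro (q := 11) (by norm_num) (by norm_num) (by rw [card_M11]; norm_num)
    (bd_four_sylow hn (by norm_num) h4 (d := 10) (by norm_num) hx c11 (by norm_num) (by norm_num) (by norm_num))
  have k3 : Row 3 Spor.M11 := Row.intro (q := 2) (by norm_num) (by norm_num) (by rw [card_M11]; norm_num)
    (bd_four_real hn (by norm_num) h4 (d := 45) (by norm_num) (by decide) (by norm_num))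
  have k5 : Row 5 Spor.M11 := Row.intro (q := 2) (by norm_num) (by norm_num) (by rw [card_M11]; norm_num)
    (bd_four_real hn (by norm_num) h4 (d := 45) (by norm_num) (by decide) (by norm_num))
  have k11 : Row 11 Spor.M11 := Row.intro (q := 5) (by norm_num) (by norm_num) (by rw [card_M11]; norm_num)
    (bd_four_sylow hn (by norm_num) h4 (d := 44) (by norm_num) hy c5 (by norm_num) (by norm_num) (by norm_num))
  rcases hm with rfl | rfl | rfl | rfl | rfl | rfl | rfl | rfl <;> assumption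

theorem row_m12 {S : Type u} [Group S] (h : Cfsg.Spor.IsoM12 S) {p : ℕ} (hp : p.Prime) (hd : p ∣ Nat.card S) :
    Row p S := by
  obtain ⟨e⟩ := h
  have := Cfsg.Agent.FooteOdd.SporMTwelve.simple
  have hcard : Nat.card Spor.M12 = 95040 := card_M12
  have : Finite Spor.M12 := Nat.finite_of_card_ne_zero (by rw [hcard]; norm_num)
  rw [Nat.card_congr e.toEquiv, card_M12] at hd
  have hm := prime_cases hp [2, 2, 2, 2, 2, 2, 3, 3, 3, 5, 11] (by decide) hd (by decide)
  refine Row.of_equiv e ?_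
  obtain ⟨hinv, h4, hn⟩ := four_m12
  let _ := actOn Spor.M12 (Spor.squareDodecad : Set GolayPt) hinv
  obtain ⟨x, hx⟩ := exists_order (G := Spor.M12) (r := 11) (n := 8640) (by norm_num) (by rw [hcard])
  have c11 := card_cent_of_sylow (r := 11) (n := 8640) (by norm_num) (by rw [hcard]) (by norm_num)
    (fun P => Cfsg.Agent.MTwelve.SylowEleven.centralizer_sylow11 hcard P) hx
  simp only [List.mem_cons, List.not_mem_nil, or_false] at hm
  have k2 : Row 2 Spor.M12 := Row.intro (q := 11) (by norm_num) (by norm_num) (by rw [card_M12]; norm_num)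
    (bd_four_sylow hn (by norm_num) h4 (d := 54) (by norm_num) hx c11 (by norm_num) (by norm_num) (by norm_num))
  have k3 : Row 3 Spor.M12 := Row.intro (q := 11) (by norm_num) (by norm_num) (by rw [card_M12]; norm_num)
    (bd_four_sylow hn (by norm_num) h4 (d := 54) (by norm_num) hx c11 (by norm_num) (by norm_num) (by norm_num))
  have k5 : Row 5 Spor.M12 := Row.intro (q := 2) (by norm_num) (by norm_num) (by rw [card_M12]; norm_num)
    (bd_four_real hn (by norm_num) h4 (d := 55) (by norm_num) (by decide) (by norm_num))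
  have k11 : Row 11 Spor.M12 := Row.intro (q := 2) (by norm_num) (by norm_num) (by rw [card_M12]; norm_num)
    (bd_four_real hn (by norm_num) h4 (d := 55) (by norm_num) (by decide) (by norm_num))
  rcases hm with rfl | rfl | rfl | rfl | rfl | rfl | rfl | rfl | rfl | rfl | rfl <;> assumption

theorem row_m22 {S : Type u} [Group S] (h : Cfsg.Spor.IsoM22 S) {p : ℕ} (hp : p.Prime) (hd : p ∣ Nat.card S) :
    Row p S := by
  obtain ⟨e⟩ := h
  have := Cfsg.Agent.SporadicA.MathieuRecog.simple_M22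
  have hcard : Nat.card Spor.M22 = 443520 := card_M22
  have : Finite Spor.M22 := Nat.finite_of_card_ne_zero (by rw [hcard]; norm_num)
  rw [Nat.card_congr e.toEquiv, card_M22] at hd
  have hm := prime_cases hp [2, 2, 2, 2, 2, 2, 2, 3, 3, 5, 7, 11] (by decide) hd (by decide)
  refine Row.of_equiv e ?_
  let _ := actSub XH hXH
  simp only [List.mem_cons, List.not_mem_nil, or_false] at hm
  have k2 : Row 2 Spor.M22 := by
    refine row_two_of_noTwo (r := 5) (by norm_num) (by rw [hcard]; norm_num) (by rw [hcard]; norm_num)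
      (by rw [hcard]; norm_num) Cfsg.Agent.H729.PairMathieu.noTwo22 ?_
    intro e he he1
    have h4 : e ∈ Nat.divisors 4 := Nat.mem_divisors.2 ⟨he, by norm_num⟩
    have h5 : ∀ e ∈ Nat.divisors 4, e ≠ 1 → 2 ∣ e := by decide
    exact h5 e h4 he1
  have kk : ∀ p, p ≠ 2 → chk 16 60 p = true → Row p Spor.M22 := fun p hp2 hc =>
    Row.intro (q := 2) (by norm_num) hp2.symm (by rw [hcard]; norm_num)
      (bd_of_chk r3_hexads (Or.inr (by rw [hcard]; decide)) hc)
  have k3 := kk 3 (by norm_num) (by decide +kernel)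
  have k5 := kk 5 (by norm_num) (by decide +kernel)
  have k7 := kk 7 (by norm_num) (by decide +kernel)
  have k11 := kk 11 (by norm_num) (by decide +kernel)
  rcases hm with rfl | rfl | rfl | rfl | rfl | rfl | rfl | rfl | rfl | rfl | rfl | rfl <;> assumption

theorem row_m23 {S : Type u} [Group S] (h : Cfsg.Spor.IsoM23 S) {p : ℕ} (hp : p.Prime) (hd : p ∣ Nat.card S) :
    Row p S := by
  obtain ⟨e⟩ := h
  have := Cfsg.Agent.H729.PairMathieu.simple_M23
  have hcard : Nat.card Spor.M23 = 10200960 := card_M23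
  have : Finite Spor.M23 := Nat.finite_of_card_ne_zero (by rw [hcard]; norm_num)
  rw [Nat.card_congr e.toEquiv, card_M23] at hd
  have hm := prime_cases hp [2, 2, 2, 2, 2, 2, 2, 3, 3, 5, 7, 11, 23] (by decide) hd (by decide)
  refine Row.of_equiv e ?_
  obtain ⟨hinv, h4, hn⟩ := four_m23
  let _ := actOn Spor.M23 {x : GolayPt | x ≠ none} hinv
  obtain ⟨x, hx⟩ := exists_order (G := Spor.M23) (r := 23) (n := 443520) (by norm_num) (by rw [hcard])
  obtain ⟨y, hy⟩ := exists_order (G := Spor.M23) (r := 11) (n := 927360) (by norm_num) (by rw [hcard])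
  have c23 := card_cent_of_sylow (r := 23) (n := 443520) (by norm_num) (by rw [hcard]) (by norm_num)
    (fun P => Cfsg.Agent.M23.Sylow23.centralizer_eq hcard P) hx
  have c11 := card_cent_of_sylow (r := 11) (n := 927360) (by norm_num) (by rw [hcard]) (by norm_num)
    (fun P => Cfsg.Agent.M23.SylowEleven.centralizer_eq hcard P) hy
  simp only [List.mem_cons, List.not_mem_nil, or_false] at hm
  have k2 : Row 2 Spor.M23 := Row.intro (q := 23) (by norm_num) (by norm_num) (by rw [hcard]; norm_num)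
    (bd_four_sylow hn (by norm_num) h4 (d := 22) (by norm_num) hx c23 (by norm_num) (by norm_num) (by norm_num))
  have kr : ∀ p, p ≠ 2 → p ∣ 231 → Row p Spor.M23 := fun p hp2 hc =>
    Row.intro (q := 2) (by norm_num) hp2.symm (by rw [hcard]; norm_num)
      (bd_four_real hn (by norm_num) h4 (d := 231) (by norm_num) (by decide) hc)
  have k3 := kr 3 (by norm_num) (by norm_num)
  have k7 := kr 7 (by norm_num) (by norm_num)
  have k11 := kr 11 (by norm_num) (by norm_num)
  have ks : ∀ p, p ≠ 11 → p ∣ 230 → Row p Spor.M23 := fun p hp2 hc =>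
    Row.intro (q := 11) (by norm_num) hp2.symm (by rw [hcard]; norm_num)
      (bd_four_sylow hn (by norm_num) h4 (d := 230) (by norm_num) hy c11 (by norm_num) (by norm_num) hc)
  have k5 := ks 5 (by norm_num) (by norm_num)
  have k23 := ks 23 (by norm_num) (by norm_num)
  rcases hm with rfl | rfl | rfl | rfl | rfl | rfl | rfl | rfl | rfl | rfl | rfl | rfl | rfl <;> assumption

theorem row_m24 {S : Type u} [Group S] (h : Cfsg.Spor.IsoM24 S) {p : ℕ} (hp : p.Prime) (hd : p ∣ Nat.card S) :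
    Row p S := by
  have hcS : Nat.card S = 244823040 := NotCT.Orders.m24 h
  obtain ⟨e⟩ := h
  have hcard : Nat.card M24 = 244823040 := by rw [← hcS]; exact (Nat.card_congr e.toEquiv).symm
  have : Finite M24 := Nat.finite_of_card_ne_zero (by rw [hcard]; norm_num)
  rw [hcS] at hd
  have hm := prime_cases hp [2, 2, 2, 2, 2, 2, 2, 2, 2, 2, 3, 3, 3, 5, 7, 11, 23] (by decide) hd (by decide)
  refine Row.of_equiv e ?_
  obtain ⟨h4, hn⟩ := four_m24
  obtain ⟨y, hy⟩ := exists_order (G := M24) (r := 11) (n := 22256640) (by norm_num) (by rw [hcard])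
  have c11 := Cfsg.Agent.H729.PairMathieu.card_cent_eleven hy
  simp only [List.mem_cons, List.not_mem_nil, or_false] at hm
  have ks : ∀ p, p ≠ 11 → p ∣ 252 → Row p M24 := fun p hp2 hc =>
    Row.intro (q := 11) (by norm_num) hp2.symm (by rw [hcard]; norm_num)
      (bd_four_sylow hn (by norm_num) h4 (d := 252) (by norm_num) hy c11 (by norm_num) (by norm_num) hc)
  have k2 := ks 2 (by norm_num) (by norm_num)
  have k3 := ks 3 (by norm_num) (by norm_num)
  have k7 := ks 7 (by norm_num) (by norm_num)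
  have kr : ∀ p, p ≠ 2 → p ∣ 253 → Row p M24 := fun p hp2 hc =>
    Row.intro (q := 2) (by norm_num) hp2.symm (by rw [hcard]; norm_num)
      (bd_four_real hn (by norm_num) h4 (d := 253) (by norm_num) (by decide) hc)
  have k11 := kr 11 (by norm_num) (by norm_num)
  have k23 := kr 23 (by norm_num) (by norm_num)
  have k5 : Row 5 M24 := by
    let _ := actSub XD hXD
    exact Row.intro (q := 2) (by norm_num) (by norm_num) (by rw [hcard]; norm_num)
      (bd_of_chk r3_m24 (Or.inl (by decide)) (by decide +kernel))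
  rcases hm with rfl | rfl | rfl | rfl | rfl | rfl | rfl | rfl | rfl | rfl | rfl | rfl | rfl | rfl | rfl | rfl | rfl <;>
    assumption

end Cfsg.Agent.H701.PBMathieu
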