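import Cfsg.Agent.H701.Cent
import Cfsg.Agent.CTwoTab.Co3
import Cfsg.Agent.KFacts.Co3.Syl
import Cfsg.Agent.SporRec.Co3.Model

set_option autoImplicit false

/-!
The Conway group `Co3`: two classes of involutions.
-/

namespace Cfsg.Agent.H701

open Subgroup Cfsg Cfsg.Spor
open Cfsg.Agent.SporRec.Co3.Chain Cfsg.Agent.SporRec.Co3.Ident

theorem exists_w_co3 : ∃ w : G3, w * w = 1 ∧ w ≠ 1 ∧
    Nat.card (centralizer ({w} : Set G3)) ≤ 190080 ∧
    95040 ∣ Nat.card (centralizer ({w} : Set G3)) := by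
  obtain ⟨e⟩ := SigZero.CoThree.exists_equiv
  have hmem : ∀ g : Subgroup.centralizer ({e SigZero.CoThreeB.wK} : Set G3), e.symm g ∈ SigZero.CoThreeB.C := by
    intro g
    rw [SigZero.CoThreeB.mem_C]
    apply e.injective
    rw [map_mul, map_mul, e.apply_symm_apply]
    exact Subgroup.mem_centralizer_singleton_iff.1 g.2
  have hmem' : ∀ g : SigZero.CoThreeB.C, e g ∈ Subgroup.centralizer ({e SigZero.CoThreeB.wK} : Set G3) := by
    intro g
    rw [Subgroup.mem_centralizer_singleton_iff, ← map_mul, ← map_mul, SigZero.CoThreeB.mem_C.1 g.2]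
  let f : Subgroup.centralizer ({e SigZero.CoThreeB.wK} : Set G3) →* SigZero.CoThreeB.C :=
    { toFun := fun g => ⟨e.symm g, hmem g⟩
      map_one' := Subtype.ext (map_one e.symm)
      map_mul' := fun a b => Subtype.ext (map_mul e.symm (a : G3) b) }
  have hw2 : e SigZero.CoThreeB.wK * e SigZero.CoThreeB.wK = 1 := by
    rw [← map_mul, SigZero.CoThreeB.wK_sq, map_one]
  have hw1 : e SigZero.CoThreeB.wK ≠ 1 := fun h => SigZero.CoThreeB.wK_ne ((map_eq_one_iff e e.injective).1 h)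
  refine ⟨e SigZero.CoThreeB.wK, hw2, hw1, ?_, ?_⟩
  · refine le_trans (le_of_eq ?_) SigZero.CoThree.card_C_le
    exact Nat.card_congr ⟨fun g => ⟨e.symm g, hmem g⟩, fun g => ⟨e g, hmem' g⟩,
      fun g => Subtype.ext (e.apply_symm_apply _), fun g => Subtype.ext (e.symm_apply_apply _)⟩
  · rw [← MTwelveType.SylowModel.card_M12]
    refine Subgroup.card_dvd_of_surjective (SigZero.CoThreeB.proj.comp f) fun u => ?_
    obtain ⟨g, rfl⟩ := SigZero.CoThreeB.proj_surj u
    refine ⟨⟨e g, hmem' g⟩, ?_⟩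
    exact congrArg SigZero.CoThreeB.proj (Subtype.ext (e.symm_apply_apply _))

theorem ex2_co3 {K : Type*} [Group K] [Finite K] (h : Cfsg.Spor.IsoCo3 K) : Ex2 K := by
  obtain ⟨e⟩ := h
  have e' : G3 ≃* Spor.Co3 := SporRec.Co3.Model.equivCo3
  have : Finite G3 := Finite.of_equiv K (e.trans e'.symm).toEquiv
  obtain ⟨w, hw, hw1, hle, hdvd⟩ := exists_w_co3
  have h1 : Nat.card (centralizer ({Z} : Set G3)) = 2903040 := KFacts.Co3.Syl.card_Z
  refine Ex2.congr (e'.trans e.symm) (Ex2.of_prime (l := 3) Nat.prime_three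
    (KFacts.Co3D4.orderOf_Z.trans (orderOf_eq_prime (by rw [pow_two, hw]) hw1).symm) ?_
    (by rw [h1]; norm_num) ((by norm_num : 3 ∣ 95040).trans hdvd) ?_)
  · rw [KFacts.Co3D4.orderOf_Z]; norm_num
  · intro hc
    have h2 := card_centralizer_eq_of_isConj hc
    omega

end Cfsg.Agent.H701
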