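import Cfsg.Agent.H701.Cent
import Cfsg.Agent.Co2Type.FactsD
import Cfsg.Agent.Co2Type.FactsClass

set_option autoImplicit false

/-!
The Conway group `Co2`: three classes of involutions.
-/

namespace Cfsg.Agent.H701

open Subgroup Cfsg
open Cfsg.Agent.SporadicStructure.M24El Cfsg.Agent.Co2Type.Mono Cfsg.Agent.Co2Type.TData Cfsg.Agent.Co2Type.TGroup
open Cfsg.Agent.Co2Type.FactsClass Cfsg.Agent.Co2Type.FactsD

theorem ex2_co2 {K : Type*} [Group K] (h : Cfsg.Spor.IsoCo2 K) : Ex2 K := by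
  obtain ⟨e⟩ := h
  have key : ∀ {m : ℕ}, inE m = true → mo2 m idP ≠ 1 → orderOf (mo2 m idP) = 2 := fun hm h1 =>
    orderOf_eq_prime (by rw [pow_two]; exact Cfsg.Agent.Co2Type.FactsD.ge_sq hm) h1
  refine Ex2.congr e.symm (Ex2.of_triple (n := 2) ⟨mo2 mz idP, mo2 my idP, mo2 mv idP, key iz ?_,
    key iy ?_, key iv ?_, not_zy, not_zv, not_yv⟩)
  · intro hc
    have := Cfsg.Agent.Co2Type.FactsClass.tr_z
    rw [hc, tr_one] at this
    omega
  · intro hc
    have := Cfsg.Agent.Co2Type.FactsClass.tr_y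
    rw [hc, tr_one] at this
    omega
  · intro hc
    have := Cfsg.Agent.Co2Type.FactsClass.tr_v
    rw [hc, tr_one] at this
    omega

end Cfsg.Agent.H701
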