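import Cfsg.Agent.H701.Cent
import Cfsg.Agent.CTwoTab.FiTF
import Cfsg.Agent.KFacts.FiTF.SheetF

set_option autoImplicit false

/-!
The Fischer group `Fi24'`: products of two and of four commuting transpositions.
-/

namespace Cfsg.Agent.H701

open Cfsg Cfsg.Spor Cfsg.Agent.R01 Cfsg.Agent.R08 Cfsg.Agent.R08.FiTwentyFour
open Cfsg.Agent.R08.TetTwo Cfsg.Agent.R08.TetThree Cfsg.Agent.R08.TetBasic
open Subgroup
open Cfsg.Agent.CTwoTab.FiTF

theorem card_z0 : Nat.card (centralizer ({z0} : Set Spor.Fi24')) = 160526499840 := by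
  have := finite_Fi24
  have h2 := KFacts.FiTF.Abs.card_CK KFacts.FiTF.frame
  rw [KFacts.FiTF.Order.card] at h2
  change Nat.card (centralizer ({z0} : Set Spor.Fi24')) * 2 = _ at h2
  omega

theorem ex2_fi24 {K : Type*} [Group K] [Finite K] (h : Cfsg.Spor.IsoFi24' K) : Ex2 K := by
  obtain ⟨e⟩ := h
  have : Finite Spor.Fi24' := Finite.of_equiv K e.toEquiv
  have h := KFacts.FiTF.Tet.isTet (t := 0) (by norm_num)
  have hz : KFacts.FiTF.Defs.z ≠ 1 := KFacts.FiTF.frame.z1
  generalize KFacts.FiTF.Defs.D 0 0 = a at h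
  generalize KFacts.FiTF.Defs.D 0 1 = b at h
  generalize KFacts.FiTF.Defs.D 0 2 = c at h
  generalize KFacts.FiTF.Defs.D 0 3 = d at h
  obtain ⟨P⟩ := TetFi24A.exists_at h.ha h.hb h.nab h.ab
  have aa : a * a = 1 := FiTwentyFour.sq h.ha
  have bb : b * b = 1 := FiTwentyFour.sq h.hb
  let t : Spor.Fi24' := ⟨a * b, FiTwentyFour.even h.ha h.hb⟩
  have ht : (t : Fi24) = a * b := rfl
  have h1 : Nat.card ↥(N a b) ∣ Nat.card (centralizer ({t} : Set Spor.Fi24')) :=
    card_dvd_of_le (N_le ht)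
  rw [(Nat.card_congr (eN a b).toEquiv).trans (OddHalf.D4.Spor.FiTF.card_Cab P)] at h1
  have h2 := card_z0
  refine Ex2.congr e.symm (Ex2.of_inv (l := 3) (x := z0) (y := t) ?_ ?_ ?_ ?_
    Nat.prime_three (by norm_num) ?_ (by rw [h2]; norm_num) ((by norm_num : 3 ∣ 2 * 64561751654400).trans h1))
  · exact Subtype.ext KFacts.FiTF.frame.zz
  · exact fun h1 => hz (congrArg Subtype.val h1)
  · apply Subtype.ext
    show a * b * (a * b) = 1
    calc a * b * (a * b) = a * b * (b * a) := by rw [h.ab.eq]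
      _ = a * (b * b) * a := by group
      _ = 1 := by rw [bb, mul_one, aa]
  · exact fun h1 => OddHalf.D4.Spor.FiTF.pair_ne h.hb h.nab (congrArg Subtype.val h1)
  · intro hc
    have h3 := card_centralizer_eq_of_isConj hc
    rw [← h3, h2] at h1
    revert h1
    norm_num

end Cfsg.Agent.H701
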