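import Cfsg.Agent.H701.AltThree

set_option autoImplicit false

/-!
Two classes of cycles of odd length in some alternating groups.
-/

namespace Cfsg.Agent.H701

open Equiv Equiv.Perm

theorem pair_alt_three {n : ℕ} (hn : 6 ≤ n) : Pair (alternatingGroup (Fin n)) 3 := by
  obtain ⟨a, ha⟩ := exists_alt (n := n) {3} (by simp; omega) (by simp) (by decide)
  obtain ⟨b, hb⟩ := exists_alt (n := n) {3, 3} (by simp; omega) (by simp) (by decide)
  refine ⟨a, b, ?_, ?_, ?_⟩
  · rw [orderOf_alt, ha]; decide
  · rw [orderOf_alt, hb]; decide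
  · apply not_isConj_alt; rw [ha, hb]; decide

theorem pair_alt_cycle {n m : ℕ} (hm : 4 ≤ m) (hmn : m ≤ n) (hodd : Odd m)
    (hd : ¬ (m - 1).factorial * n.choose m ∣ Nat.card (alternatingGroup (Fin n))) :
    Pair (alternatingGroup (Fin n)) m := by
  classical
  obtain ⟨a, ha⟩ := exists_alt (n := n) {m} (by simp; omega) (by simp; omega)
    (by simp; exact hodd.add_one)
  let S : Set (alternatingGroup (Fin n)) := {g | (g : Perm (Fin n)).cycleType = {m}}
  have hcard : Nat.card S = (m - 1).factorial * n.choose m := by
    have := AlternatingGroup.card_of_cycleType_singleton (α := Fin n) (n := m) (by omega)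
      (by simpa using hmn)
    rw [if_pos hodd, Fintype.card_fin] at this
    rw [← this, Nat.card_eq_fintype_card, Fintype.card_subtype]
    rfl
  obtain ⟨b, hb, hab⟩ := exists_not_isConj_of_card a S ha (by
    intro x hx g
    show ((g * x * g⁻¹ : alternatingGroup (Fin n)) : Perm (Fin n)).cycleType = {m}
    rw [Subgroup.coe_mul, Subgroup.coe_mul, Subgroup.coe_inv, cycleType_conj]
    exact hx) (by rw [hcard]; exact hd)
  refine ⟨a, b, ?_, ?_, hab⟩
  · rw [orderOf_alt, ha]; simp
  · rw [orderOf_alt, show (b : Perm (Fin n)).cycleType = {m} from hb]; simp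

theorem card_alt {k : ℕ} (hk : 2 ≤ k) : 2 * Nat.card (alternatingGroup (Fin k)) = k.factorial := by
  haveI : Nontrivial (Fin k) := Fin.nontrivial_iff_two_le.2 hk
  rw [Nat.card_eq_fintype_card, two_mul_card_alternatingGroup, Fintype.card_perm,
    Fintype.card_fin]

theorem pair_alt_five : Pair (alternatingGroup (Fin 5)) 5 := by
  apply pair_alt_cycle (by norm_num) (by norm_num) (by decide)
  have := card_alt (k := 5) (by norm_num)
  rw [show (5 : ℕ).factorial = 120 from rfl] at this
  rw [show Nat.card (alternatingGroup (Fin 5)) = 60 by omega]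
  decide

theorem pair_alt_seven : Pair (alternatingGroup (Fin 8)) 7 := by
  apply pair_alt_cycle (by norm_num) (by norm_num) (by decide)
  have := card_alt (k := 8) (by norm_num)
  rw [show (8 : ℕ).factorial = 40320 from rfl] at this
  rw [show Nat.card (alternatingGroup (Fin 8)) = 20160 by omega]
  decide

end Cfsg.Agent.H701
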