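import Cfsg.Agent.H504.ZerosIso

/-!
# Columns of a `CC`-subgroup together with further columns (S4895)
-/

set_option autoImplicit false

namespace Cfsg.Agent.H701.ZCols

open Cfsg Cfsg.Agent.H504.Zeros Cfsg.Agent.H504.ZeroTI

/-- the `m` classes meeting `A#` (at most `e + m` nonzero entries) and the classes of the elements of `t`
(at most `|C(g)|` nonzero entries) -/
theorem big_of_cc_cols {G : Type*} [Group G] [Finite G] {A : Subgroup G} (hA : CC A) {e m k : ℕ}
    (he : eIdx A = e) (hm : 2 ≤ m) (hem : Nat.card A = e * m + 1) (t : Finset G) (ht : NonConj t)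
    (hout : ∀ g ∈ t, ∀ a ∈ A, a ≠ 1 → ¬ IsConj g a) (b : G → ℕ)
    (hb : ∀ g ∈ t, Nat.card (Subgroup.centralizer ({g} : Set G)) ≤ b g) (hk : k ≤ Nat.card (ConjClasses G))
    (h : 7 + m * (e + m) + ∑ g ∈ t, b g ≤ (m + t.card - 1) * k) : Big G := by
  classical
  obtain ⟨s, hs, hsc, hsA⟩ := exists_reps (m := m) hA (by rw [he]; exact hem)
  have hdisj : Disjoint s t := by
    rw [Finset.disjoint_left]
    intro g hg hg'
    exact hout g hg' g (hsA g hg).1 (hsA g hg).2 (IsConj.refl g)
  have hcard : (s ∪ t).card = m + t.card := by rw [Finset.card_union_of_disjoint hdisj, hsc]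
  refine big_of_cols (s ∪ t) ?_ (fun g => if g ∈ s then e + m else b g) ?_ k hk (by rw [hcard]; omega) ?_
  · intro g hg g' hg' hc
    rcases Finset.mem_union.1 hg with h1 | h1 <;> rcases Finset.mem_union.1 hg' with h2 | h2
    · exact hs g h1 g' h2 hc
    · exact absurd hc.symm (hout g' h2 g (hsA g h1).1 (hsA g h1).2)
    · exact absurd hc (hout g h1 g' (hsA g' h2).1 (hsA g' h2).2)
    · exact ht g h1 g' h2 hc
  · intro g hg
    by_cases h1 : g ∈ s
    · simp only [if_pos h1]
      have := nv_le_of_cc hA hm (by rw [he]; exact hem) (hsA g h1).1 (hsA g h1).2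
      rwa [he] at this
    · simp only [if_neg h1]
      have h2 : g ∈ t := (Finset.mem_union.1 hg).resolve_left h1
      exact (nv_le_card_centralizer g).trans (hb g h2)
  · rw [hcard, Finset.sum_union hdisj]
    have h1 : ∑ g ∈ s, (if g ∈ s then e + m else b g) = m * (e + m) := by
      rw [Finset.sum_congr rfl fun g hg => if_pos hg, Finset.sum_const, hsc, smul_eq_mul]
    have h2 : ∑ g ∈ t, (if g ∈ s then e + m else b g) = ∑ g ∈ t, b g := by
      refine Finset.sum_congr rfl fun g hg => if_neg fun h3 => ?_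
      exact Finset.disjoint_left.1 hdisj h3 hg
    rw [h1, h2]
    omega

/-- the same for a self-centralizing element of prime order `r` -/
theorem big_of_prime_cols {G : Type*} [Group G] [Finite G] {x : G} {r n e m k : ℕ} (hr : r.Prime)
    (hx : orderOf x = r) (hc : Nat.card (Subgroup.centralizer ({x} : Set G)) = r) (hn : Nat.card G = r * n)
    (he : n % r = e) (hm : 2 ≤ m) (hem : r = e * m + 1) (t : Finset G) (ht : NonConj t)
    (hout : ∀ g ∈ t, orderOf g ≠ r) (b : G → ℕ)
    (hb : ∀ g ∈ t, Nat.card (Subgroup.centralizer ({g} : Set G)) ≤ b g) (hk : k ≤ Nat.card (ConjClasses G))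
    (h : 7 + m * (e + m) + ∑ g ∈ t, b g ≤ (m + t.card - 1) * k) : Big G := by
  have hA := cc_of_prime hr hx hc
  have cA : Nat.card (Subgroup.zpowers x) = r := by rw [Nat.card_zpowers, hx]
  have h1 := eIdx_eq_mod hA (by rw [cA]; exact hr.one_lt) (n := n) (by rw [hn, cA])
  rw [cA, he] at h1
  refine big_of_cc_cols hA h1 hm (by rw [cA, hem]) t ht ?_ b hb hk h
  intro g hg a ha ha1 hc'
  apply hout g hg
  have h2 : orderOf g = orderOf a := by
    obtain ⟨c, rfl⟩ := isConj_iff.1 hc'
    exact ((MulAut.conj c).orderOf_eq g).symm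
  have h3 : orderOf a ∣ r := by
    have := orderOf_dvd_natCard (⟨a, ha⟩ : Subgroup.zpowers x)
    rwa [← Subgroup.orderOf_coe, cA] at this
  rcases (Nat.dvd_prime hr).1 h3 with h4 | h4
  · exact absurd (orderOf_eq_one_iff.1 h4) ha1
  · rw [h2, h4]

/-- class number bound from a self-centralizing element of prime order and classes outside -/
theorem classes_of_prime {G : Type*} [Group G] [Finite G] {x : G} {r n e m : ℕ} (hr : r.Prime)
    (hx : orderOf x = r) (hc : Nat.card (Subgroup.centralizer ({x} : Set G)) = r) (hn : Nat.card G = r * n)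
    (he : n % r = e) (hem : r = e * m + 1) (t : Finset G) (ht : NonConj t)
    (hout : ∀ g ∈ t, orderOf g ≠ r) : m + t.card ≤ Nat.card (ConjClasses G) := by
  have hA := cc_of_prime hr hx hc
  have cA : Nat.card (Subgroup.zpowers x) = r := by rw [Nat.card_zpowers, hx]
  have h1 := eIdx_eq_mod hA (by rw [cA]; exact hr.one_lt) (n := n) (by rw [hn, cA])
  rw [cA, he] at h1
  refine m_add_card_le hA (by rw [h1, cA, hem]) t ht ?_
  intro g hg a ha ha1 hc'
  apply hout g hg
  have h2 : orderOf g = orderOf a := by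
    obtain ⟨c, rfl⟩ := isConj_iff.1 hc'
    exact ((MulAut.conj c).orderOf_eq g).symm
  have h3 : orderOf a ∣ r := by
    have := orderOf_dvd_natCard (⟨a, ha⟩ : Subgroup.zpowers x)
    rwa [← Subgroup.orderOf_coe, cA] at this
  rcases (Nat.dvd_prime hr).1 h3 with h4 | h4
  · exact absurd (orderOf_eq_one_iff.1 h4) ha1
  · rw [h2, h4]

end Cfsg.Agent.H701.ZCols
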