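import Cfsg.Agent.H504.ZerosIso
import Cfsg.Agent.H621.AltChar
import Cfsg.Agent.H525.AltK
import Cfsg.Agent.H701.AltPair
import Cfsg.Agent.H701.ZerosCols

/-!
# Zeros of characters of the alternating groups (S4895, row ALT)
-/

set_option autoImplicit false

namespace Cfsg.Agent.H701.ZAlt

open Cfsg Equiv Equiv.Perm Cfsg.Agent.H504.Zeros Cfsg.Agent.H504.ZeroTI

/-! ### elements with given cycle types -/

/-- the cycle types of the even permutations of `n` points -/
def Ok (n : ℕ) (t : Multiset ℕ) : Prop := t.sum ≤ n ∧ (∀ a ∈ t, 2 ≤ a) ∧ Even (t.sum + Multiset.card t)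

open Classical in
/-- an even permutation of cycle type `t` -/
noncomputable def el (n : ℕ) (t : Multiset ℕ) : alternatingGroup (Fin n) :=
  if h : ∃ x : alternatingGroup (Fin n), (x : Perm (Fin n)).cycleType = t then h.choose else 1

theorem el_type {n : ℕ} {t : Multiset ℕ} (h : Ok n t) : (el n t : Perm (Fin n)).cycleType = t := by
  have h' := exists_alt t h.1 h.2.1 h.2.2
  rw [el, dif_pos h']
  exact h'.choose_spec

theorem el_inj {n : ℕ} {t t' : Multiset ℕ} (h : Ok n t) (h' : Ok n t') (e : el n t = el n t') : t = t' := by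
  rw [← el_type h, ← el_type h', e]

theorem el_conj {n : ℕ} {t t' : Multiset ℕ} (h : Ok n t) (h' : Ok n t') (e : IsConj (el n t) (el n t')) :
    t = t' := by
  by_contra hne
  exact not_isConj_alt (by rwa [el_type h, el_type h']) e

theorem nonConj_image {n : ℕ} [DecidableEq (alternatingGroup (Fin n))] (T : Finset (Multiset ℕ))
    (hT : ∀ t ∈ T, Ok n t) : NonConj (T.image (el n)) := by
  intro g hg h hh hc
  obtain ⟨t, ht, rfl⟩ := Finset.mem_image.1 hg
  obtain ⟨t', ht', rfl⟩ := Finset.mem_image.1 hh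
  rw [el_conj (hT t ht) (hT t' ht') hc]

theorem card_image {n : ℕ} [DecidableEq (alternatingGroup (Fin n))] (T : Finset (Multiset ℕ))
    (hT : ∀ t ∈ T, Ok n t) : (T.image (el n)).card = T.card :=
  Finset.card_image_of_injOn fun t ht t' ht' e => el_inj (hT t ht) (hT t' ht') e

/-! ### fixed points -/

theorem nf_alt {n : ℕ} (x : alternatingGroup (Fin n)) :
    H621.AltChar.nf (Fin n) x + (x : Perm (Fin n)).cycleType.sum = n := by
  classical
  rw [H621.AltChar.nf, Nat.card_eq_fintype_card, Fintype.card_subtype, Equiv.Perm.sum_cycleType]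
  have h1 : (Finset.univ.filter fun a : Fin n => x • a = a) = (x : Perm (Fin n)).supportᶜ := by
    ext a
    rw [Finset.mem_filter, Finset.mem_compl, Equiv.Perm.mem_support, not_not]
    exact ⟨fun h => h.2, fun h => ⟨Finset.mem_univ _, h⟩⟩
  rw [h1, Finset.card_compl, Fintype.card_fin]
  have := Finset.card_le_univ (x : Perm (Fin n)).support
  rw [Fintype.card_fin] at this
  omega

/-- the row `(n - 1, 1)` -/
theorem big_of_types {n : ℕ} (hn : 7 ≤ n) (T : Finset (Multiset ℕ))
    (hT : ∀ t ∈ T, t.sum + 1 = n ∧ (∀ a ∈ t, 2 ≤ a) ∧ Even (t.sum + Multiset.card t)) (h9 : 9 ≤ T.card) :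
    Big (alternatingGroup (Fin n)) := by
  classical
  have hT' : ∀ t ∈ T, Ok n t := fun t ht => ⟨by have := (hT t ht).1; omega, (hT t ht).2⟩
  have htr := H621.AltChar.trans_alt hn
  have hirr := H621.AltChar.irr_one (G := alternatingGroup (Fin n)) (Ω := Fin n)
    (by rw [Nat.card_eq_fintype_card, Fintype.card_fin]; omega) htr
  refine big_of_row ⟨_, hirr⟩ (T.image (el n)) (nonConj_image T hT') ?_ (by rw [card_image T hT']; exact h9)
  intro g hg
  obtain ⟨t, ht, rfl⟩ := Finset.mem_image.1 hg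
  have h1 := nf_alt (el n t)
  rw [el_type (hT' t ht)] at h1
  have h2 := (hT t ht).1
  have h3 : H621.AltChar.nf (Fin n) (el n t) = 1 := by omega
  show ((H621.AltChar.nf (Fin n) (el n t) : ℕ) : ℂ) - 1 = 0
  rw [h3, Nat.cast_one, sub_self]

/-! ### the points in `2`-cycles -/

theorem count_two {α : Type*} [Fintype α] [DecidableEq α] (g : Perm α) :
    (Finset.univ.filter fun a : α => g a ≠ a ∧ g (g a) = a).card = 2 * g.cycleType.count 2 := by
  induction g using Equiv.Perm.cycle_induction_on with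
  | base_one => simp
  | base_cycles σ hσ =>
    rw [hσ.cycleType]
    by_cases h2 : σ.support.card = 2
    · rw [h2, Multiset.count_singleton_self, mul_one]
      have h3 : (Finset.univ.filter fun a : α => σ a ≠ a ∧ σ (σ a) = a) = σ.support := by
        ext a
        rw [Finset.mem_filter, mem_support]
        refine ⟨fun h => h.2.1, fun h => ⟨Finset.mem_univ _, h, ?_⟩⟩
        have h4 : σ ^ 2 = 1 := by rw [← h2, ← hσ.orderOf, pow_orderOf_eq_one]
        have h5 := DFunLike.congr_fun h4 a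
        simpa [pow_two] using h5
      rw [h3, h2]
    · rw [Multiset.count_singleton, if_neg (Ne.symm h2), mul_zero, Finset.card_eq_zero,
        Finset.filter_eq_empty_iff]
      rintro a - ⟨h3, h4⟩
      apply h2
      rw [← hσ.orderOf]
      have h5 : σ ^ 2 = 1 := by
        rw [hσ.pow_eq_one_iff' (x := a) h3]
        simpa [pow_two] using h4
      have h6 := orderOf_dvd_of_pow_eq_one h5
      rcases (Nat.dvd_prime Nat.prime_two).1 h6 with h7 | h7
      · exact absurd (orderOf_eq_one_iff.1 h7) hσ.ne_one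
      · exact h7
  | induction_disjoint σ τ hd hσ hs ht =>
    rw [hd.cycleType_mul, Multiset.count_add, mul_add, ← hs, ← ht, ← Finset.card_union_of_disjoint]
    · congr 1
      ext a
      rw [Finset.mem_union, Finset.mem_filter, Finset.mem_filter, Finset.mem_filter]
      have k1 : ∀ x, τ x ≠ x → σ x = x := fun x hx => (hd x).resolve_right hx
      have k2 : ∀ x, σ x ≠ x → τ x = x := fun x hx => (hd x).resolve_left hx
      show (_ ∧ σ (τ a) ≠ a ∧ σ (τ (σ (τ a))) = a) ↔ _
      rcases hd a with h | h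
      · by_cases h1 : τ a = a
        · simp [h, h1]
        · have h2 : τ (τ a) ≠ τ a := fun e => h1 (τ.injective e)
          have h3 : σ (τ (τ a)) = τ (τ a) := by
            by_cases h4 : τ (τ a) = a
            · rw [h4, h]
            · exact k1 _ fun e => h2 (τ.injective e)
          rw [k1 _ h2, h3]
          simp [h]
      · by_cases h1 : σ a = a
        · simp [h, h1]
        · have h2 : σ (σ a) ≠ σ a := fun e => h1 (σ.injective e)
          rw [h, k2 _ h2]
          simp
    · rw [Finset.disjoint_left]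
      intro a ha hb
      rw [Finset.mem_filter] at ha hb
      rcases hd a with h | h
      · exact ha.2.1 h
      · exact hb.2.1 h

theorem nu_alt {n : ℕ} (x : alternatingGroup (Fin n)) :
    H621.AltChar.nu (Fin n) x = 2 * (x : Perm (Fin n)).cycleType.count 2 := by
  classical
  rw [← count_two, H621.AltChar.nu, Nat.card_eq_fintype_card, Fintype.card_subtype]
  rfl

/-- the rows `(n - 1, 1)`, `(n - 2, 2)`, `(n - 2, 1, 1)` -/
theorem big_of_rows {n : ℕ} (hn : 7 ≤ n) (T1 T2 T3 : Finset (Multiset ℕ))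
    (h1 : ∀ t ∈ T1, Ok n t ∧ n - t.sum = 1)
    (h2 : ∀ t ∈ T2, Ok n t ∧ (n - t.sum) * (n - t.sum) + 2 * t.count 2 = 3 * (n - t.sum))
    (h3 : ∀ t ∈ T3, Ok n t ∧ (n - t.sum) * (n - t.sum) + 2 = 3 * (n - t.sum) + 2 * t.count 2)
    (c1 : 1 ≤ T1.card) (c2 : 1 ≤ T2.card) (c3 : 1 ≤ T3.card)
    (h : 8 ≤ (T1.card - 1) + (T2.card - 1) + (T3.card - 1)) :
    Big (alternatingGroup (Fin n)) := by
  classical
  have htr := H621.AltChar.trans_alt hn
  have hc : Nat.card (Fin n) = n := by rw [Nat.card_eq_fintype_card, Fintype.card_fin]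
  have i1 := H621.AltChar.irr_one (G := alternatingGroup (Fin n)) (Ω := Fin n) (by rw [hc]; omega) htr
  have i2 := H621.AltChar.irr_a (G := alternatingGroup (Fin n)) (Ω := Fin n) (by rw [hc]; omega) htr
  have i3 := H621.AltChar.irr_b (G := alternatingGroup (Fin n)) (Ω := Fin n) (by rw [hc]; omega) htr
  let χ1 : IrrCharacter (alternatingGroup (Fin n)) := ⟨_, i1⟩
  let χ2 : IrrCharacter (alternatingGroup (Fin n)) := ⟨_, i2⟩
  let χ3 : IrrCharacter (alternatingGroup (Fin n)) := ⟨_, i3⟩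
  have nf1 : ∀ t, Ok n t → H621.AltChar.nf (Fin n) (el n t) = n - t.sum := by
    intro t ht
    have := nf_alt (el n t)
    rw [el_type ht] at this
    omega
  have nu1 : ∀ t, Ok n t → H621.AltChar.nu (Fin n) (el n t) = 2 * t.count 2 := by
    intro t ht
    rw [nu_alt, el_type ht]
  have z1 : ∀ g ∈ T1.image (el n), (χ1 : _ → ℂ) g = 0 := by
    intro g hg
    obtain ⟨t, ht, rfl⟩ := Finset.mem_image.1 hg
    obtain ⟨a, b⟩ := h1 t ht
    show ((H621.AltChar.nf (Fin n) (el n t) : ℕ) : ℂ) - 1 = 0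
    rw [nf1 t a, b, Nat.cast_one, sub_self]
  have z2 : ∀ g ∈ T2.image (el n), (χ2 : _ → ℂ) g = 0 := by
    intro g hg
    obtain ⟨t, ht, rfl⟩ := Finset.mem_image.1 hg
    obtain ⟨a, b⟩ := h2 t ht
    show (((H621.AltChar.nf (Fin n) (el n t) : ℕ) : ℂ) ^ 2 - 3 * ((H621.AltChar.nf (Fin n) (el n t) : ℕ) : ℂ) +
      ((H621.AltChar.nu (Fin n) (el n t) : ℕ) : ℂ)) / 2 = 0
    rw [nf1 t a, nu1 t a]
    have b' : ((n - t.sum : ℕ) : ℂ) * ((n - t.sum : ℕ) : ℂ) + 2 * (t.count 2 : ℂ) = 3 * ((n - t.sum : ℕ) : ℂ) := by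
      exact_mod_cast b
    push_cast at b' ⊢
    linear_combination b' / 2
  have z3 : ∀ g ∈ T3.image (el n), (χ3 : _ → ℂ) g = 0 := by
    intro g hg
    obtain ⟨t, ht, rfl⟩ := Finset.mem_image.1 hg
    obtain ⟨a, b⟩ := h3 t ht
    show (((H621.AltChar.nf (Fin n) (el n t) : ℕ) : ℂ) ^ 2 - 3 * ((H621.AltChar.nf (Fin n) (el n t) : ℕ) : ℂ) + 2 -
      ((H621.AltChar.nu (Fin n) (el n t) : ℕ) : ℂ)) / 2 = 0
    rw [nf1 t a, nu1 t a]
    have b' : ((n - t.sum : ℕ) : ℂ) * ((n - t.sum : ℕ) : ℂ) + 2 = 3 * ((n - t.sum : ℕ) : ℂ) + 2 * (t.count 2 : ℂ) := by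
      exact_mod_cast b
    push_cast at b' ⊢
    linear_combination b' / 2
  have e1 := le_zc (χ := χ1) (nonConj_image T1 fun t ht => (h1 t ht).1) z1
  have e2 := le_zc (χ := χ2) (nonConj_image T2 fun t ht => (h2 t ht).1) z2
  have e3 := le_zc (χ := χ3) (nonConj_image T3 fun t ht => (h3 t ht).1) z3
  rw [card_image _ fun t ht => (h1 t ht).1] at e1
  rw [card_image _ fun t ht => (h2 t ht).1] at e2
  rw [card_image _ fun t ht => (h3 t ht).1] at e3
  have hne : ∀ (T : Finset (Multiset ℕ)) (χ : IrrCharacter (alternatingGroup (Fin n))), 1 ≤ T.card →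
      (∀ g ∈ T.image (el n), (χ : _ → ℂ) g = 0) → charDegree (χ : alternatingGroup (Fin n) → ℂ) ≠ 1 := by
    intro T χ hT hz
    obtain ⟨t, ht⟩ := Finset.card_pos.1 (show 0 < T.card by omega)
    exact nonlinear_of_zero (hz _ (Finset.mem_image_of_mem _ ht))
  -- the three characters are different
  have o1 : (χ1 : alternatingGroup (Fin n) → ℂ) 1 = (n : ℂ) - 1 := by
    show ((H621.AltChar.nf (Fin n) (1 : alternatingGroup (Fin n)) : ℕ) : ℂ) - 1 = _
    rw [H621.AltChar.nf_one, hc]
  have o2 : (χ2 : alternatingGroup (Fin n) → ℂ) 1 = ((n : ℂ) ^ 2 - 3 * n) / 2 := by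
    show (((H621.AltChar.nf (Fin n) (1 : alternatingGroup (Fin n)) : ℕ) : ℂ) ^ 2 -
      3 * ((H621.AltChar.nf (Fin n) (1 : alternatingGroup (Fin n)) : ℕ) : ℂ) +
      ((H621.AltChar.nu (Fin n) (1 : alternatingGroup (Fin n)) : ℕ) : ℂ)) / 2 = _
    rw [H621.AltChar.nf_one, H621.AltChar.nu_one, hc, Nat.cast_zero, add_zero]
  have o3 : (χ3 : alternatingGroup (Fin n) → ℂ) 1 = ((n : ℂ) ^ 2 - 3 * n + 2) / 2 := by
    show (((H621.AltChar.nf (Fin n) (1 : alternatingGroup (Fin n)) : ℕ) : ℂ) ^ 2 -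
      3 * ((H621.AltChar.nf (Fin n) (1 : alternatingGroup (Fin n)) : ℕ) : ℂ) + 2 -
      ((H621.AltChar.nu (Fin n) (1 : alternatingGroup (Fin n)) : ℕ) : ℂ)) / 2 = _
    rw [H621.AltChar.nf_one, H621.AltChar.nu_one, hc, Nat.cast_zero, sub_zero]
  have n12 : χ1 ≠ χ2 := by
    intro e
    have h5 : ((n : ℂ) - 1) = ((n : ℂ) ^ 2 - 3 * n) / 2 := by rw [← o1, ← o2, e]
    have h6 : ((n * n + 2 : ℕ) : ℂ) = ((5 * n : ℕ) : ℂ) := by
      push_cast
      linear_combination -2 * h5
    have h7 : n * n + 2 = 5 * n := by exact_mod_cast h6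
    nlinarith
  have n13 : χ1 ≠ χ3 := by
    intro e
    have h5 : ((n : ℂ) - 1) = ((n : ℂ) ^ 2 - 3 * n + 2) / 2 := by rw [← o1, ← o3, e]
    have h6 : ((n * n + 4 : ℕ) : ℂ) = ((5 * n : ℕ) : ℂ) := by
      push_cast
      linear_combination -2 * h5
    have h7 : n * n + 4 = 5 * n := by exact_mod_cast h6
    nlinarith
  have n23 : χ2 ≠ χ3 := by
    intro e
    have h5 : ((n : ℂ) ^ 2 - 3 * n) / 2 = ((n : ℂ) ^ 2 - 3 * n + 2) / 2 := by rw [← o2, ← o3, e]
    have h6 : (0 : ℂ) = 1 := by linear_combination h5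
    exact zero_ne_one h6
  refine big_of_sum {χ1, χ2, χ3} (fun χ => if χ = χ1 then T1.card else if χ = χ2 then T2.card else T3.card) ?_ ?_ ?_
  · intro χ hχ
    rw [Finset.mem_insert, Finset.mem_insert, Finset.mem_singleton] at hχ
    rcases hχ with rfl | rfl | rfl
    · exact hne T1 _ c1 z1
    · exact hne T2 _ c2 z2
    · exact hne T3 _ c3 z3
  · intro χ hχ
    rw [Finset.mem_insert, Finset.mem_insert, Finset.mem_singleton] at hχ
    rcases hχ with rfl | rfl | rfl
    · rw [if_pos rfl]; exact e1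
    · rw [if_neg n12.symm, if_pos rfl]; exact e2
    · rw [if_neg n13.symm, if_neg n23.symm]; exact e3
  · rw [Finset.sum_insert (by simp [n12, n13]), Finset.sum_insert (by simp [n23]), Finset.sum_singleton,
      if_pos rfl, if_neg n12.symm, if_pos rfl, if_neg n13.symm, if_neg n23.symm]
    omega

/-! ### nine cycle types -/

theorem cons_inj {a a' j : ℕ} {l l' : Multiset ℕ} (h : ∀ x ∈ l, x ≤ a) (h' : ∀ x ∈ l', x ≤ a')
    (e : (a + j) ::ₘ l = (a' + j) ::ₘ l') : (a, l) = (a', l') := by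
  have h1 : a + j ≤ a' + j := by
    have : a + j ∈ (a' + j) ::ₘ l' := e ▸ Multiset.mem_cons_self _ _
    rcases Multiset.mem_cons.1 this with h2 | h2
    · exact h2.le
    · exact (h' _ h2).trans (Nat.le_add_right _ _)
  have h2 : a' + j ≤ a + j := by
    have : a' + j ∈ (a + j) ::ₘ l := e ▸ Multiset.mem_cons_self _ _
    rcases Multiset.mem_cons.1 this with h2 | h2
    · exact h2.le
    · exact (h _ h2).trans (Nat.le_add_right _ _)
  have h3 : a = a' := by omega
  subst h3
  rw [(Multiset.cons_inj_right _).1 e]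

theorem big_of_base {n m j : ℕ} (hn : 7 ≤ n) (hm : n = m + 2 * j + 1) (B : Finset (ℕ × Multiset ℕ))
    (hB : ∀ b ∈ B, 2 ≤ b.1 ∧ (∀ x ∈ b.2, 2 ≤ x ∧ x ≤ b.1) ∧ b.1 + b.2.sum = m ∧ Even (m + 1 + Multiset.card b.2))
    (h9 : 9 ≤ B.card) : Big (alternatingGroup (Fin n)) := by
  classical
  refine big_of_types hn (B.image fun b => (b.1 + 2 * j) ::ₘ b.2) ?_ ?_
  · intro t ht
    obtain ⟨b, hb, rfl⟩ := Finset.mem_image.1 ht
    obtain ⟨h1, h2, h3, h4⟩ := hB b hb
    refine ⟨?_, ?_, ?_⟩
    · rw [Multiset.sum_cons]; omega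
    · intro a ha
      rcases Multiset.mem_cons.1 ha with h | h
      · omega
      · exact (h2 a h).1
    · rw [Multiset.sum_cons, Multiset.card_cons]
      have h5 : b.1 + 2 * j + b.2.sum + (Multiset.card b.2 + 1) = (m + 1 + Multiset.card b.2) + 2 * j := by omega
      rw [h5]
      exact h4.add (even_two_mul j)
  · rw [Finset.card_image_of_injOn]
    · exact h9
    · intro b hb b' hb' e
      exact cons_inj (fun x hx => ((hB b hb).2.1 x hx).2) (fun x hx => ((hB b' hb').2.1 x hx).2) e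

def evenBase : Finset (ℕ × Multiset ℕ) :=
  {(10, {2}), (9, {3}), (8, {4}), (7, {5}), (6, {6}), (6, {2, 2, 2}), (5, {3, 2, 2}), (4, {4, 2, 2}), (4, {3, 3, 2})}

def oddBase : Finset (ℕ × Multiset ℕ) :=
  {(13, 0), (9, {2, 2}), (8, {3, 2}), (7, {4, 2}), (7, {3, 3}), (6, {5, 2}), (6, {4, 3}), (5, {5, 3}), (5, {4, 4})}

theorem big_large {n : ℕ} (hn : 13 ≤ n) : Big (alternatingGroup (Fin n)) := by
  rcases Nat.even_or_odd n with h | h
  · obtain ⟨j, hj⟩ : ∃ j, n = 13 + 2 * j + 1 := by
      obtain ⟨k, hk⟩ := h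
      exact ⟨k - 7, by omega⟩
    exact big_of_base (by omega) hj oddBase (by decide) (by decide)
  · obtain ⟨j, hj⟩ : ∃ j, n = 12 + 2 * j + 1 := by
      obtain ⟨k, hk⟩ := h
      exact ⟨k - 6, by omega⟩
    exact big_of_base (by omega) hj evenBase (by decide) (by decide)

instance decOk (n : ℕ) (t : Multiset ℕ) : Decidable (Ok n t) := by unfold Ok; infer_instance

theorem big_nine : Big (alternatingGroup (Fin 9)) := by
  refine big_of_rows (by norm_num) {{6, 2}, {5, 3}, {4, 4}, {2, 2, 2, 2}} {{9}, {3, 3, 3}, {6, 2}, {3, 3}}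
    {{5, 3}, {4, 4}, {7}, {4, 3, 2}, {4, 2}} ?_ ?_ ?_ ?_ ?_ ?_ ?_ <;> decide

theorem big_ten : Big (alternatingGroup (Fin 10)) := by
  refine big_of_rows (by norm_num) {{9}, {5, 2, 2}, {4, 3, 2}, {3, 3, 3}} {{7, 3}, {7}, {6, 4}, {6, 2}, {5, 5}, {4, 3, 2}}
    {{9}, {8, 2}, {5, 3}, {4, 4}, {3, 3, 3}} ?_ ?_ ?_ ?_ ?_ ?_ ?_ <;> decide

theorem big_eleven : Big (alternatingGroup (Fin 11)) := by
  refine big_of_rows (by norm_num) {{8, 2}, {7, 3}, {6, 4}, {5, 5}, {4, 2, 2, 2}, {3, 3, 2, 2}}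
    {{11}, {8, 2}, {5, 3, 3}, {5, 3}, {4, 4, 3}} {{9}} ?_ ?_ ?_ ?_ ?_ ?_ ?_ <;> decide

theorem big_twelve : Big (alternatingGroup (Fin 12)) := by
  refine big_of_rows (by norm_num) {{11}, {7, 2, 2}, {6, 3, 2}, {5, 4, 2}, {5, 3, 3}, {4, 4, 3}, {3, 2, 2, 2, 2}}
    {{9, 3}, {9}, {8, 4}, {8, 2}, {7, 5}} {{11}} ?_ ?_ ?_ ?_ ?_ ?_ ?_ <;> decide

/-! ### centralizers in the alternating group -/

theorem card_cent_le {n : ℕ} (x : alternatingGroup (Fin n)) :
    Nat.card (Subgroup.centralizer ({x} : Set (alternatingGroup (Fin n)))) ≤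
      Nat.card ↥(Subgroup.centralizer ({(x : Perm (Fin n))} : Set (Perm (Fin n))) ⊓ alternatingGroup (Fin n)) := by
  rw [← Subgroup.card_map_of_injective (alternatingGroup (Fin n)).subtype_injective]
  apply Subgroup.card_le_of_le
  rintro _ ⟨g, hg, rfl⟩
  refine Subgroup.mem_inf.2 ⟨?_, g.2⟩
  rw [SetLike.mem_coe, Subgroup.mem_centralizer_singleton_iff] at hg
  rw [Subgroup.mem_centralizer_singleton_iff]
  exact congrArg Subtype.val hg

theorem card_centralizer_perm {n : ℕ} (x : Perm (Fin n)) : Nat.card (Subgroup.centralizer ({x} : Set (Perm (Fin n)))) =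
    (n - x.cycleType.sum).factorial * x.cycleType.prod *
      (∏ i ∈ x.cycleType.toFinset, (x.cycleType.count i).factorial) := by
  rw [Equiv.Perm.nat_card_centralizer, Fintype.card_fin]

theorem card_cent_alt_le {n : ℕ} (x : alternatingGroup (Fin n)) :
    Nat.card (Subgroup.centralizer ({x} : Set (alternatingGroup (Fin n)))) ≤
      (n - (x : Perm (Fin n)).cycleType.sum).factorial * (x : Perm (Fin n)).cycleType.prod *
      (∏ i ∈ (x : Perm (Fin n)).cycleType.toFinset, ((x : Perm (Fin n)).cycleType.count i).factorial) := by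
  rw [← card_centralizer_perm]
  exact (card_cent_le x).trans (Subgroup.card_le_of_le inf_le_left)

theorem two_mul_card_cent_alt_le {n : ℕ} (x : alternatingGroup (Fin n))
    (h : ¬ ((∀ c ∈ (x : Perm (Fin n)).cycleType, Odd c) ∧ n ≤ (x : Perm (Fin n)).cycleType.sum + 1 ∧
      ∀ i, (x : Perm (Fin n)).cycleType.count i ≤ 1)) :
    2 * Nat.card (Subgroup.centralizer ({x} : Set (alternatingGroup (Fin n)))) ≤
      (n - (x : Perm (Fin n)).cycleType.sum).factorial * (x : Perm (Fin n)).cycleType.prod *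
      (∏ i ∈ (x : Perm (Fin n)).cycleType.toFinset, ((x : Perm (Fin n)).cycleType.count i).factorial) := by
  rw [← card_centralizer_perm]
  set C := Subgroup.centralizer ({(x : Perm (Fin n))} : Set (Perm (Fin n))) with hC
  have h1 : ¬ C ≤ alternatingGroup (Fin n) := by
    rw [hC, Equiv.Perm.centralizer_le_alternating_iff, Fintype.card_fin]
    exact h
  have h2 : (C ⊓ alternatingGroup (Fin n)).relIndex C ≠ 1 := by
    rw [Ne, Subgroup.relIndex_eq_one]
    exact fun h3 => h1 (h3.trans inf_le_right)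
  have h4 : Nat.card ↥(C ⊓ alternatingGroup (Fin n)) * (C ⊓ alternatingGroup (Fin n)).relIndex C = Nat.card C := by
    rw [← Subgroup.relIndex_bot_left, ← Subgroup.relIndex_bot_left]
    exact Subgroup.relIndex_mul_relIndex _ _ _ bot_le inf_le_left
  have h3 : (C ⊓ alternatingGroup (Fin n)).relIndex C ≠ 0 := by
    intro h5
    rw [h5, mul_zero] at h4
    have : 0 < Nat.card C := Nat.card_pos
    omega
  have h5 := card_cent_le x
  have h6 : 2 ≤ (C ⊓ alternatingGroup (Fin n)).relIndex C := by omega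
  calc 2 * Nat.card (Subgroup.centralizer ({x} : Set (alternatingGroup (Fin n)))) ≤
      2 * Nat.card ↥(C ⊓ alternatingGroup (Fin n)) := Nat.mul_le_mul_left _ h5
    _ ≤ (C ⊓ alternatingGroup (Fin n)).relIndex C * Nat.card ↥(C ⊓ alternatingGroup (Fin n)) :=
      Nat.mul_le_mul_right _ h6
    _ = Nat.card C := by rw [mul_comm, h4]

theorem cent_el_le {n b : ℕ} {t : Multiset ℕ} (h : Ok n t) (h' : ¬ (∀ c ∈ t, Odd c) ∨ ¬ n ≤ t.sum + 1)
    (hb : (n - t.sum).factorial * t.prod * (∏ i ∈ t.toFinset, (t.count i).factorial) = 2 * b) :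
    Nat.card (Subgroup.centralizer ({el n t} : Set (alternatingGroup (Fin n)))) ≤ b := by
  have h1 := two_mul_card_cent_alt_le (el n t) (by
    rw [el_type h]
    rintro ⟨h2, h3, -⟩
    rcases h' with h4 | h4
    · exact h4 h2
    · exact h4 h3)
  rw [el_type h, hb] at h1
  omega

theorem seven_cent {n : ℕ} (hn : n = 7 ∨ n = 8) :
    Nat.card (Subgroup.centralizer ({el n {7}} : Set (alternatingGroup (Fin n)))) = 7 := by
  have hok : Ok n {7} := by rcases hn with rfl | rfl <;> decide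
  have h1 := card_cent_alt_le (el n {7})
  rw [el_type hok] at h1
  have h2 : (n - Multiset.sum {7}).factorial * Multiset.prod ({7} : Multiset ℕ) *
      (∏ i ∈ ({7} : Multiset ℕ).toFinset, (({7} : Multiset ℕ).count i).factorial) = 7 := by
    rcases hn with rfl | rfl <;> decide
  rw [h2] at h1
  have h3 : 7 ∣ Nat.card (Subgroup.centralizer ({el n {7}} : Set (alternatingGroup (Fin n)))) := by
    have h4 : orderOf (el n {7}) = 7 := by rw [orderOf_alt, el_type hok]; decide
    have h5 : el n {7} ∈ Subgroup.centralizer ({el n {7}} : Set (alternatingGroup (Fin n))) := by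
      rw [Subgroup.mem_centralizer_singleton_iff]
    have h6 := orderOf_dvd_natCard (⟨_, h5⟩ : Subgroup.centralizer ({el n {7}} : Set (alternatingGroup (Fin n))))
    rwa [Subgroup.orderOf_mk, h4] at h6
  have h4 : 0 < Nat.card (Subgroup.centralizer ({el n {7}} : Set (alternatingGroup (Fin n)))) := Nat.card_pos
  have h5 := Nat.le_of_dvd h4 h3
  omega

theorem card_seven : Nat.card (alternatingGroup (Fin 7)) = 7 * 360 := by
  have := card_alt (k := 7) (by norm_num)
  rw [show (7 : ℕ).factorial = 5040 from rfl] at this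
  omega

theorem card_eight : Nat.card (alternatingGroup (Fin 8)) = 7 * 2880 := by
  have := card_alt (k := 8) (by norm_num)
  rw [show (8 : ℕ).factorial = 40320 from rfl] at this
  omega

theorem order_el {n : ℕ} {t : Multiset ℕ} (h : Ok n t) : orderOf (el n t) = t.lcm := by
  rw [orderOf_alt, el_type h]

theorem order_ne {n r : ℕ} [DecidableEq (alternatingGroup (Fin n))] (T : Finset (Multiset ℕ)) (h : ∀ t ∈ T, Ok n t)
    (h' : ∀ t ∈ T, t.lcm ≠ r) : ∀ g ∈ T.image (el n), orderOf g ≠ r := by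
  intro g hg
  obtain ⟨t, ht, rfl⟩ := Finset.mem_image.1 hg
  rw [order_el (h t ht)]
  exact h' t ht

theorem big_seven : Big (alternatingGroup (Fin 7)) := by
  classical
  have hc := seven_cent (n := 7) (Or.inl rfl)
  have ho : orderOf (el 7 {7}) = 7 := by rw [order_el (by decide)]; decide
  have hk := ZCols.classes_of_prime (by norm_num) ho hc card_seven (e := 3) (m := 2) (by norm_num) (by norm_num)
    (({0, {3}, {5}, {2, 2}, {3, 3}, {4, 2}, {3, 2, 2}} : Finset (Multiset ℕ)).image (el 7))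
    (nonConj_image _ (by decide)) (order_ne _ (by decide) (by decide))
  rw [card_image _ (by decide), show (({0, {3}, {5}, {2, 2}, {3, 3}, {4, 2}, {3, 2, 2}} :
    Finset (Multiset ℕ)).card) = 7 by decide] at hk
  refine ZCols.big_of_prime_cols (k := 9) (by norm_num) ho hc card_seven (e := 3) (m := 2) (by norm_num)
    (by norm_num) (by norm_num) (({{5}, {4, 2}} : Finset (Multiset ℕ)).image (el 7))
    (nonConj_image _ (by decide)) (order_ne _ (by decide) (by decide)) (fun _ => 5) ?_ hk ?_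
  · intro g hg
    obtain ⟨t, ht, rfl⟩ := Finset.mem_image.1 hg
    rw [Finset.mem_insert, Finset.mem_singleton] at ht
    rcases ht with rfl | rfl
    · exact cent_el_le (by decide) (Or.inr (by decide)) (by decide)
    · exact (cent_el_le (b := 4) (by decide) (Or.inl (by decide)) (by decide)).trans (by norm_num)
  · rw [Finset.sum_const, card_image _ (by decide), show (({{5}, {4, 2}} : Finset (Multiset ℕ)).card) = 2 by decide]
    norm_num

theorem big_eight : Big (alternatingGroup (Fin 8)) := by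
  classical
  have hc := seven_cent (n := 8) (Or.inr rfl)
  have ho : orderOf (el 8 {7}) = 7 := by rw [order_el (by decide)]; decide
  refine ZCols.big_of_prime_cols (k := 12) (by norm_num) ho hc card_eight (e := 3) (m := 2) (by norm_num)
    (by norm_num) (by norm_num) (({{6, 2}} : Finset (Multiset ℕ)).image (el 8))
    (nonConj_image _ (by decide)) (order_ne _ (by decide) (by decide)) (fun _ => 6) ?_ (H525.AltK.alt_ge (by norm_num)) ?_
  · intro g hg
    obtain ⟨t, ht, rfl⟩ := Finset.mem_image.1 hg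
    rw [Finset.mem_singleton] at ht
    subst ht
    exact cent_el_le (by decide) (Or.inl (by decide)) (by decide)
  · rw [Finset.sum_const, card_image _ (by decide), show (({{6, 2}} : Finset (Multiset ℕ)).card) = 1 by decide]
    norm_num

/-- **S4895, row ALT** -/
theorem big_alt {n : ℕ} (hn : 7 ≤ n) : Cfsg.Agent.H504.Zeros.Big (alternatingGroup (Fin n)) := by
  rcases Nat.lt_or_ge n 13 with h | h
  · interval_cases n
    · exact big_seven
    · exact big_eight
    · exact big_nine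
    · exact big_ten
    · exact big_eleven
    · exact big_twelve
  · exact big_large h

end Cfsg.Agent.H701.ZAlt
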