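import Mathlib
import Cfsg.Prelude.Def_ChevStructure
import Cfsg.Prelude.Def_LieTwisted
import Cfsg.Agent.H596.FldFacts
import Cfsg.Agent.H967.CopSz
import Cfsg.Agent.S1036
import Cfsg.Agent.S1068
import Cfsg.Agent.S1090
import Cfsg.Agent.S1110
import Cfsg.Agent.ChevStructure.FieldMap
import Cfsg.Agent.ChevalleyStructure.HMatDiagAll
import Cfsg.Agent.H388.EvenFixAll

/-!
# `TwoMoved` for the groups `²F₄(q)` (helper701, for S4761)

The torus of order `(q - 1)²` of `²F₄(q)` has rank 2 and normalises the unipotent group; the fixed points of a field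
automorphism in it have exponent `q₀ - 1`.
-/

set_option autoImplicit false
set_option linter.unusedSectionVars false

namespace Cfsg.Agent.H701.FldTF4

open Cfsg.Agent.H596.Fld Cfsg.Agent.H967.CopMat
open Cfsg.Agent.ChevalleyStructure.TriAbstract (diagSub mem_diagSub)

section generic

variable {ι : Type*} [Fintype ι] [DecidableEq ι] {F : Type*} [Field F]

theorem pow_diag {g : GL ι F} (hg : g ∈ diagSub ι F) {n : ℕ} (h : ∀ i, ((g : Matrix ι ι F) i i) ^ n = 1) :
    g ^ n = 1 := by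
  obtain ⟨d, rfl⟩ := hg
  rw [← map_pow]
  have hd : d ^ n = 1 := by
    apply Units.ext
    funext i
    have h1 := h i
    have h2 : ((Units.map ((Matrix.diagonalRingHom ι F : (ι → F) →+* Matrix ι ι F) : (ι → F) →* Matrix ι ι F) d :
        GL ι F) : Matrix ι ι F) i i = (d : ι → F) i := Matrix.diagonal_apply_eq _ _
    rw [h2] at h1
    rw [Units.val_pow_eq_pow_val, Pi.pow_apply, h1]
    rfl
  rw [hd, map_one]

theorem diag_comm {g h : GL ι F} (hg : g ∈ diagSub ι F) (hh : h ∈ diagSub ι F) : g * h = h * g := by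
  obtain ⟨d, rfl⟩ := hg
  obtain ⟨e, rfl⟩ := hh
  rw [← map_mul, ← map_mul, mul_comm]

theorem diag_ne_zero {g : GL ι F} (hg : g ∈ diagSub ι F) (i : ι) : (g : Matrix ι ι F) i i ≠ 0 := by
  obtain ⟨d, rfl⟩ := hg
  have h2 : ((Units.map ((Matrix.diagonalRingHom ι F : (ι → F) →+* Matrix ι ι F) : (ι → F) →* Matrix ι ι F) d :
      GL ι F) : Matrix ι ι F) i i = (d : ι → F) i := Matrix.diagonal_apply_eq _ _
  rw [h2]
  intro h0
  have h3 : (d : ι → F) * ((d⁻¹ : (ι → F)ˣ) : ι → F) = 1 := d.mul_inv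
  have h4 := congrFun h3 i
  rw [Pi.mul_apply, h0, zero_mul, Pi.one_apply] at h4
  exact zero_ne_one h4

variable [Finite F]

theorem pow_card {g : GL ι F} (hg : g ∈ diagSub ι F) : g ^ (Nat.card F - 1) = 1 := by
  refine pow_diag hg fun i => ?_
  have := Fintype.ofFinite F
  rw [Nat.card_eq_fintype_card]
  exact FiniteField.pow_card_sub_one_eq_one _ (diag_ne_zero hg i)

theorem pow_card_fixed {g : GL ι F} (hg : g ∈ diagSub ι F) {σ : F ≃+* F}
    (h : ∀ i, σ ((g : Matrix ι ι F) i i) = (g : Matrix ι ι F) i i) : g ^ (Nat.card ↥(Fx σ) - 1) = 1 := by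
  refine pow_diag hg fun i => ?_
  have := Fintype.ofFinite ↥(Fx σ)
  rw [Nat.card_eq_fintype_card]
  have h0 := diag_ne_zero hg i
  have h1 : (⟨(g : Matrix ι ι F) i i, h i⟩ : ↥(Fx σ)) ≠ 0 := fun h2 => h0 (congrArg Subtype.val h2)
  have h2 := FiniteField.pow_card_sub_one_eq_one _ h1
  exact congrArg Subtype.val h2

/-- **Tori.** A group `G` of matrices with a group of diagonal matrices `H` of order `(q - 1) ^ k`, `2 ≤ k`, normalising
an `r`-group, and of index prime to `s`. -/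
theorem moved_of_diag {G : Subgroup (GL ι F)} (hG : Stab G) [Finite ↥G] {σ : F ≃+* F}
    (hα : (orderOf (fieldAut hG σ)).Prime) (hd : ¬ orderOf (fieldAut hG σ) ∣ Nat.card ↥G)
    {s r : ℕ} [hs : Fact s.Prime] [hr : Fact r.Prime] (hsr : s ≠ r) {H : Subgroup (GL ι F)} (hHG : H ≤ G)
    (hHD : H ≤ diagSub ι F) (hHσ : ∀ g ∈ H, Matrix.GeneralLinearGroup.map (σ : F →+* F) g ∈ H) {k : ℕ} (hk : 2 ≤ k)
    (hHc : Nat.card ↥H = (Nat.card F - 1) ^ k)
    (hi : ∀ n : ℕ, Nat.card ↥G = (Nat.card F - 1) ^ k * n → ¬ s ∣ n)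
    (hsq : s ∣ Nat.card F - 1) (hs0 : ¬ s ∣ Nat.card ↥(Fx σ) - 1)
    {U : Subgroup (GL ι F)} (hUG : U ≤ G) (hU : IsPGroup r ↥U) (hU1 : U ≠ ⊥)
    (hN : H ≤ Subgroup.normalizer (U : Set (GL ι F))) : Moved (fieldAut hG σ) := by
  let T : Subgroup ↥G := H.subgroupOf G
  have hTc : Nat.card ↥T = (Nat.card F - 1) ^ k := by
    rw [← hHc]
    exact Nat.card_congr (Subgroup.subgroupOfEquivOfLe hHG).toEquiv
  have hTi : ¬ s ∣ T.index := hi _ (by rw [← hTc, Subgroup.card_mul_index])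
  have hTα : ∀ x ∈ T, fieldAut hG σ x ∈ T := by
    intro x hx
    rw [Subgroup.mem_subgroupOf] at hx ⊢
    exact hHσ _ hx
  have hFx1 : 0 < Nat.card ↥(Fx σ) := Nat.card_pos
  have hfix : ∀ x ∈ T, orderOf x = s → fieldAut hG σ x ≠ x := by
    intro x hx ho hfx
    rw [Subgroup.mem_subgroupOf] at hx
    apply hs0
    have h1 : (x : GL ι F) ^ (Nat.card ↥(Fx σ) - 1) = 1 := by
      refine pow_card_fixed (hHD hx) fun i => ?_
      have h2 := fieldAut_apply hG σ x i i
      rw [hfx] at h2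
      exact h2.symm
    have h2 : x ^ (Nat.card ↥(Fx σ) - 1) = 1 := Subtype.ext h1
    rw [← ho]
    exact orderOf_dvd_of_pow_eq_one h2
  have hnd := not_dvd_of_torus hα hd hTα hTi hfix
  -- the Sylow subgroup of the torus
  obtain ⟨P⟩ : Nonempty (Sylow s ↥T) := inferInstance
  let A : Subgroup ↥G := (P : Subgroup ↥T).map T.subtype
  have hAT : A ≤ T := Subgroup.map_subtype_le _
  have hAc : Nat.card ↥A = s ^ ((Nat.card ↥T).factorization s) := by
    rw [← Nat.card_congr ((P : Subgroup ↥T).equivMapOfInjective _ T.subtype_injective).toEquiv,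
      Sylow.card_eq_multiplicity]
  have hF1 : 1 < Nat.card F := Finite.one_lt_card
  have hF0 : Nat.card F - 1 ≠ 0 := by omega
  have hfac : 1 ≤ (Nat.card F - 1).factorization s := by
    rw [← Nat.Prime.dvd_iff_one_le_factorization hs.out hF0]
    exact hsq
  refine moved_of_rank_two (s := s) (r := r) hα hd hsr hnd (A := A) (U := U.subgroupOf G) ?_ ?_ ?_ ?_ ?_ ?_
  · rw [isMulCommutative_iff]
    intro a b
    apply Subtype.ext
    apply Subtype.ext
    exact diag_comm (hHD (hAT a.2)) (hHD (hAT b.2))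
  · exact P.isPGroup'.map T.subtype
  · intro hcyc
    obtain ⟨x, hx⟩ := hcyc.exists_ofOrder_eq_natCard
    have h1 : x ^ (Nat.card F - 1) = 1 := by
      apply Subtype.ext
      apply Subtype.ext
      exact pow_card (hHD (hAT x.2))
    have h2 : Nat.card ↥A ∣ Nat.card F - 1 := by
      rw [← hx]
      exact orderOf_dvd_of_pow_eq_one h1
    rw [hAc, hTc, Nat.factorization_pow, Finsupp.smul_apply, smul_eq_mul,
      (Nat.Prime.pow_dvd_iff_le_factorization hs.out hF0)] at h2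
    nlinarith
  · exact hU.comap_of_injective G.subtype G.subtype_injective
  · intro h
    rw [Subgroup.subgroupOf_eq_bot, disjoint_iff, inf_eq_left.2 hUG] at h
    exact hU1 h
  · intro a ha
    have h1 := hN (hAT ha)
    rw [Subgroup.mem_normalizer_iff] at h1 ⊢
    intro u
    exact h1 u

end generic

open Cfsg.Lie Cfsg.Agent.ChevalleyStructure Cfsg.Agent.ChevStructure.FieldMap

/-- the torus is stable under field automorphisms -/
theorem diagonal_stab (D : ChevalleyDatum) {F : Type*} [Field F] (σ : F ≃+* F) :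
    ∀ g ∈ D.diagonalSubgroup F, Matrix.GeneralLinearGroup.map (σ : F →+* F) g ∈ D.diagonalSubgroup F := by
  have h : D.diagonalSubgroup F ≤ (D.diagonalSubgroup F).comap (Matrix.GeneralLinearGroup.map (σ : F →+* F)) := by
    conv_lhs => unfold ChevalleyDatum.diagonalSubgroup
    rw [Subgroup.closure_le]
    rintro g ⟨r, t, hr, ht, hg⟩
    refine Subgroup.subset_closure ⟨r, σ t, hr, ?_, ?_⟩
    · rwa [Ne, map_eq_zero_iff _ σ.injective]
    · show (g : Matrix D.Idx D.Idx F).map (σ : F →+* F) = _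
      rw [hg]
      unfold ChevalleyDatum.hMat
      rw [wordMat_map]
      congr 1
      simp [ChevalleyDatum.hWord, ChevalleyDatum.nWord]
  exact fun g hg => h hg

theorem coprime_of_prime {G : Type*} [Group G] {α : MulAut G} (hα : (orderOf α).Prime)
    (hd : ¬ orderOf α ∣ Nat.card G) : (orderOf α).Coprime (Nat.card G) := (Nat.Prime.coprime_iff_not_dvd hα).2 hd

/-- **The groups `²F₄(q)`.** -/
theorem row_tf4 {r : ℕ} {G : Type*} [Group G] [Finite G] [IsSimpleGroup G] (hc : ∃ a b : G, a * b ≠ b * a)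
    (hG : Lie.Iso2F4 G) : TwoMoved G := by
  obtain ⟨K, _, _, m, hm, hK, ⟨e⟩⟩ := hG
  intro α hα hd
  have R := H967.CopSz.row_tf4 hm hK
  have hcop := coprime_of_prime hα hd
  obtain ⟨e', σ, he, ho⟩ := R.exists_equiv_one e α hcop
  refine Moved.of_equiv e' (β := fieldAut R.stab σ) he ?_
  have hfin : Finite ↥(twistedF4 K (2 ^ m)) := Finite.of_equiv _ e.toEquiv
  have hoα : orderOf (fieldAut R.stab σ) = orderOf α := by rw [orderOf_injective _ R.inj, ho]
  have hcG : Nat.card G = Nat.card ↥(twistedF4 K (2 ^ m)) := Nat.card_congr e.toEquiv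
  have hd' := hd
  rw [hcG] at hd'
  have hcard := S1068.result hK
  have hQ : Nat.card K = 2 ^ (2 * m + 1) := by rw [Nat.card_eq_fintype_card, hK]
  obtain ⟨Q, hQd⟩ : ∃ Q, Q = 2 ^ (2 * m + 1) := ⟨_, rfl⟩
  rw [← hQd] at hcard hQ
  have hQ8 : 8 ≤ Q := by
    rw [hQd]
    calc 8 = 2 ^ 3 := by norm_num
      _ ≤ 2 ^ (2 * m + 1) := Nat.pow_le_pow_right (by norm_num) (by omega)
  obtain ⟨k, hk⟩ : ∃ k, Q = k + 1 := ⟨Q - 1, by omega⟩
  have h4 : Q ^ 4 - 1 = (Q - 1) * ((Q + 1) * (Q ^ 2 + 1)) := by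
    rw [hk, Nat.add_sub_cancel]
    apply Nat.sub_eq_of_eq_add
    ring
  rw [h4] at hcard
  set p := orderOf α with hp
  have hp2 : p ≠ 2 := by
    intro h
    apply hd'
    rw [h, hcard, hQd]
    exact Dvd.dvd.mul_right (Dvd.dvd.mul_right (Dvd.dvd.mul_right (Dvd.dvd.mul_right
      (dvd_pow (dvd_pow_self 2 (by omega)) (by norm_num)) _) _) _) _
  have hcF := card_Fx σ
  rw [hQ, ho] at hcF
  set q₀ := Nat.card ↥(Fx σ) with hq₀
  have hq2 : 2 ≤ q₀ := Finite.one_lt_card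
  have hn1 : ¬ p ∣ q₀ ^ p - 1 := by
    rw [← hcF]
    intro h
    apply hd'
    rw [hcard]
    exact Dvd.dvd.mul_right (Dvd.dvd.mul_right (Dvd.dvd.mul_right (Dvd.dvd.mul_left h _) _) _) _
  have hn2 : ¬ p ∣ q₀ ^ p + 1 := by
    rw [← hcF]
    intro h
    apply hd'
    rw [hcard]
    exact Dvd.dvd.mul_right (Dvd.dvd.mul_left (Dvd.dvd.mul_left (Dvd.dvd.mul_right h _) _) _) _
  obtain ⟨s, -, hs, -, -, hs1, -, hsi, -, -, -⟩ := exists_primes hα hp2 hq2 hn1 hn2
  rw [← hcF] at hs1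
  have : Fact s.Prime := ⟨hs⟩
  have : Fact (Nat.Prime 2) := ⟨Nat.prime_two⟩
  have hodd : ¬ 2 ∣ Q - 1 := by
    intro h
    have h1 : 2 ∣ Q := by rw [hQd]; exact dvd_pow_self 2 (by omega)
    omega
  have hs2 : s ≠ 2 := by
    rintro rfl
    exact hodd hs1
  have hInD : chevF4 ∈ [chevG2, chevB2, chevD4, chevF4, chevE6, chevE7, chevE8] := by simp
  have hU : Nat.card ↥(chevF4.posUnipotent K ⊓ twistedF4 K (2 ^ m)) = 2 ^ ((2 * m + 1) * 12) := by
    rw [S1090.result hK, pow_mul]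
  refine moved_of_diag R.stab (s := s) (r := 2) (k := 2) (H := chevF4.diagonalSubgroup K ⊓ twistedF4 K (2 ^ m))
    (U := chevF4.posUnipotent K ⊓ twistedF4 K (2 ^ m)) (by rw [hoα]; exact hα) (by rw [hoα]; exact hd') hs2
    inf_le_right (inf_le_left.trans (HMatDiagAll.diagonalSubgroup_le_diagSub hInD)) ?_ le_rfl ?_ ?_ (by rw [hQ]; exact hs1)
    ?_ inf_le_right (IsPGroup.of_card hU) ?_ ?_
  · intro g hg
    exact ⟨diagonal_stab _ σ g hg.1, R.stab σ g hg.2⟩
  · rw [S1110.result hK, hQ, hQd]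
  · intro n hn hsn
    rw [hcard, hQ] at hn
    have h1 : n = Q ^ 12 * (Q ^ 3 + 1) * ((Q + 1) * (Q ^ 2 + 1)) * (Q ^ 6 + 1) := by
      have h0 : 0 < (Q - 1) ^ 2 := Nat.pow_pos (by omega)
      refine Nat.eq_of_mul_eq_mul_left h0 ?_
      rw [← hn]
      ring
    have h2 : (Q : ZMod s) = 1 := by
      have h3 : ((Q - 1 : ℕ) : ZMod s) = 0 := (ZMod.natCast_eq_zero_iff _ _).2 hs1
      rw [Nat.cast_sub (by omega), Nat.cast_one, sub_eq_zero] at h3
      exact h3
    have h3 : ((n : ℕ) : ZMod s) = 0 := (ZMod.natCast_eq_zero_iff _ _).2 hsn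
    rw [h1] at h3
    push_cast at h3
    rw [h2] at h3
    have h5 : ((16 : ℕ) : ZMod s) = 0 := by
      rw [← h3]
      push_cast
      norm_num
    rw [ZMod.natCast_eq_zero_iff] at h5
    have h6 : s ∣ 2 ^ 4 := by norm_num; exact h5
    exact hs2 ((Nat.prime_dvd_prime_iff_eq hs Nat.prime_two).1 (hs.dvd_of_dvd_pow h6))
  · intro h
    have h1 := hsi 1 (by rw [pow_one]; exact h)
    exact hα.one_lt.ne' (Nat.dvd_one.1 h1)
  · intro h
    rw [h, Subgroup.card_bot] at hU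
    have : 1 < 2 ^ ((2 * m + 1) * 12) := Nat.one_lt_two_pow (by omega)
    omega
  · intro g hg
    have h1 := (S1036.result (F := K) chevF4 hInD).1 hg.1
    rw [Subgroup.mem_normalizer_iff] at h1 ⊢
    intro u
    have h2 := h1 u
    rw [Subgroup.mem_inf, Subgroup.mem_inf]
    have hg2 : g ∈ twistedF4 K (2 ^ m) := hg.2
    refine and_congr h2 ⟨fun h => mul_mem (mul_mem hg2 h) (inv_mem hg2), fun h => ?_⟩
    have h3 := mul_mem (mul_mem (inv_mem hg2) h) hg2
    have h4 : g⁻¹ * (g * u * g⁻¹) * g = u := by group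
    rwa [h4] at h3

end Cfsg.Agent.H701.FldTF4
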