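import Cfsg.Agent.H701.Ex

/-!
# `Ex2` for the alternating groups of degree at least 6
-/

set_option autoImplicit false

namespace Cfsg.Agent.H701

open Equiv Equiv.Perm

/-- even permutations with different cycle types are not conjugate in the alternating group -/
theorem not_isConj_alt {n : ℕ} {x y : alternatingGroup (Fin n)}
    (h : (x : Perm (Fin n)).cycleType ≠ (y : Perm (Fin n)).cycleType) : ¬ IsConj x y := by
  intro hc
  apply h
  have : IsConj (x : Perm (Fin n)) (y : Perm (Fin n)) :=
    (alternatingGroup (Fin n)).subtype.map_isConj hc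
  exact isConj_iff_cycleType_eq.1 this

theorem exists_alt {n : ℕ} (m : Multiset ℕ) (hsum : m.sum ≤ n) (h2 : ∀ a ∈ m, 2 ≤ a)
    (hsgn : Even (m.sum + Multiset.card m)) :
    ∃ x : alternatingGroup (Fin n), (x : Perm (Fin n)).cycleType = m := by
  obtain ⟨g, hg⟩ := (Equiv.Perm.exists_with_cycleType_iff (Fin n) (m := m)).2
    ⟨by simpa using hsum, h2⟩
  refine ⟨⟨g, ?_⟩, hg⟩
  rw [mem_alternatingGroup, sign_of_cycleType, hg]
  exact hsgn.neg_one_pow

theorem orderOf_alt {n : ℕ} (x : alternatingGroup (Fin n)) :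
    orderOf x = (x : Perm (Fin n)).cycleType.lcm := by
  rw [lcm_cycleType, Subgroup.orderOf_coe]

theorem ex2_alt_ge_eight {n : ℕ} (hn : 8 ≤ n) : Ex2 (alternatingGroup (Fin n)) := by
  obtain ⟨a, ha⟩ := exists_alt (n := n) {2, 2} (by simp; omega) (by simp) (by decide)
  obtain ⟨b, hb⟩ := exists_alt (n := n) {2, 2, 2, 2} (by simp; omega) (by simp) (by decide)
  obtain ⟨c, hc⟩ := exists_alt (n := n) {3} (by simp; omega) (by simp) (by decide)
  obtain ⟨d, hd⟩ := exists_alt (n := n) {3, 3} (by simp; omega) (by simp) (by decide)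
  refine Or.inr ⟨a, b, c, d, ?_, ?_, ?_, ?_, ?_⟩
  · rw [orderOf_alt, orderOf_alt, ha, hb]; decide
  · rw [orderOf_alt, orderOf_alt, hc, hd]; decide
  · rw [orderOf_alt, orderOf_alt, ha, hc]; decide
  · apply not_isConj_alt; rw [ha, hb]; decide
  · apply not_isConj_alt; rw [hc, hd]; decide

/-- a set of elements whose cardinality does not divide the order is not a single class -/
theorem exists_not_isConj_of_card {G : Type*} [Group G] [Finite G] (a : G) (S : Set G)
    (ha : a ∈ S) (hS : ∀ x ∈ S, ∀ g : G, g * x * g⁻¹ ∈ S)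
    (hd : ¬ Nat.card S ∣ Nat.card G) : ∃ b ∈ S, ¬ IsConj a b := by
  by_contra hcon
  push Not at hcon
  apply hd
  have : S = (ConjClasses.mk a).carrier := by
    ext b
    rw [ConjClasses.mem_carrier_iff_mk_eq, ConjClasses.mk_eq_mk_iff_isConj]
    constructor
    · intro hb
      exact (hcon b hb).symm
    · intro h
      obtain ⟨c, hc⟩ := isConj_iff.1 h.symm
      rw [← hc]
      exact hS a ha c
  rw [this, ← ConjAct.orbit_eq_carrier_conjClasses]
  have h : Nat.card (MulAction.orbit (ConjAct G) a) =
      (MulAction.stabilizer (ConjAct G) a).index := by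
    rw [Subgroup.index]
    exact Nat.card_congr (MulAction.orbitEquivQuotientStabilizer (ConjAct G) a)
  rw [h]
  have h2 := (MulAction.stabilizer (ConjAct G) a).index_dvd_card
  rwa [show Nat.card (ConjAct G) = Nat.card G from Nat.card_congr ConjAct.ofConjAct.toEquiv] at h2

theorem ex2_alt_of_cycle {n m : ℕ} (hn : 6 ≤ n) (hm : 4 ≤ m) (hmn : m ≤ n) (hodd : Odd m)
    (hd : ¬ (m - 1).factorial * n.choose m ∣ Nat.card (alternatingGroup (Fin n))) :
    Ex2 (alternatingGroup (Fin n)) := by
  classical
  obtain ⟨c, hc⟩ := exists_alt (n := n) {3} (by simp; omega) (by simp) (by decide)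
  obtain ⟨d, hd'⟩ := exists_alt (n := n) {3, 3} (by simp; omega) (by simp) (by decide)
  obtain ⟨a, ha⟩ := exists_alt (n := n) {m} (by simp; omega) (by simp; omega)
    (by simp; exact hodd.add_one)
  let S : Set (alternatingGroup (Fin n)) := {g | (g : Perm (Fin n)).cycleType = {m}}
  have hcard : Nat.card S = (m - 1).factorial * n.choose m := by
    have := AlternatingGroup.card_of_cycleType_singleton (α := Fin n) (n := m) (by omega)
      (by simpa using hmn)
    rw [if_pos hodd, Fintype.card_fin] at this
    rw [← this, Nat.card_eq_fintype_card, Fintype.card_subtype]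
    rfl
  obtain ⟨b, hb, hab⟩ := exists_not_isConj_of_card a S ha (by
    intro x hx g
    show ((g * x * g⁻¹ : alternatingGroup (Fin n)) : Perm (Fin n)).cycleType = {m}
    rw [Subgroup.coe_mul, Subgroup.coe_mul, Subgroup.coe_inv, cycleType_conj]
    exact hx) (by rw [hcard]; exact hd)
  refine Or.inr ⟨a, b, c, d, ?_, ?_, ?_, hab, ?_⟩
  · rw [orderOf_alt, orderOf_alt, ha, show (b : Perm (Fin n)).cycleType = {m} from hb]
  · rw [orderOf_alt, orderOf_alt, hc, hd']; decide
  · rw [orderOf_alt, orderOf_alt, ha, hc]; simp; omega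
  · apply not_isConj_alt; rw [hc, hd']; decide

theorem ex2_alt {n : ℕ} (hn : 6 ≤ n) : Ex2 (alternatingGroup (Fin n)) := by
  rcases Nat.lt_or_ge n 8 with h | h
  · have hcard : ∀ k : ℕ, 2 ≤ k → 2 * Nat.card (alternatingGroup (Fin k)) = k.factorial := by
      intro k hk
      haveI : Nontrivial (Fin k) := Fin.nontrivial_iff_two_le.2 hk
      rw [Nat.card_eq_fintype_card, two_mul_card_alternatingGroup, Fintype.card_perm,
        Fintype.card_fin]
    have := hcard n (by omega)
    interval_cases n
    · apply ex2_alt_of_cycle (m := 5) (by norm_num) (by norm_num) (by norm_num) (by decide)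
      rw [show (6 : ℕ).factorial = 720 from rfl] at this
      rw [show Nat.card (alternatingGroup (Fin 6)) = 360 by omega]
      decide
    · apply ex2_alt_of_cycle (m := 7) (by norm_num) (by norm_num) (by norm_num) (by decide)
      rw [show (7 : ℕ).factorial = 5040 from rfl] at this
      rw [show Nat.card (alternatingGroup (Fin 7)) = 2520 by omega]
      decide
  · exact ex2_alt_ge_eight h

end Cfsg.Agent.H701
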