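import Cfsg.Agent.H701.Alt
import Cfsg.Agent.H701.Cent

set_option autoImplicit false

/-!
Three classes of elements of order three in the alternating groups of degree at least nine.
-/

namespace Cfsg.Agent.H701

open Equiv Equiv.Perm

theorem triple_alt {n : ℕ} (hn : 9 ≤ n) : Triple (alternatingGroup (Fin n)) 3 := by
  obtain ⟨a, ha⟩ := exists_alt (n := n) {3} (by simp; omega) (by simp) (by decide)
  obtain ⟨b, hb⟩ := exists_alt (n := n) {3, 3} (by simp; omega) (by simp) (by decide)
  obtain ⟨c, hc⟩ := exists_alt (n := n) {3, 3, 3} (by simp; omega) (by simp) (by decide)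
  refine ⟨a, b, c, ?_, ?_, ?_, ?_, ?_, ?_⟩
  · rw [orderOf_alt, ha]; decide
  · rw [orderOf_alt, hb]; decide
  · rw [orderOf_alt, hc]; decide
  · apply not_isConj_alt; rw [ha, hb]; decide
  · apply not_isConj_alt; rw [ha, hc]; decide
  · apply not_isConj_alt; rw [hb, hc]; decide

end Cfsg.Agent.H701
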