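import Cfsg.Agent.H701.PsuFour

/-!
# Dimension three: diagonal elements modulo scalars
-/

set_option autoImplicit false
set_option linter.all false

namespace Cfsg.Agent.H701

open Matrix

namespace Three

variable {F Q : Type*} [Field F] [Group Q]

/-- a group of `3 × 3` matrices with scalar centre -/
structure Rep (Q F : Type*) [Group Q] [Field F] where
  f : Q →* Matrix (Fin 3) (Fin 3) F
  inj : Function.Injective f
  cen : ∀ z ∈ Subgroup.center Q, ∃ c : F, c ^ 3 = 1 ∧ f z = c • (1 : Matrix (Fin 3) (Fin 3) F)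

theorem det_conj (x y N : Matrix (Fin 3) (Fin 3) F) (hxy : x * y = 1) (t : F) :
    (x * N * y - t • (1 : Matrix (Fin 3) (Fin 3) F)).det = (N - t • 1).det := by
  have e : x * N * y - t • (1 : Matrix (Fin 3) (Fin 3) F) = x * (N - t • 1) * y := by
    rw [mul_sub, sub_mul, Matrix.mul_smul, Matrix.smul_mul, mul_one, hxy]
  have h1 : x.det * y.det = 1 := by rw [← det_mul, hxy, det_one]
  rw [e, det_mul, det_mul]
  linear_combination (N - t • 1).det * h1

theorem det_of_isConj (R : Rep Q F) {g h : Q}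
    (hc : IsConj (g : Q ⧸ Subgroup.center Q) (h : Q ⧸ Subgroup.center Q)) :
    ∃ c : F, c ^ 3 = 1 ∧ ∀ t : F, (R.f g - t • (1 : Matrix (Fin 3) (Fin 3) F)).det =
      (c • R.f h - t • (1 : Matrix (Fin 3) (Fin 3) F)).det := by
  obtain ⟨x, hx⟩ := isConj_iff.1 hc
  obtain ⟨x, rfl⟩ := QuotientGroup.mk_surjective x
  rw [← QuotientGroup.mk_mul, ← QuotientGroup.mk_inv, ← QuotientGroup.mk_mul] at hx
  have hz : h⁻¹ * (x * g * x⁻¹) ∈ Subgroup.center Q := QuotientGroup.eq.1 hx.symm
  obtain ⟨c, hc3, hcf⟩ := R.cen _ hz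
  refine ⟨c, hc3, fun t => ?_⟩
  have e : R.f (x * g * x⁻¹) = c • R.f h := by
    have : x * g * x⁻¹ = h * (h⁻¹ * (x * g * x⁻¹)) := by group
    rw [this, map_mul, hcf, Matrix.mul_smul, mul_one]
  have h1 : R.f x * R.f x⁻¹ = 1 := by rw [← map_mul, mul_inv_cancel, map_one]
  rw [← e, map_mul, map_mul, det_conj _ _ _ h1]

theorem det_diag_sub (a : Fin 3 → F) (c t : F) :
    (c • Matrix.diagonal a - t • (1 : Matrix (Fin 3) (Fin 3) F)).det =
      (c * a 0 - t) * (c * a 1 - t) * (c * a 2 - t) := by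
  have : c • Matrix.diagonal a - t • (1 : Matrix (Fin 3) (Fin 3) F) =
      Matrix.diagonal (fun i => c * a i - t) := by
    rw [← Matrix.diagonal_one, ← Matrix.diagonal_smul, ← Matrix.diagonal_smul,
      Matrix.diagonal_sub]
    congr 1
    ext i
    simp
  rw [this, Matrix.det_diagonal, Fin.prod_univ_three]

/-- `diag(1, u, u⁻¹)` and `diag(1, v, v⁻¹)` conjugate modulo scalars -/
theorem eq_of_isConj (R : Rep Q F) {g h : Q} {u v : F} (hu0 : u ≠ 0) (hv0 : v ≠ 0)
    (hu3 : v ^ 3 ≠ 1) (hu1 : u ≠ 1)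
    (hg : R.f g = Matrix.diagonal ![1, u, u⁻¹]) (hh : R.f h = Matrix.diagonal ![1, v, v⁻¹])
    (hc : IsConj (g : Q ⧸ Subgroup.center Q) (h : Q ⧸ Subgroup.center Q)) :
    u = v ∨ u * v = 1 := by
  obtain ⟨c, hc3, hd⟩ := det_of_isConj R hc
  rw [hg, hh] at hd
  have h1 := hd 1
  have e1 : ∀ (t : F), (Matrix.diagonal ![1, u, u⁻¹] - t • (1 : Matrix (Fin 3) (Fin 3) F)).det =
      (1 - t) * (u - t) * (u⁻¹ - t) := by
    intro t
    have := det_diag_sub ![1, u, u⁻¹] 1 t
    simpa using this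
  rw [e1, det_diag_sub] at h1
  simp only [sub_self, zero_mul, Matrix.cons_val_zero, Matrix.cons_val_one, Matrix.cons_val,
    mul_one] at h1
  have hc1 : c = 1 := by
    rcases mul_eq_zero.1 h1.symm with h2 | h2
    · rcases mul_eq_zero.1 h2 with h3 | h3
      · exact sub_eq_zero.1 h3
      · exfalso
        apply hu3
        have h4 : c * v = 1 := sub_eq_zero.1 h3
        have : (c * v) ^ 3 = 1 := by rw [h4, one_pow]
        rwa [mul_pow, hc3, one_mul] at this
    · exfalso
      apply hu3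
      have h4 : c * v⁻¹ = 1 := sub_eq_zero.1 h2
      have : (c * v⁻¹) ^ 3 = 1 := by rw [h4, one_pow]
      rw [mul_pow, hc3, one_mul, inv_pow, inv_eq_one] at this
      exact this
  have h2 := hd u
  rw [e1, det_diag_sub, hc1] at h2
  simp only [sub_self, mul_zero, zero_mul, Matrix.cons_val_zero, Matrix.cons_val_one,
    Matrix.cons_val, mul_one, one_mul] at h2
  rcases mul_eq_zero.1 h2.symm with h3 | h3
  · rcases mul_eq_zero.1 h3 with h4 | h4
    · exact absurd (sub_eq_zero.1 h4).symm hu1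
    · exact Or.inl (sub_eq_zero.1 h4).symm
  · right
    have : v⁻¹ = u := sub_eq_zero.1 h3
    rw [← this]
    exact inv_mul_cancel₀ hv0

/-- `diag(1, w, w⁻¹)`, `w` of odd order at least 7 -/
theorem ex2_diag [Finite Q] (R : Rep Q F) {g : Q} {w : F} (hodd : Odd (orderOf w))
    (h7 : 7 ≤ orderOf w) (hg : R.f g = Matrix.diagonal ![1, w, w⁻¹]) :
    Ex2 (Q ⧸ Subgroup.center Q) := by
  have hw0 : w ≠ 0 := by
    rintro rfl
    rw [orderOf_zero] at h7
    omega
  have hpow : ∀ n : ℕ, R.f (g ^ n) = Matrix.diagonal ![1, w ^ n, (w ^ n)⁻¹] := by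
    intro n
    rw [map_pow, hg, Matrix.diagonal_pow]
    congr 1
    ext i
    fin_cases i <;> simp
  have hne : ∀ n : ℕ, 0 < n → n < orderOf w → w ^ n ≠ 1 := by
    intro n h0 h1 h2
    have := orderOf_dvd_of_pow_eq_one h2
    have := Nat.le_of_dvd h0 this
    omega
  have hsix : w ^ 6 ≠ 1 := hne 6 (by norm_num) (by omega)
  have h12 : w ^ 12 ≠ 1 := by
    intro h
    have h1 := orderOf_dvd_of_pow_eq_one h
    -- odd divisors of 12 are at most 3
    have h2 : Nat.Coprime (orderOf w) 4 := by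
      have : Nat.Coprime (orderOf w) 2 := (Nat.coprime_two_right).2 hodd
      exact Nat.Coprime.pow_right 2 this
    have h3 : orderOf w ∣ 3 := by
      have : orderOf w ∣ 4 * 3 := by simpa using h1
      exact h2.dvd_of_dvd_mul_left this
    have := Nat.le_of_dvd (by norm_num) h3
    omega
  set x : Q ⧸ Subgroup.center Q := (g : Q ⧸ Subgroup.center Q) with hx
  have hxo : Odd (orderOf x) := by
    have h1 : g ^ orderOf w = 1 := by
      apply R.inj
      rw [hpow, pow_orderOf_eq_one, map_one, inv_one, ← Matrix.diagonal_one]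
      congr 1
      ext i
      fin_cases i <;> rfl
    have h2 : orderOf x ∣ orderOf w := by
      apply orderOf_dvd_of_pow_eq_one
      rw [hx, ← QuotientGroup.mk_pow, h1, QuotientGroup.mk_one]
    exact Odd.of_dvd_nat hodd h2
  have hx2 : orderOf (x ^ 2) = orderOf x :=
    Nat.Coprime.orderOf_pow ((Nat.coprime_two_right).2 hxo)
  have hx4 : orderOf (x ^ 4) = orderOf x :=
    Nat.Coprime.orderOf_pow (Nat.Coprime.pow_right 2 ((Nat.coprime_two_right).2 hxo))
  have key : ∀ j k : ℕ, w ^ j ≠ 1 → w ^ (3 * k) ≠ 1 → w ^ j ≠ w ^ k → w ^ (j + k) ≠ 1 →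
      ¬ IsConj (x ^ j) (x ^ k) := by
    intro j k hj hk h1 h2 hc
    rw [hx, ← QuotientGroup.mk_pow, ← QuotientGroup.mk_pow] at hc
    rcases eq_of_isConj R (pow_ne_zero j hw0) (pow_ne_zero k hw0)
      (by rw [← pow_mul, mul_comm]; exact hk) hj (hpow j) (hpow k) hc with h | h
    · exact h1 h
    · exact h2 (by rw [pow_add]; exact h)
  have hcan : ∀ a b : ℕ, w ^ (b - a) ≠ 1 → a ≤ b → w ^ a ≠ w ^ b := by
    intro a b h1 hab h2
    apply h1
    have : w ^ a * w ^ (b - a) = w ^ a * 1 := by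
      rw [← pow_add, Nat.add_sub_cancel' hab, mul_one, h2]
    exact mul_left_cancel₀ (pow_ne_zero a hw0) this
  refine Or.inl ⟨x, x ^ 2, x ^ 4, hx2.symm, hx2.trans hx4.symm, ?_, ?_, ?_⟩
  · have := key 1 2 (hne 1 (by norm_num) (by omega)) hsix
      (hcan 1 2 (hne 1 (by norm_num) (by omega)) (by norm_num)) (hne 3 (by norm_num) (by omega))
    rwa [pow_one] at this
  · have := key 1 4 (hne 1 (by norm_num) (by omega)) h12
      (hcan 1 4 (hne 3 (by norm_num) (by omega)) (by norm_num)) (hne 5 (by norm_num) (by omega))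
    rwa [pow_one] at this
  · exact key 2 4 (hne 2 (by norm_num) (by omega)) h12
      (hcan 2 4 (hne 2 (by norm_num) (by omega)) (by norm_num)) hsix

/-- `diag(1, w, w⁻¹)` and `diag(w, w, w⁻²)`, `w` of order 5 -/
theorem ex2_five [Finite Q] (R : Rep Q F) {g h : Q} {w : F} (h5 : orderOf w = 5)
    (hg : R.f g = Matrix.diagonal ![1, w, w⁻¹]) (hh : R.f h = Matrix.diagonal ![w, w, w ^ 3]) :
    Ex2 (Q ⧸ Subgroup.center Q) := by
  haveI : Fact (Nat.Prime 5) := ⟨by norm_num⟩
  have hw0 : w ≠ 0 := by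
    rintro rfl
    rw [orderOf_zero] at h5
    omega
  have hw5 : w ^ 5 = 1 := by rw [← h5]; exact pow_orderOf_eq_one w
  have hne : ∀ n : ℕ, ¬ 5 ∣ n → w ^ n ≠ 1 := by
    intro n h0 h2
    have := orderOf_dvd_of_pow_eq_one h2
    rw [h5] at this
    exact h0 this
  have hpow : ∀ n : ℕ, R.f (g ^ n) = Matrix.diagonal ![1, w ^ n, (w ^ n)⁻¹] := by
    intro n
    rw [map_pow, hg, Matrix.diagonal_pow]
    congr 1
    ext i
    fin_cases i <;> simp
  have hpowh : ∀ n : ℕ, R.f (h ^ n) = Matrix.diagonal ![w ^ n, w ^ n, w ^ (3 * n)] := by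
    intro n
    rw [map_pow, hh, Matrix.diagonal_pow]
    congr 1
    ext i
    fin_cases i <;> simp [pow_mul]
  have hg5 : g ^ 5 = 1 := by
    apply R.inj
    rw [hpow, hw5, map_one, inv_one, ← Matrix.diagonal_one]
    congr 1
    ext i
    fin_cases i <;> rfl
  have hh5 : h ^ 5 = 1 := by
    apply R.inj
    rw [hpowh, pow_mul', hw5, one_pow, map_one, ← Matrix.diagonal_one]
    congr 1
    ext i
    fin_cases i <;> rfl
  set x : Q ⧸ Subgroup.center Q := (g : Q ⧸ Subgroup.center Q) with hx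
  set y : Q ⧸ Subgroup.center Q := (h : Q ⧸ Subgroup.center Q) with hy
  have hgc : g ∉ Subgroup.center Q := by
    intro hc
    obtain ⟨c, -, hcf⟩ := R.cen _ hc
    rw [hg] at hcf
    have h0 := congrFun (congrFun hcf 0) 0
    have h1 := congrFun (congrFun hcf 1) 1
    simp at h0 h1
    apply hne 1 (by norm_num)
    rw [pow_one, h1, ← h0]
  have hhc : h ∉ Subgroup.center Q := by
    intro hc
    obtain ⟨c, -, hcf⟩ := R.cen _ hc
    rw [hh] at hcf
    have h0 := congrFun (congrFun hcf 0) 0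
    have h1 := congrFun (congrFun hcf 2) 2
    simp at h0 h1
    apply hne 2 (by norm_num)
    have : w ^ 3 = w := by rw [h1, ← h0]
    have h3 : w * w ^ 2 = w * 1 := by rw [mul_one, ← pow_succ']; exact this
    exact mul_left_cancel₀ hw0 h3
  have ox : orderOf x = 5 := by
    apply orderOf_eq_prime
    · rw [hx, ← QuotientGroup.mk_pow, hg5, QuotientGroup.mk_one]
    · rw [hx, Ne, QuotientGroup.eq_one_iff]; exact hgc
  have oy : orderOf y = 5 := by
    apply orderOf_eq_prime
    · rw [hy, ← QuotientGroup.mk_pow, hh5, QuotientGroup.mk_one]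
    · rw [hy, Ne, QuotientGroup.eq_one_iff]; exact hhc
  have ox2 : orderOf (x ^ 2) = 5 := by
    rw [Nat.Coprime.orderOf_pow (by rw [ox]; norm_num), ox]
  have key : ∀ n : ℕ, ¬ 5 ∣ n → ¬ IsConj (x ^ n) y := by
    intro n hn hc
    rw [hx, hy, ← QuotientGroup.mk_pow] at hc
    obtain ⟨c, hc3, hd⟩ := det_of_isConj R hc
    rw [hpow, hh] at hd
    have e1 : ∀ (t : F), (Matrix.diagonal ![1, w ^ n, (w ^ n)⁻¹] -
        t • (1 : Matrix (Fin 3) (Fin 3) F)).det = (1 - t) * (w ^ n - t) * ((w ^ n)⁻¹ - t) := by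
      intro t
      have := det_diag_sub ![1, w ^ n, (w ^ n)⁻¹] 1 t
      simpa using this
    -- every eigenvalue is a fifth root of unity, hence `c = 1`
    have h1 := hd (c * w)
    rw [e1, det_diag_sub] at h1
    simp only [sub_self, zero_mul, Matrix.cons_val_zero, Matrix.cons_val_one, Matrix.cons_val] at h1
    have hc5 : (c * w) ^ 5 = 1 := by
      rcases mul_eq_zero.1 h1 with h2 | h2
      · rcases mul_eq_zero.1 h2 with h3 | h3
        · rw [← sub_eq_zero.1 h3, one_pow]
        · rw [← sub_eq_zero.1 h3, ← pow_mul, mul_comm, pow_mul, hw5, one_pow]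
      · rw [← sub_eq_zero.1 h2, inv_pow, ← pow_mul, mul_comm, pow_mul, hw5, one_pow, inv_one]
    have hc1 : c = 1 := by
      rw [mul_pow, hw5, mul_one] at hc5
      have : c ^ 6 = 1 := by rw [show 6 = 3 * 2 by norm_num, pow_mul, hc3, one_pow]
      rwa [show 6 = 5 + 1 by norm_num, pow_succ, hc5, one_mul] at this
    have h2 := hd 1
    rw [e1, det_diag_sub, hc1] at h2
    simp only [sub_self, zero_mul, Matrix.cons_val_zero, Matrix.cons_val_one, Matrix.cons_val,
      one_mul] at h2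
    have w1 : w - 1 ≠ 0 := by
      intro h0
      exact hne 1 (by norm_num) (by rw [pow_one]; exact sub_eq_zero.1 h0)
    have w3 : w ^ 3 - 1 ≠ 0 := by
      intro h0
      exact hne 3 (by norm_num) (sub_eq_zero.1 h0)
    exact mul_ne_zero (mul_ne_zero w1 w1) w3 h2.symm
  refine Or.inl ⟨x, x ^ 2, y, ox.trans ox2.symm, ox2.trans oy.symm, ?_, ?_, key 2 (by norm_num)⟩
  · intro hc
    rw [← pow_one x] at hc
    have hc' : IsConj (x ^ 1) (x ^ 2) := by simpa using hc
    rw [hx, ← QuotientGroup.mk_pow, ← QuotientGroup.mk_pow] at hc'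
    rcases eq_of_isConj R (pow_ne_zero 1 hw0) (pow_ne_zero 2 hw0)
      (by rw [← pow_mul]; exact hne _ (by norm_num)) (hne 1 (by norm_num)) (hpow 1) (hpow 2) hc'
      with h | h
    · apply hne 1 (by norm_num)
      have : w ^ 1 * w ^ 1 = w ^ 1 * 1 := by rw [mul_one, ← pow_add]; exact h.symm
      exact mul_left_cancel₀ (pow_ne_zero 1 hw0) this
    · exact hne 3 (by norm_num) (by rw [← h]; ring)
  · have := key 1 (by norm_num)
    rwa [pow_one] at this

end Three

end Cfsg.Agent.H701
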