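import Cfsg.Agent.H701.Orth

/-!
# `Ex2` for the three orthogonal families
-/

set_option autoImplicit false
set_option linter.all false

namespace Cfsg.Agent.H701

namespace Orth

open QuadraticMap Matrix
open Cfsg.Agent.LieClassical.OmegaReindex (quadPlus quadOdd quadMinus polar_quadPlus polar_quadOdd
  polar_quadMinus quadPlus_nondegenerate quadOdd_nondegenerate quadMinus_nondegenerate
  coe_quadPlus coe_quadOdd coe_quadMinus)

variable {F : Type*} [Field F] {m : ℕ}

theorem plus_apply (v : Fin m ⊕ Fin m → F) : quadPlus m F v = ∑ i : Fin m, v (.inl i) * v (.inr i) := by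
  rw [coe_quadPlus]; rfl

/-- the configuration in the plus form -/
noncomputable def confPlus {i j k l : Fin m} (hij : i ≠ j) (hik : i ≠ k) (hil : i ≠ l) (hjk : j ≠ k)
    (hjl : j ≠ l) (hkl : k ≠ l) : Conf (quadPlus m F) where
  nd := quadPlus_nondegenerate
  e1 := Pi.single (.inl i) 1
  f1 := Pi.single (.inr i) 1
  e2 := Pi.single (.inl j) 1
  f2 := Pi.single (.inr j) 1
  e3 := Pi.single (.inl k) 1
  f3 := Pi.single (.inr k) 1
  x := Pi.single (.inl l) 1 + Pi.single (.inr l) 1
  Qe1 := by simp [plus_apply, Pi.single_apply]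
  Qe2 := by simp [plus_apply, Pi.single_apply]
  Qf2 := by simp [plus_apply, Pi.single_apply]
  Qe3 := by simp [plus_apply, Pi.single_apply]
  Qf3 := by simp [plus_apply, Pi.single_apply]
  Qx := by simp [plus_apply, Pi.single_apply]
  B11 := by simp [polar_quadPlus, Pi.single_apply]
  B22 := by simp [polar_quadPlus, Pi.single_apply]
  B33 := by simp [polar_quadPlus, Pi.single_apply]
  Be1e2 := by simp [polar_quadPlus, Pi.single_apply]
  Be1f2 := by simp [polar_quadPlus, Pi.single_apply, hij, hij.symm]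
  Be1e3 := by simp [polar_quadPlus, Pi.single_apply]
  Be1f3 := by simp [polar_quadPlus, Pi.single_apply, hik, hik.symm]
  Be1x := by simp [polar_quadPlus, Pi.single_apply, hil, hil.symm]
  Bf1e2 := by simp [polar_quadPlus, Pi.single_apply, hij, hij.symm]
  Bf1f2 := by simp [polar_quadPlus, Pi.single_apply, hij, hij.symm]
  Be2e3 := by simp [polar_quadPlus, Pi.single_apply]
  Be2f3 := by simp [polar_quadPlus, Pi.single_apply, hjk, hjk.symm]
  Be2x := by simp [polar_quadPlus, Pi.single_apply, hjl, hjl.symm]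
  Bf2e3 := by simp [polar_quadPlus, Pi.single_apply, hjk, hjk.symm]
  Bf2f3 := by simp [polar_quadPlus, Pi.single_apply]
  Bf2x := by simp [polar_quadPlus, Pi.single_apply, hjl, hjl.symm]
  Be3x := by simp [polar_quadPlus, Pi.single_apply, hkl, hkl.symm]
  Bf3x := by simp [polar_quadPlus, Pi.single_apply, hkl, hkl.symm]

theorem odd_apply (v : Unit ⊕ (Fin m ⊕ Fin m) → F) :
    quadOdd m F v = v (.inl ()) ^ 2 + ∑ i : Fin m, v (.inr (.inl i)) * v (.inr (.inr i)) := by
  rw [coe_quadOdd]; rfl

/-- the configuration in the odd form -/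
noncomputable def confOdd (h2 : (2 : F) ≠ 0) {i j k : Fin m} (hij : i ≠ j) (hik : i ≠ k)
    (hjk : j ≠ k) : Conf (quadOdd m F) where
  nd := quadOdd_nondegenerate h2
  e1 := Pi.single (.inr (.inl i)) 1
  f1 := Pi.single (.inr (.inr i)) 1
  e2 := Pi.single (.inr (.inl j)) 1
  f2 := Pi.single (.inr (.inr j)) 1
  e3 := Pi.single (.inr (.inl k)) 1
  f3 := Pi.single (.inr (.inr k)) 1
  x := Pi.single (.inl ()) 1
  Qe1 := by simp [odd_apply, Pi.single_apply]
  Qe2 := by simp [odd_apply, Pi.single_apply]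
  Qf2 := by simp [odd_apply, Pi.single_apply]
  Qe3 := by simp [odd_apply, Pi.single_apply]
  Qf3 := by simp [odd_apply, Pi.single_apply]
  Qx := by simp [odd_apply, Pi.single_apply]
  B11 := by simp [polar_quadOdd, Pi.single_apply]
  B22 := by simp [polar_quadOdd, Pi.single_apply]
  B33 := by simp [polar_quadOdd, Pi.single_apply]
  Be1e2 := by simp [polar_quadOdd, Pi.single_apply]
  Be1f2 := by simp [polar_quadOdd, Pi.single_apply, hij, hij.symm]
  Be1e3 := by simp [polar_quadOdd, Pi.single_apply]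
  Be1f3 := by simp [polar_quadOdd, Pi.single_apply, hik, hik.symm]
  Be1x := by simp [polar_quadOdd, Pi.single_apply]
  Bf1e2 := by simp [polar_quadOdd, Pi.single_apply, hij, hij.symm]
  Bf1f2 := by simp [polar_quadOdd, Pi.single_apply, hij, hij.symm]
  Be2e3 := by simp [polar_quadOdd, Pi.single_apply]
  Be2f3 := by simp [polar_quadOdd, Pi.single_apply, hjk, hjk.symm]
  Be2x := by simp [polar_quadOdd, Pi.single_apply]
  Bf2e3 := by simp [polar_quadOdd, Pi.single_apply, hjk, hjk.symm]
  Bf2f3 := by simp [polar_quadOdd, Pi.single_apply]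
  Bf2x := by simp [polar_quadOdd, Pi.single_apply]
  Be3x := by simp [polar_quadOdd, Pi.single_apply]
  Bf3x := by simp [polar_quadOdd, Pi.single_apply]

theorem minus_apply (a b : F) (v : (Fin m ⊕ Fin m) ⊕ Fin 2 → F) :
    quadMinus m F a b v = (∑ i : Fin m, v (.inl (.inl i)) * v (.inl (.inr i)))
    + (v (.inr 0) ^ 2 + a * v (.inr 0) * v (.inr 1) + b * v (.inr 1) ^ 2) := by
  rw [coe_quadMinus]; rfl

/-- the configuration in the minus form -/
noncomputable def confMinus [Finite F] {a b : F}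
    (hab : ∀ z₁ z₂ : F, z₁ ^ 2 + a * z₁ * z₂ + b * z₂ ^ 2 = 0 → z₁ = 0 ∧ z₂ = 0)
    {i j k : Fin m} (hij : i ≠ j) (hik : i ≠ k)
    (hjk : j ≠ k) : Conf (quadMinus m F a b) where
  nd := quadMinus_nondegenerate hab
  e1 := Pi.single (.inl (.inl i)) 1
  f1 := Pi.single (.inl (.inr i)) 1
  e2 := Pi.single (.inl (.inl j)) 1
  f2 := Pi.single (.inl (.inr j)) 1
  e3 := Pi.single (.inl (.inl k)) 1
  f3 := Pi.single (.inl (.inr k)) 1
  x := Pi.single (.inr 0) 1
  Qe1 := by simp [minus_apply, Pi.single_apply]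
  Qe2 := by simp [minus_apply, Pi.single_apply]
  Qf2 := by simp [minus_apply, Pi.single_apply]
  Qe3 := by simp [minus_apply, Pi.single_apply]
  Qf3 := by simp [minus_apply, Pi.single_apply]
  Qx := by simp [minus_apply, Pi.single_apply]
  B11 := by simp [polar_quadMinus, Pi.single_apply]
  B22 := by simp [polar_quadMinus, Pi.single_apply]
  B33 := by simp [polar_quadMinus, Pi.single_apply]
  Be1e2 := by simp [polar_quadMinus, Pi.single_apply]
  Be1f2 := by simp [polar_quadMinus, Pi.single_apply, hij, hij.symm]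
  Be1e3 := by simp [polar_quadMinus, Pi.single_apply]
  Be1f3 := by simp [polar_quadMinus, Pi.single_apply, hik, hik.symm]
  Be1x := by simp [polar_quadMinus, Pi.single_apply]
  Bf1e2 := by simp [polar_quadMinus, Pi.single_apply, hij, hij.symm]
  Bf1f2 := by simp [polar_quadMinus, Pi.single_apply, hij, hij.symm]
  Be2e3 := by simp [polar_quadMinus, Pi.single_apply]
  Be2f3 := by simp [polar_quadMinus, Pi.single_apply, hjk, hjk.symm]
  Be2x := by simp [polar_quadMinus, Pi.single_apply]
  Bf2e3 := by simp [polar_quadMinus, Pi.single_apply, hjk, hjk.symm]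
  Bf2f3 := by simp [polar_quadMinus, Pi.single_apply]
  Bf2x := by simp [polar_quadMinus, Pi.single_apply]
  Be3x := by simp [polar_quadMinus, Pi.single_apply]
  Bf3x := by simp [polar_quadMinus, Pi.single_apply]

theorem ex2_of_plus {G : Type*} [Group G] (h : Cfsg.IsPOmegaPlus G) : Ex2 G := by
  obtain ⟨F, _, _, m, hm, ⟨e⟩⟩ := h
  refine Ex2.congr e.symm ?_
  have := Orth.ex2 (confPlus (F := F) (m := m) (i := ⟨0, by omega⟩) (j := ⟨1, by omega⟩)
    (k := ⟨2, by omega⟩) (l := ⟨3, by omega⟩) (by simp) (by simp) (by simp) (by simp) (by simp)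
    (by simp))
  rw [coe_quadPlus] at this
  exact this

theorem ex2_of_odd {G : Type*} [Group G] (h : Cfsg.IsPOmegaOdd G) : Ex2 G := by
  obtain ⟨F, _, _, m, hm, ho, ⟨e⟩⟩ := h
  refine Ex2.congr e.symm ?_
  have h2 : (2 : F) ≠ 0 := by
    intro h
    have h1 : ringChar F ≠ 2 := by
      intro hr
      have := FiniteField.even_card_iff_char_two.1 hr
      rw [Nat.odd_iff] at ho
      omega
    exact Ring.two_ne_zero h1 h
  have := Orth.ex2 (confOdd (F := F) (m := m) h2 (i := ⟨0, by omega⟩) (j := ⟨1, by omega⟩)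
    (k := ⟨2, by omega⟩) (by simp) (by simp) (by simp))
  rw [coe_quadOdd] at this
  exact this

theorem ex2_of_minus {G : Type*} [Group G] (h : Cfsg.IsPOmegaMinus G) : Ex2 G := by
  obtain ⟨F, _, _, m, a, b, hm, hab, ⟨e⟩⟩ := h
  refine Ex2.congr e.symm ?_
  have := Orth.ex2 (confMinus (F := F) (m := m - 1) hab (i := ⟨0, by omega⟩) (j := ⟨1, by omega⟩)
    (k := ⟨2, by omega⟩) (by simp) (by simp) (by simp))
  rw [coe_quadMinus] at this
  exact this

end Orth

end Cfsg.Agent.H701
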