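import Cfsg.Agent.H701.Torus
import Cfsg.Agent.H701.PslThreeEven
import Cfsg.Agent.Ree.PSLBorel

/-!
# `Ex2` for `PSL_2(q)`, `q ≥ 8`
-/

set_option autoImplicit false
set_option linter.all false

namespace Cfsg.Agent.H701

open Matrix

namespace Two

variable {F : Type*} [Field F]

theorem conj_up {c : F} (h : IsConj (tv (F := F) (0 : Fin 2) 1 (by decide) 1)
    (tv (0 : Fin 2) 1 (by decide) c)) : IsSquare c := by
  obtain ⟨g, hg⟩ := isConj_iff.1 h
  have h1 : g * tv (0 : Fin 2) 1 (by decide) 1 = tv (0 : Fin 2) 1 (by decide) c * g := by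
    rw [← hg]; group
  have h2 : (slMat (Fin 2) F g) * (1 + Matrix.single 0 1 1) =
      (1 + Matrix.single 0 1 c) * (slMat (Fin 2) F g) := by
    rw [← slMat_tv (by decide : (0 : Fin 2) ≠ 1), ← slMat_tv (by decide : (0 : Fin 2) ≠ 1),
      ← map_mul, ← map_mul, h1]
  have hdet : (slMat (Fin 2) F g).det = 1 := g.2
  rw [Matrix.det_fin_two] at hdet
  have e00 := congrFun (congrFun h2 0) 0
  have e01 := congrFun (congrFun h2 0) 1
  simp [Matrix.mul_add, Matrix.add_mul, Matrix.mul_apply, Fin.sum_univ_two, Matrix.single_apply,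
    Matrix.add_apply] at e00 e01
  -- `e00 : c = 0 ∨ g 1 0 = 0`
  by_cases hc : c = 0
  · exact ⟨0, by rw [hc, mul_zero]⟩
  · have g10 : slMat (Fin 2) F g 1 0 = 0 := by
      rcases e00 with h | h
      · exact absurd h hc
      · exact h
    have g00 : slMat (Fin 2) F g 0 0 = c * slMat (Fin 2) F g 1 1 := by
      linear_combination e01
    refine ⟨slMat (Fin 2) F g 0 0, ?_⟩
    rw [g10, mul_zero, sub_zero] at hdet
    linear_combination (-(slMat (Fin 2) F g 0 0)) * g00 - c * hdet

theorem exists_pair_p [Finite F] {p : ℕ} [hp : Fact p.Prime] [CharP F p] (h2 : (2 : F) ≠ 0) :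
    ∃ x y : Matrix.ProjectiveSpecialLinearGroup (Fin 2) F, orderOf x = p ∧ orderOf y = p ∧
      ¬ IsConj x y := by
  haveI : Fintype F := Fintype.ofFinite F
  have hF : ringChar F ≠ 2 := by
    intro hr
    apply h2
    have := ringChar.Nat.cast_ringChar (R := F)
    rw [hr] at this
    simpa using this
  obtain ⟨c, hc⟩ := FiniteField.exists_nonsquare hF
  have hc0 : c ≠ 0 := by
    rintro rfl
    exact hc ⟨0, by simp⟩
  have h01 : (0 : Fin 2) ≠ 1 := by decide
  have hs : ∀ a : F, (slMat (Fin 2) F (tv 0 1 h01 a) - 1) ^ 2 = 0 := by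
    intro a
    rw [slMat_tv, add_sub_cancel_left, pow_two, Matrix.single_mul_single_of_ne _ _ _ _ h01.symm]
  have ho : ∀ a : F, a ≠ 0 → orderOf (tv (0 : Fin 2) 1 h01 a) = p := by
    intro a ha
    refine orderOf_eq_char (slMat (Fin 2) F) slMat_injective (hs a) hp.out.two_le ?_
    rw [slMat_tv, add_sub_cancel_left]
    intro h
    have := congrFun (congrFun h 0) 1
    simp at this
    exact ha this
  have hpw : ∀ a : F, a ≠ 0 → (tv (0 : Fin 2) 1 h01 a) ^ p ^ 1 = 1 := by
    intro a ha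
    rw [pow_one]
    have := pow_orderOf_eq_one (tv (0 : Fin 2) 1 h01 a)
    rwa [ho a ha] at this
  have hZ : NoP p (SpecialLinearGroup (Fin 2) F) := noP_sl
  refine ⟨((tv (0 : Fin 2) 1 h01 1 : SpecialLinearGroup (Fin 2) F) :
      SpecialLinearGroup (Fin 2) F ⧸ Subgroup.center _),
    ((tv (0 : Fin 2) 1 h01 c : SpecialLinearGroup (Fin 2) F) :
      SpecialLinearGroup (Fin 2) F ⧸ Subgroup.center _), ?_, ?_, ?_⟩
  · rw [orderOf_mk hZ (hpw 1 one_ne_zero), ho 1 one_ne_zero]
  · rw [orderOf_mk hZ (hpw c hc0), ho c hc0]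
  · intro h
    exact hc (conj_up (isConj_of_mk hZ (hpw 1 one_ne_zero) (hpw c hc0) h))

/-- `q` even -/
theorem ex2_even [Fintype F] (he : Even (Fintype.card F)) (h8 : 8 ≤ Fintype.card F) :
    Ex2 (Matrix.ProjectiveSpecialLinearGroup (Fin 2) F) := by
  obtain ⟨C, H, hCH, hrel, hC, hcard, -, hTI⟩ :=
    Cfsg.Agent.ClassicalGeometry.PSLTorus.exists_psl_torus F
  have hg : Nat.gcd 2 (Fintype.card F - 1) = 1 := by
    obtain ⟨k, hk⟩ := he
    rw [← Nat.coprime_iff_gcd_eq_one, Nat.coprime_two_left]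
    exact ⟨k - 1, by omega⟩
  rw [hg, Nat.div_one] at hcard
  refine Ex2.of_torus_three C H hC ?_ (m := Fintype.card F + 1) (by rw [hcard]) ?_ (by omega)
  · intro g hg x hx hx'
    refine hTI g⁻¹ (fun h => hg (by simpa using H.inv_mem h)) x hx ?_
    rwa [inv_inv]
  · rw [hrel]
    by_contra hcon
    push Not at hcon
    have := le_of_totient (m := Fintype.card F + 1) (by omega) (by omega)
    obtain ⟨p, hp⟩ := CharP.exists F
    have hpp : p.Prime := CharP.char_is_prime F p
    obtain ⟨n, -, hn⟩ := FiniteField.card F p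
    have hp2 : p = 2 := by
      have : 2 ∣ p ^ (n : ℕ) := by rw [← hn]; exact he.two_dvd
      exact ((Nat.prime_dvd_prime_iff_eq Nat.prime_two hpp).1
        (Nat.prime_two.dvd_of_dvd_pow this)).symm
    rw [hp2] at hn
    have hn4 : (n : ℕ) < 4 := by
      by_contra h
      push Not at h
      have : 2 ^ 4 ≤ 2 ^ (n : ℕ) := Nat.pow_le_pow_right (by norm_num) h
      omega
    have hn3 : (n : ℕ) = 3 := by
      by_contra h
      have : 2 ^ (n : ℕ) ≤ 2 ^ 2 := Nat.pow_le_pow_right (by norm_num) (by omega)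
      omega
    rw [hn3] at hn
    rw [hn] at hcon
    revert hcon
    decide

/-- `q` odd -/
theorem ex2_odd [Fintype F] (ho : Odd (Fintype.card F)) (h9 : 9 ≤ Fintype.card F) :
    Ex2 (Matrix.ProjectiveSpecialLinearGroup (Fin 2) F) := by
  obtain ⟨p, hp⟩ := CharP.exists F
  haveI hpf : Fact p.Prime := ⟨CharP.char_is_prime F p⟩
  have h2 : (2 : F) ≠ 0 := (Cfsg.Agent.ClassicalGeometry.PSLTorus.two_ne_zero_iff_odd F).2 ho
  obtain ⟨y1, y2, o1, o2, hy⟩ := exists_pair_p (F := F) (p := p) h2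
  obtain ⟨n, -, hn⟩ := FiniteField.card F p
  have hpq : p ∣ Fintype.card F := by rw [hn]; exact dvd_pow_self p n.ne_zero
  -- the second pair
  suffices hs : ∃ (m : ℕ) (x y : Matrix.ProjectiveSpecialLinearGroup (Fin 2) F), orderOf x = m ∧
      orderOf y = m ∧ ¬ IsConj x y ∧ m ≠ p by
    obtain ⟨m, x, y, h1, h2, h3, h4⟩ := hs
    exact Or.inr ⟨y1, y2, x, y, o1.trans o2.symm, h1.trans h2.symm, by rw [o1, h1]; exact h4.symm,
      hy, h3⟩
  have hodd := ho
  rw [Nat.odd_iff] at hodd
  have hp1 : ¬ p ∣ 1 := fun h => hpf.out.one_lt.ne' (Nat.dvd_one.1 h)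
  by_cases h11 : Fintype.card F = 11
  · obtain ⟨E, T, w, hD⟩ := Cfsg.Agent.Ree.PSLBorel.exists_data F ho
    have hT : Nat.card T = 5 := by
      have := hD.card_T
      omega
    have hcard := ncard_orderOf T hD.T_cyclic (m := 5) (by rw [hT])
    have hcl : ∀ x ∈ {x | x ∈ T ∧ orderOf x = 5},
        {y | y ∈ {x | x ∈ T ∧ orderOf x = 5} ∧ IsConj x y}.ncard ≤ 2 := by
      rintro x ⟨hx, hxo⟩
      have hx1 : x ≠ 1 := by
        rintro rfl
        rw [orderOf_one] at hxo
        omega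
      have hsub : {y | y ∈ {x | x ∈ T ∧ orderOf x = 5} ∧ IsConj x y} ⊆ {x, x⁻¹} := by
        rintro y ⟨⟨hy, -⟩, hc⟩
        obtain ⟨g, hg⟩ := isConj_iff.1 hc
        letI := hD.T_cyclic.commGroup
        have hcomm : ∀ t ∈ T, t * x * t⁻¹ = x := by
          intro t ht
          have h := mul_comm (⟨t, ht⟩ : T) ⟨x, hx⟩
          have h' : t * x = x * t := congrArg Subtype.val h
          rw [h']; group
        rcases hD.ti_T x hx hx1 g (by rw [hg]; exact hy) with h | h
        · left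
          rw [← hg, hcomm g h]
        · right
          rw [Set.mem_singleton_iff, ← hg]
          have h3 : w * x * w⁻¹ = x⁻¹ := hD.w_inv x hx
          have h4 : w⁻¹ * x⁻¹ * w = x := by rw [← h3]; group
          have h5 : w⁻¹ * x * w = x⁻¹ := by
            have : (w⁻¹ * x⁻¹ * w)⁻¹ = x⁻¹ := by rw [h4]
            rw [← this]; group
          have h6 : g * x⁻¹ * g⁻¹ = x := by
            calc g * x⁻¹ * g⁻¹ = (g * w) * (w⁻¹ * x⁻¹ * w) * (g * w)⁻¹ := by group
              _ = x := by rw [h4]; exact hcomm _ h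
          calc g * x * g⁻¹ = (g * x⁻¹ * g⁻¹)⁻¹ := by group
            _ = x⁻¹ := by rw [h6]
      refine (Set.ncard_le_ncard hsub (Set.toFinite _)).trans ?_
      exact (Set.ncard_insert_le _ _).trans (by rw [Set.ncard_singleton])
    have h5 : (5 : ℕ).totient = 4 := by decide
    obtain ⟨x, hx, y, hy, hxy⟩ := two_of_ncard hcl (by
      rw [Set.nonempty_iff_ne_empty]
      intro h0
      rw [h0, Set.ncard_empty] at hcard
      omega) (by rw [hcard]; omega)
    refine ⟨5, x, y, hx.2, hy.2, hxy, ?_⟩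
    rintro rfl
    rw [h11] at hpq
    norm_num at hpq
  · obtain ⟨C, H, hCH, hrel, hC, hcard, -, hTI⟩ :=
      Cfsg.Agent.ClassicalGeometry.PSLTorus.exists_psl_torus F
    have hg : Nat.gcd 2 (Fintype.card F - 1) = 2 := by
      apply Nat.gcd_eq_left
      omega
    rw [hg] at hcard
    have hm1 : (Fintype.card F + 1) / 2 ≠ 1 := by omega
    obtain ⟨x, y, -, -, hx, hy, hxy⟩ := exists_torus_two C H hC (by
      intro g hg x hx hx'
      refine hTI g⁻¹ (fun h => hg (by simpa using H.inv_mem h)) x hx ?_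
      rwa [inv_inv]) (m := (Fintype.card F + 1) / 2) (by rw [hcard]) (by
        rw [hrel]
        by_contra hcon
        push Not at hcon
        have := le_of_totient_two (m := (Fintype.card F + 1) / 2) (by omega) hcon
        omega) hm1
    refine ⟨_, x, y, hx, hy, hxy, ?_⟩
    intro he
    apply hp1
    have h1 : p ∣ Fintype.card F + 1 := by
      rw [← he]
      exact ⟨2, by omega⟩
    exact (Nat.dvd_add_right hpq).1 h1

end Two

/-- `PSL`, apart from the two exceptions -/
theorem ex2_of_isPSL {F : Type} [Field F] [Fintype F] {n : ℕ} (hn : 2 ≤ n)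
    (h2 : n = 2 → 8 ≤ Fintype.card F) (h3 : n = 3 → 3 ≤ Fintype.card F) :
    Ex2 (Matrix.ProjectiveSpecialLinearGroup (Fin n) F) := by
  rcases Nat.lt_or_ge n 3 with h | h
  · have hn2 : n = 2 := by omega
    subst hn2
    have h8 := h2 rfl
    rcases Nat.even_or_odd (Fintype.card F) with he | ho
    · exact Two.ex2_even he h8
    · refine Two.ex2_odd ho ?_
      rw [Nat.odd_iff] at ho
      omega
  · rcases Nat.lt_or_ge n 4 with h' | h'
    · have hn3 : n = 3 := by omega
      subst hn3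
      exact Three.ex2_psl_three (by rw [Nat.card_eq_fintype_card]; exact h3 rfl)
    · have hfour : Four (⟨0, by omega⟩ : Fin n) ⟨1, by omega⟩ ⟨2, by omega⟩ ⟨3, by omega⟩ := by
        constructor <;> simp
      exact ex2_psl_four hfour

end Cfsg.Agent.H701
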