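import Cfsg.Agent.H701.PslFour
import Cfsg.Agent.S0246
import Cfsg.Prelude.Def_Classical

/-!
# `Ex2` for `PSp_2m(q)`, `m ≥ 2`
-/

set_option autoImplicit false
set_option linter.all false

namespace Cfsg.Agent.H701

open Matrix

theorem noP_of_coprime {Q : Type*} [Group Q] {p : ℕ}
    (h : Nat.Coprime p (Nat.card (Subgroup.center Q))) : NoP p Q := by
  intro z hz hp
  have h1 : orderOf z ∣ p := orderOf_dvd_of_pow_eq_one hp
  have h2 : orderOf z ∣ Nat.card (Subgroup.center Q) := by
    have := orderOf_dvd_natCard (⟨z, hz⟩ : Subgroup.center Q)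
    rwa [Subgroup.orderOf_mk] at this
  have : orderOf z ∣ 1 := by
    rw [← h]
    exact Nat.dvd_gcd h1 h2
  rwa [Nat.dvd_one, orderOf_eq_one_iff] at this

namespace Sp

variable {l F : Type*} [Fintype l] [DecidableEq l] [Field F]

/-- the element `(1 B; 0 1)` -/
def up (B : Matrix l l F) (hB : Bᵀ = B) : symplecticGroup l F :=
  ⟨fromBlocks 1 B 0 1, by
    rw [SymplecticGroup.mem_iff, Matrix.J, fromBlocks_transpose, fromBlocks_multiply,
      fromBlocks_multiply]
    simp [hB]⟩

/-- the matrices of the symplectic group -/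
def sm (l F : Type*) [Fintype l] [DecidableEq l] [Field F] :
    symplecticGroup l F →* Matrix (l ⊕ l) (l ⊕ l) F := (symplecticGroup l F).subtype

theorem sm_injective : Function.Injective (sm l F) := fun _ _ h => Subtype.ext h

theorem sm_up (B : Matrix l l F) (hB : Bᵀ = B) : sm l F (up B hB) = fromBlocks 1 B 0 1 := rfl

theorem sm_up_sub (B : Matrix l l F) (hB : Bᵀ = B) :
    sm l F (up B hB) - 1 = fromBlocks 0 B 0 0 := by
  rw [sm_up, ← fromBlocks_one, sub_eq_add_neg, fromBlocks_neg, fromBlocks_add]
  simp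

theorem sm_up_sq (B : Matrix l l F) (hB : Bᵀ = B) : (sm l F (up B hB) - 1) ^ 2 = 0 := by
  rw [sm_up_sub, pow_two, fromBlocks_multiply]
  simp

theorem fromBlocks_single (i j : l) (a : F) :
    fromBlocks (0 : Matrix l l F) (Matrix.single i j a) 0 0 =
      Matrix.single (Sum.inl i : l ⊕ l) (Sum.inr j : l ⊕ l) a := by
  ext (x | x) (y | y) <;> simp [Matrix.single_apply]

/-- the element is alternating -/
def AltP (g : symplecticGroup l F) : Prop :=
  ∀ v : l ⊕ l → F, v ⬝ᵥ ((sm l F g * J l F) *ᵥ v) = 0

theorem AltP.conj {g h : symplecticGroup l F} (hc : IsConj g h) (hg : AltP g) : AltP h := by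
  obtain ⟨c, rfl⟩ := isConj_iff.1 hc
  intro v
  have h1 : sm l F c * J l F * (sm l F c)ᵀ = J l F := SymplecticGroup.mem_iff.1 c.2
  have h2 : sm l F c⁻¹ * sm l F c = 1 := by rw [← map_mul, inv_mul_cancel, map_one]
  have h3 : sm l F c⁻¹ * J l F = J l F * (sm l F c)ᵀ := by
    calc sm l F c⁻¹ * J l F = sm l F c⁻¹ * (sm l F c * J l F * (sm l F c)ᵀ) := by rw [h1]
      _ = (sm l F c⁻¹ * sm l F c) * (J l F * (sm l F c)ᵀ) := by simp only [Matrix.mul_assoc]
      _ = J l F * (sm l F c)ᵀ := by rw [h2, one_mul]
  have h4 : sm l F (c * g * c⁻¹) * J l F = sm l F c * (sm l F g * J l F) * (sm l F c)ᵀ := by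
    rw [map_mul, map_mul, Matrix.mul_assoc, h3]
    simp only [Matrix.mul_assoc]
  rw [h4, ← Matrix.mulVec_mulVec, ← Matrix.mulVec_mulVec, Matrix.dotProduct_mulVec]
  have := hg ((sm l F c)ᵀ *ᵥ v)
  rwa [Matrix.mulVec_transpose] at this ⊢

theorem altP_up_iff (B : Matrix l l F) (hB : Bᵀ = B) :
    AltP (up B hB) ↔ ∀ a : l → F, a ⬝ᵥ (B *ᵥ a) = 0 := by
  have e : ∀ a b : l → F, Sum.elim a b ⬝ᵥ ((sm l F (up B hB) * J l F) *ᵥ Sum.elim a b) =
      a ⬝ᵥ (B *ᵥ a) := by
    intro a b
    rw [sm_up, Matrix.J, fromBlocks_multiply, fromBlocks_mulVec]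
    simp only [Matrix.one_mul, Matrix.mul_zero, Matrix.mul_one, zero_add, Matrix.mul_neg, add_zero,
      neg_zero, Matrix.zero_mul, Sum.elim_comp_inl, Sum.elim_comp_inr]
    rw [sumElim_dotProduct_sumElim]
    simp only [Matrix.neg_mulVec, Matrix.one_mulVec, Matrix.zero_mulVec, add_zero,
      dotProduct_add, dotProduct_neg]
    rw [dotProduct_comm b a]
    ring
  constructor
  · intro h a
    rw [← e a 0]
    exact h _
  · intro h v
    rw [← Sum.elim_comp_inl_inr v, e]
    exact h _

theorem noP {p : ℕ} [Fact p.Prime] [CharP F p] [Finite F] {m : ℕ} (hm : 1 ≤ m) :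
    NoP p (symplecticGroup (Fin m) F) := by
  haveI := Fintype.ofFinite F
  apply noP_of_coprime
  rw [Cfsg.Agent.S0246.result rfl m hm]
  obtain ⟨n, hp, hn⟩ := FiniteField.card F p
  rw [hn]
  have hpos : 0 < (n : ℕ) := n.pos
  have hdvd : p ∣ p ^ (n : ℕ) := dvd_pow_self p hpos.ne'
  have hge : 1 ≤ p ^ (n : ℕ) := Nat.one_le_pow _ _ hp.pos
  have : Nat.Coprime p (p ^ (n : ℕ) - 1) := by
    rw [Nat.Prime.coprime_iff_not_dvd hp]
    intro h
    have := (Nat.dvd_sub hdvd h)
    rw [Nat.sub_sub_self hge] at this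
    exact hp.one_lt.ne' (Nat.dvd_one.1 this)
  exact Nat.Coprime.coprime_dvd_right (Nat.gcd_dvd_right _ _) this

theorem ex2 [Finite F] {m : ℕ} {i j : Fin m} (hij : i ≠ j) : Ex2 (Cfsg.PSp m F) := by
  haveI : Fintype F := Fintype.ofFinite F
  obtain ⟨p, hp⟩ := CharP.exists F
  haveI : Fact p.Prime := ⟨CharP.char_is_prime F p⟩
  have hp2 : 2 ≤ p := (Fact.out : p.Prime).two_le
  have hm : 1 ≤ m := by
    have := i.2
    omega
  have hZ : NoP p (symplecticGroup (Fin m) F) := noP hm
  have hB1 : (Matrix.single i i (1 : F))ᵀ = Matrix.single i i 1 := by simp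
  have hB2 : (Matrix.single i i (1 : F) + Matrix.single j j 1)ᵀ =
      Matrix.single i i 1 + Matrix.single j j 1 := by simp
  have hB3 : (Matrix.single i j (1 : F) + Matrix.single j i 1)ᵀ =
      Matrix.single i j 1 + Matrix.single j i 1 := by simp [add_comm]
  have ord : ∀ (B : Matrix (Fin m) (Fin m) F) (hB : Bᵀ = B), B ≠ 0 →
      orderOf (up B hB) = p := by
    intro B hB h0
    apply orderOf_eq_char (sm (Fin m) F) sm_injective (sm_up_sq B hB) hp2
    rw [sm_up_sub]
    intro h
    apply h0
    ext a b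
    have := congrFun (congrFun h (Sum.inl a)) (Sum.inr b)
    simpa using this
  have pw : ∀ (B : Matrix (Fin m) (Fin m) F) (hB : Bᵀ = B), (up B hB) ^ p ^ 1 = 1 := by
    intro B hB
    exact pow_char_eq_one (sm (Fin m) F) sm_injective (sm_up_sq B hB) (by simpa using hp2)
  have z1 : Matrix.single i i (1 : F) ≠ 0 := single_one_ne
  have z2 : Matrix.single i i (1 : F) + Matrix.single j j 1 ≠ 0 := by
    intro h
    have := congrFun (congrFun h i) i
    simp [hij.symm] at this
  have z3 : Matrix.single i j (1 : F) + Matrix.single j i 1 ≠ 0 := by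
    intro h
    have := congrFun (congrFun h i) j
    simp [hij.symm] at this
  have c12 : ¬ IsConj (up _ hB1) (up _ hB2) := by
    intro hc
    have := rk1_iff_of_isConj (sm (Fin m) F) hc (by
      rw [sm_up_sub, fromBlocks_single]; exact rk1_single _ _ _)
    rw [sm_up_sub] at this
    have e : fromBlocks (0 : Matrix (Fin m) (Fin m) F)
        (Matrix.single i i (1 : F) + Matrix.single j j 1) 0 0 =
        Matrix.single (Sum.inl i : Fin m ⊕ Fin m) (Sum.inr i : Fin m ⊕ Fin m) 1 +
          Matrix.single (Sum.inl j : Fin m ⊕ Fin m) (Sum.inr j : Fin m ⊕ Fin m) 1 := by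
      rw [← fromBlocks_single, ← fromBlocks_single, fromBlocks_add]
      simp
    rw [e] at this
    exact not_rk1_add (by simpa using hij) (by simpa using hij) one_ne_zero one_ne_zero this
  rcases eq_or_ne p 2 with rfl | hne
  · have a1 : ¬ AltP (up _ hB1) := by
      rw [altP_up_iff]
      intro h
      have := h (Pi.single i 1)
      simp at this
    have a2 : ¬ AltP (up _ hB2) := by
      rw [altP_up_iff]
      intro h
      have := h (Pi.single i 1)
      simp [Matrix.add_mulVec, hij, hij.symm] at this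
    have a3 : AltP (up _ hB3) := by
      rw [altP_up_iff]
      intro a
      have h2 : (2 : F) = 0 := by
        have := CharP.cast_eq_zero F 2
        simpa using this
      have : a ⬝ᵥ ((Matrix.single i j (1 : F) + Matrix.single j i 1) *ᵥ a) = 2 * (a i * a j) := by
        rw [Matrix.add_mulVec, dotProduct_add]
        have e : ∀ x y : Fin m, a ⬝ᵥ (Matrix.single x y (1 : F) *ᵥ a) = a x * a y := by
          intro x y
          rw [Matrix.single_mulVec, one_mul]
          exact dotProduct_single _ _ _
        rw [e, e]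
        ring
      rw [this, h2, zero_mul]
    exact Ex2.quot_three hZ (pw _ hB1) (pw _ hB2) (pw _ hB3)
      ((ord _ hB1 z1).trans (ord _ hB2 z2).symm) ((ord _ hB2 z2).trans (ord _ hB3 z3).symm) c12
      (fun h => a1 (a3.conj h.symm)) (fun h => a2 (a3.conj h.symm))
  · -- the involution acting on one hyperbolic plane
    have h2F : (2 : F) ≠ 0 := by
      intro h
      have : ((2 : ℕ) : F) = 0 := by simpa using h
      rw [CharP.cast_eq_zero_iff F p] at this
      exact hne ((Nat.prime_dvd_prime_iff_eq (Fact.out : p.Prime) Nat.prime_two).1 this)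
    let d : Fin m → F := fun k => if k = i then -1 else 1
    have hd' : ∀ k, d k * d k = 1 := by
      intro k
      by_cases hk : k = i <;> simp [d, hk]
    have hd : Matrix.diagonal d * Matrix.diagonal d = 1 := by
      rw [Matrix.diagonal_mul_diagonal, ← Matrix.diagonal_one]
      congr 1
      ext k
      exact hd' k
    let z : symplecticGroup (Fin m) F := ⟨fromBlocks (Matrix.diagonal d) 0 0 (Matrix.diagonal d), by
      rw [SymplecticGroup.mem_iff, Matrix.J, fromBlocks_transpose, fromBlocks_multiply,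
        fromBlocks_multiply]
      simp only [Matrix.mul_zero, Matrix.mul_one, Matrix.zero_mul, Matrix.mul_neg, add_zero,
        zero_add, neg_zero, Matrix.transpose_zero, Matrix.diagonal_transpose, Matrix.neg_mul, hd]⟩
    have hzm : sm (Fin m) F z = fromBlocks (Matrix.diagonal d) 0 0 (Matrix.diagonal d) := rfl
    have hzz : z * z = 1 := by
      apply sm_injective
      rw [map_mul, hzm, fromBlocks_multiply, hd, map_one, ← fromBlocks_one]
      simp
    have comm : ∀ (B : Matrix (Fin m) (Fin m) F) (hB : Bᵀ = B),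
        B * Matrix.diagonal d = Matrix.diagonal d * B → Commute (up B hB) z := by
      intro B hB h
      apply sm_injective
      rw [map_mul, map_mul, hzm, sm_up, fromBlocks_multiply, fromBlocks_multiply]
      simp [h]
    have hs : ∀ k, Matrix.single k k (1 : F) * Matrix.diagonal d =
        Matrix.diagonal d * Matrix.single k k (1 : F) := by
      intro k
      have e : Matrix.single k k (1 : F) = Matrix.diagonal (Pi.single k 1) := by
        ext a b
        rw [Matrix.single_apply, Matrix.diagonal_apply, Pi.single_apply]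
        by_cases hab : a = b
        · subst hab
          by_cases hk : k = a
          · simp [hk]
          · simp [hk, Ne.symm hk]
        · have : ¬ (k = a ∧ k = b) := by
            rintro ⟨h1, h2⟩
            exact hab (h1.symm.trans h2)
          simp [hab, this]
      rw [e, Matrix.diagonal_mul_diagonal, Matrix.diagonal_mul_diagonal]
      congr 1
      ext a
      ring
    have hzc : z ∉ Subgroup.center (symplecticGroup (Fin m) F) := by
      intro h
      have := Subgroup.mem_center_iff.1 h (up _ hB3)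
      have e := congrArg (sm (Fin m) F) this
      rw [map_mul, map_mul, hzm, sm_up, fromBlocks_multiply, fromBlocks_multiply] at e
      have e' := congrArg Matrix.toBlocks₁₂ e
      simp only [Matrix.toBlocks_fromBlocks₁₂, Matrix.mul_zero, Matrix.one_mul, add_zero, zero_add,
        Matrix.mul_one] at e'
      have e'' := congrFun (congrFun e' i) j
      simp [Matrix.mul_diagonal, Matrix.diagonal_mul, d, hij, hij.symm] at e''
      apply h2F
      have : (1 : F) + 1 = 0 := by
        nth_rewrite 1 [e'']
        ring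
      rwa [one_add_one_eq_two] at this
    have hzo : orderOf z = 2 := by
      apply orderOf_eq_prime
      · rw [pow_two, hzz]
      · rintro h
        apply hzc
        rw [h]
        exact Subgroup.one_mem _
    refine Ex2.quot_commute (Fact.out : p.Prime) hZ (pw _ hB1) (pw _ hB2)
      ((ord _ hB1 z1).trans (ord _ hB2 z2).symm) hzc ?_ (comm _ hB1 (hs i)) (comm _ hB2 ?_) c12
    · rw [hzo]
      intro h
      exact hne ((Nat.prime_dvd_prime_iff_eq (Fact.out : p.Prime) Nat.prime_two).1 h)
    · rw [add_mul, mul_add, hs, hs]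

end Sp

/-- `Ex2` for the family `PSp` -/
theorem ex2_of_isPSp {G : Type*} [Group G] (h : Cfsg.IsPSp G) : Ex2 G := by
  obtain ⟨F, _, _, m, hm, -, ⟨e⟩⟩ := h
  refine Ex2.congr e.symm ?_
  exact Sp.ex2 (i := ⟨0, by omega⟩) (j := ⟨1, by omega⟩) (by simp)

end Cfsg.Agent.H701
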