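import Cfsg.Agent.H701.PslThreeEven

/-!
# `Ex2` for `PSU_3(q)`, `q ≥ 3`
-/

set_option autoImplicit false
set_option linter.all false

namespace Cfsg.Agent.H701

open Matrix Cfsg Cfsg.Agent.LieClassical.HermBasic Cfsg.Agent.ClassicalGeometry.UnitTransv
open Cfsg.Agent.LieClassical.SUBasic (suDiag coe_suDiag mem_center_SU_iff)

namespace Su

variable {F : Type*} [Field F] [Fintype F] {q : ℕ}

/-- `SU₃` as a group of matrices with scalar centre -/
noncomputable def rep (hF : Fintype.card F = q ^ 2) : Three.Rep (SU 3 F q) F where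
  f := um 3 F q
  inj := um_injective
  cen := by
    intro z hz
    obtain ⟨c, h3, hc, rfl⟩ := (mem_center_SU_iff hF le_rfl z).1 hz
    refine ⟨c, h3, ?_⟩
    show Matrix.diagonal (fun _ => c) = _
    rw [← Matrix.diagonal_one, ← Matrix.diagonal_smul]
    congr 1
    ext i
    simp

theorem exists_gen_norm (hF : Fintype.card F = q ^ 2) : ∃ w : F, orderOf w = q + 1 := by
  obtain ⟨g, hg0, hg⟩ := Three.exists_gen F
  have hq := two_le hF
  have hcard : Nat.card F - 1 = (q - 1) * (q + 1) := by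
    rw [Nat.card_eq_fintype_card, hF]
    obtain ⟨m, rfl⟩ : ∃ m, q = m + 1 := ⟨q - 1, by omega⟩
    simp only [Nat.add_sub_cancel]
    have : (m + 1) ^ 2 = m * (m + 1 + 1) + 1 := by ring
    omega
  refine ⟨g ^ (q - 1), ?_⟩
  rw [orderOf_pow' _ (by omega), hg, hcard, Nat.gcd_eq_right (Dvd.intro _ rfl),
    Nat.mul_div_cancel_left _ (by omega)]

theorem norm_of_order {w : F} (h : orderOf w = q + 1) : w ^ (q + 1) = 1 := by
  rw [← h, pow_orderOf_eq_one]

/-- a diagonal element -/
def dg (q : ℕ) (a b c : F) (h : a * b * c = 1) (ha : a ^ (q + 1) = 1) (hb : b ^ (q + 1) = 1)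
    (hc : c ^ (q + 1) = 1) : SU 3 F q :=
  suDiag q ![a, b, c] (by rw [Fin.prod_univ_three]; simpa using h) (by
    intro i
    fin_cases i
    · exact ha
    · exact hb
    · exact hc)

theorem um_dg {a b c : F} (h : a * b * c = 1) (ha : a ^ (q + 1) = 1) (hb : b ^ (q + 1) = 1)
    (hc : c ^ (q + 1) = 1) : um 3 F q (dg q a b c h ha hb hc) = Matrix.diagonal ![a, b, c] := rfl

theorem ex2_even (hF : Fintype.card F = q ^ 2) (he : Even q) (h4 : 4 ≤ q)
    (h6 : q ≠ 6) : Ex2 (PSU 3 F q) := by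
  obtain ⟨w, hw⟩ := exists_gen_norm hF
  have hw0 : w ≠ 0 := by
    rintro rfl
    rw [orderOf_zero] at hw
    omega
  have h1 := norm_of_order hw
  have hi : w⁻¹ ^ (q + 1) = 1 := by rw [inv_pow, h1, inv_one]
  have hg := um_dg (q := q) (a := 1) (b := w) (c := w⁻¹) (by field_simp) (one_pow _) h1 hi
  rcases Nat.lt_or_ge q 7 with h | h
  · have hq : q = 4 := by
      obtain ⟨k, hk⟩ := he
      omega
    subst hq
    have hw3 : (w ^ 3) ^ (4 + 1) = 1 := by rw [← pow_mul, mul_comm, pow_mul, h1, one_pow]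
    have hh := um_dg (q := 4) (a := w) (b := w) (c := w ^ 3)
      (by
        calc w * w * w ^ 3 = w ^ (4 + 1) := by ring
          _ = 1 := h1) h1 h1 hw3
    exact Three.ex2_five (rep hF) hw hg hh
  · refine Three.ex2_diag (rep hF) (w := w) ?_ (by rw [hw]; omega) hg
    rw [hw]
    obtain ⟨k, hk⟩ := he
    exact ⟨k, by omega⟩

/-- two pairs of elements of prime power orders for different primes -/
theorem ex2_of_pairs {Q : Type*} [Group Q] [Finite Q] {p r b : ℕ} (hp : p.Prime)
    (hr : r.Prime) (hpr : p ≠ r)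
    (hZ : NoP p Q) (hZr : NoP r Q) {y₁ y₂ g h : Q} (o1 : orderOf y₁ = p) (o2 : orderOf y₂ = p)
    (hy : ¬ IsConj y₁ y₂) (og : orderOf g = r ^ b) (oh : orderOf h = r ^ b)
    (ht : ¬ IsConj g h) : Ex2 (Q ⧸ Subgroup.center Q) := by
  have q1 : y₁ ^ p ^ 1 = 1 := by rw [pow_one, ← o1, pow_orderOf_eq_one]
  have q2 : y₂ ^ p ^ 1 = 1 := by rw [pow_one, ← o2, pow_orderOf_eq_one]
  have q3 : g ^ r ^ b = 1 := by rw [← og, pow_orderOf_eq_one]
  have q4 : h ^ r ^ b = 1 := by rw [← oh, pow_orderOf_eq_one]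
  refine Or.inr ⟨y₁, y₂, g, h, ?_, ?_, ?_, ?_, ?_⟩
  · rw [orderOf_mk hZ q1, orderOf_mk hZ q2, o1, o2]
  · rw [orderOf_mk hZr q3, orderOf_mk hZr q4, og, oh]
  · rw [orderOf_mk hZ q1, orderOf_mk hZr q3, o1, og]
    intro hcon
    have : p ∣ r ^ b := by rw [← hcon]
    exact hpr ((Nat.prime_dvd_prime_iff_eq hp hr).1 (hp.dvd_of_dvd_pow this))
  · exact fun hc => hy (isConj_of_mk hZ q1 q2 hc)
  · exact fun hc => ht (isConj_of_mk hZr q3 q4 hc)

theorem two_pow_q (hF : Fintype.card F = q ^ 2) : (2 : F) ^ q = 2 := by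
  have := add_pow_q hF (1 : F) 1
  rw [one_pow, one_add_one_eq_two] at this
  exact this

/-- the order `p` pair -/
theorem exists_pair_p (hF : Fintype.card F = q ^ 2) {p : ℕ} [hp : Fact p.Prime] [CharP F p]
    (h2 : (2 : F) ≠ 0) : ∃ y₁ y₂ : SU 3 F q, orderOf y₁ = p ∧ orderOf y₂ = p ∧
      ¬ IsConj y₁ y₂ := by
  have hp3 : 3 ≤ p := by
    have := hp.out.two_le
    rcases Nat.lt_or_ge p 3 with h | h
    · exfalso
      have : p = 2 := by omega
      subst this
      apply h2
      have := CharP.cast_eq_zero F 2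
      simpa using this
    · exact h
  obtain ⟨s, hs⟩ := exists_norm_eq hF (c := (-1 : F)) (by rw [neg_pow_q hF, one_pow])
  obtain ⟨c, hc0, hc⟩ := exists_trace_zero_ne hF
  let a : Fin 3 → F := ![1, s, 0]
  let w : Fin 3 → F := ![0, 0, 1]
  have ha : hermForm 3 F q a a = 0 := by
    simp [herm_def, Fin.sum_univ_three, a, hs, zero_pow_q hF]
  have hwa : hermForm 3 F q w a = 0 := by
    simp [herm_def, Fin.sum_univ_three, a, w, zero_pow_q hF]
  have hww : hermForm 3 F q w w = 1 := by
    simp [herm_def, Fin.sum_univ_three, w, zero_pow_q hF]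
  have hmu : (-(2 : F)⁻¹) + (-(2 : F)⁻¹) ^ q + hermForm 3 F q w w = 0 := by
    rw [neg_pow_q hF, inv_pow, two_pow_q hF, hww]
    field_simp
    ring
  set y1 := utv hF a c ha hc with hy1
  set y2 := siegel hF a w (-(2 : F)⁻¹) ha hwa hmu with hy2
  have aw : hermForm 3 F q a w = 0 := herm_eq_zero_swap hF hwa
  have n1 : (um 3 F q y1 - 1) ^ 2 = 0 := um_utv_sq hF ha hc
  have sub2 : ∀ x : Fin 3 → F, (um 3 F q y2 - 1) *ᵥ x =
      hermForm 3 F q x a • w + (-(2 : F)⁻¹ * hermForm 3 F q x a - hermForm 3 F q x w) • a := by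
    intro x
    have h1 : um 3 F q y2 *ᵥ x = act y2 x := rfl
    rw [Matrix.sub_mulVec, Matrix.one_mulVec, h1, act_siegel]
    abel
  have sq2 : ∀ x : Fin 3 → F, (um 3 F q y2 - 1) *ᵥ ((um 3 F q y2 - 1) *ᵥ x) =
      (- hermForm 3 F q x a) • a := by
    intro x
    rw [sub2, sub2]
    simp only [herm_add_left, herm_smul_left, hwa, ha, aw, hww, mul_zero, mul_one, add_zero,
      zero_smul, zero_add, zero_sub]
  have cu2 : (um 3 F q y2 - 1) ^ 3 = 0 := by
    apply Matrix.ext_of_mulVec_single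
    intro i
    rw [pow_succ, pow_two, Matrix.zero_mulVec, ← Matrix.mulVec_mulVec, ← Matrix.mulVec_mulVec, sq2,
      sub2]
    simp only [herm_add_left, herm_smul_left, hwa, ha, mul_zero, add_zero, neg_zero, zero_smul]
  have a0 : a ≠ 0 := by
    intro h
    have := congrFun h 0
    simp [a] at this
  obtain ⟨x, hx⟩ := exists_herm_ne_zero hF a0
  have sne : (um 3 F q y2 - 1) ^ 2 ≠ 0 := by
    intro h
    have h1 := sq2 x
    rw [Matrix.mulVec_mulVec, ← pow_two, h, Matrix.zero_mulVec] at h1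
    have h3 := congrFun h1 0
    have aa0 : a 0 = 1 := rfl
    rw [Pi.smul_apply, smul_eq_mul, aa0, mul_one, Pi.zero_apply] at h3
    exact hx (herm_eq_zero_swap hF (neg_eq_zero.1 h3.symm))
  refine ⟨y1, y2, ?_, ?_, ?_⟩
  · refine orderOf_eq_char (um 3 F q) um_injective n1 (by omega) ?_
    rw [hy1, um_utv_sub]
    intro h
    have h3 := congrFun (congrFun h 0) 0
    have aa0 : a 0 = 1 := rfl
    rw [Matrix.smul_apply, Matrix.vecMulVec_apply, aa0, one_pow, mul_one, smul_eq_mul, mul_one,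
      Matrix.zero_apply] at h3
    exact hc0 h3
  · refine orderOf_eq_char (um 3 F q) um_injective cu2 hp3 ?_
    intro h
    exact sne (by rw [h]; simp)
  · intro hcj
    exact sne (pow_eq_zero_of_isConj (um 3 F q) hcj (n := 2) (by norm_num) n1)

/-- diagonal elements of order four -/
theorem exists_pair_four (hF : Fintype.card F = q ^ 2) (h2 : (2 : F) ≠ 0) (hq : q % 4 = 3) :
    ∃ g h : SU 3 F q, orderOf g = 4 ∧ orderOf h = 4 ∧ ¬ IsConj g h := by
  have hsq : IsSquare (-1 : F) := by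
    rw [FiniteField.isSquare_neg_one_iff, hF, pow_two, Nat.mul_mod, hq]
    norm_num
  obtain ⟨i, hi⟩ := hsq
  have hi2 : i ^ 2 = -1 := by rw [pow_two, ← hi]
  have hi0 : i ≠ 0 := by
    rintro rfl
    norm_num at hi2
  have e4 : q + 1 = 4 * ((q + 1) / 4) := by omega
  have hin : i ^ (q + 1) = 1 := by
    have : i ^ 4 = 1 := by
      calc i ^ 4 = (i ^ 2) ^ 2 := by ring
        _ = 1 := by rw [hi2]; ring
    rw [e4, pow_mul, this, one_pow]
  have hev : Even (q + 1) := ⟨2 * ((q + 1) / 4), by omega⟩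
  have hmn : (-i) ^ (q + 1) = 1 := by rw [hev.neg_pow, hin]
  have hm1 : (-1 : F) ^ (q + 1) = 1 := hev.neg_one_pow
  have d1 : 1 * i * (-i) = 1 := by linear_combination -hi2
  have d2 : i * i * (-1) = 1 := by linear_combination -hi2
  have hg := um_dg (q := q) (a := 1) (b := i) (c := -i) d1 (one_pow _) hin hmn
  have hh := um_dg (q := q) (a := i) (b := i) (c := -1) d2 hin hin hm1
  have ord : ∀ (a b c : F) (g : SU 3 F q), um 3 F q g = Matrix.diagonal ![a, b, c] →
      a ^ 4 = 1 → b ^ 4 = 1 → c ^ 4 = 1 → b ^ 2 ≠ 1 → orderOf g = 4 := by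
    intro a b c g hg ha hb hc hb2
    have pw : ∀ n : ℕ, um 3 F q (g ^ n) = Matrix.diagonal ![a ^ n, b ^ n, c ^ n] := by
      intro n
      rw [map_pow, hg, Matrix.diagonal_pow]
      congr 1
      ext j
      fin_cases j <;> rfl
    have : orderOf g = 2 ^ (1 + 1) := by
      apply orderOf_eq_prime_pow
      · intro hcon
        apply hb2
        have h1 := pw 2
        rw [show g ^ 2 = 1 by simpa using hcon, map_one] at h1
        have := congrFun (congrFun h1 1) 1
        simp at this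
        exact this.symm
      · apply um_injective (F := F) (n := 3) (q := q)
        rw [show 2 ^ (1 + 1) = 4 by norm_num, pw, map_one, ha, hb, hc, ← Matrix.diagonal_one]
        congr 1
        ext j
        fin_cases j <;> rfl
    simpa using this
  have i4 : i ^ 4 = 1 := by
    calc i ^ 4 = (i ^ 2) ^ 2 := by ring
      _ = 1 := by rw [hi2]; ring
  have i2 : i ^ 2 ≠ 1 := by
    rw [hi2]
    intro h
    apply h2
    linear_combination -h
  refine ⟨_, _, ord _ _ _ _ hg (one_pow _) i4 (by rw [neg_pow, i4]; norm_num) i2,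
    ord _ _ _ _ hh i4 i4 (by norm_num) i2, ?_⟩
  intro hc
  have ht := Three.trace_eq (rep hF) hc
  have t1 : ((rep hF).f (dg q 1 i (-i) d1 (one_pow _) hin hmn)).trace = 1 := by
    show (um 3 F q _).trace = 1
    rw [hg, Matrix.trace_fin_three]
    simp
  have t2 : ((rep hF).f (dg q i i (-1) d2 hin hin hm1)).trace = i + i - 1 := by
    show (um 3 F q _).trace = _
    rw [hh, Matrix.trace_fin_three]
    simp
    ring
  rw [t1, t2] at ht
  have h3 : 2 * (i - 1) = 0 := by linear_combination -ht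
  rcases mul_eq_zero.1 h3 with h | h
  · exact h2 h
  · apply i2
    rw [sub_eq_zero.1 h, one_pow]

/-- elements of order eight -/
theorem exists_pair_eight (hF : Fintype.card F = q ^ 2) (h2 : (2 : F) ≠ 0) (hq : q % 4 = 1) :
    ∃ g h : SU 3 F q, orderOf g = 8 ∧ orderOf h = 8 ∧ ¬ IsConj g h := by
  have hq2 := two_le hF
  have hsq : IsSquare (-1 : F) := by
    rw [FiniteField.isSquare_neg_one_iff, hF, pow_two, Nat.mul_mod, hq]
    norm_num
  have hsq2 : IsSquare (2 : F) := by
    rw [FiniteField.isSquare_two_iff, hF, pow_two, Nat.mul_mod]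
    have : q % 8 = 1 ∨ q % 8 = 5 := by omega
    rcases this with h | h <;> rw [h] <;> norm_num
  obtain ⟨i, hi⟩ := hsq
  obtain ⟨t, ht⟩ := hsq2
  have hi2 : i ^ 2 = -1 := by rw [pow_two, ← hi]
  have iq : i ^ q = i := by
    have e : q = 4 * (q / 4) + 1 := by omega
    have i4 : i ^ 4 = 1 := by
      calc i ^ 4 = (i ^ 2) ^ 2 := by ring
        _ = 1 := by rw [hi2]; ring
    rw [e, pow_succ, pow_mul, i4, one_pow, one_mul]
  have tq : t ^ q = t ∨ t ^ q = -t := by
    have h1 : t ^ q * t ^ q = t * t := by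
      rw [← mul_pow, ← ht, two_pow_q hF]
    exact mul_self_eq_mul_self_iff.1 h1
  have t0 : t ≠ 0 := by
    rintro rfl
    apply h2
    rw [ht]
    ring
  -- `τ^q = δ τ`, `τ² = 2 δ`
  obtain ⟨τ, δ, hδ, hτ, hτq, hδq, hτ0⟩ : ∃ τ δ : F, δ * δ = 1 ∧ τ * τ = 2 * δ ∧ τ ^ q = δ * τ ∧
      δ ^ q = δ ∧ τ ≠ 0 := by
    rcases tq with h | h
    · exact ⟨t, 1, by ring, by rw [← ht]; ring, by rw [h]; ring, one_pow _, t0⟩
    · refine ⟨i * t, -1, by ring, ?_, ?_, ?_, ?_⟩
      · linear_combination (t * t) * hi2 + ht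
      · rw [mul_pow, iq, h]; ring
      · rw [neg_pow_q hF, one_pow]
      · apply mul_ne_zero _ t0
        rintro rfl
        norm_num at hi2
  obtain ⟨b, hb⟩ := exists_norm_eq hF (c := (2 : F)⁻¹) (by rw [inv_pow, two_pow_q hF])
  have hδ0 : δ ≠ 0 := by
    rintro rfl
    rw [mul_zero] at hδ
    exact zero_ne_one hδ
  have build : ∀ τ : F, τ * τ = 2 * δ → τ ^ q = δ * τ →
      ∃ g : SU 3 F q, orderOf g = 8 ∧ ((rep hF).f g).trace = τ + δ := by
    intro τ hτ hτq
    have hbb : 2 * (b * b ^ q) = 1 := by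
      rw [hb]
      field_simp
    have hhalf : (τ / 2) * 2 = τ := by field_simp
    set a : F := τ / 2 with hadef
    have haq : a ^ q = δ * a := by
      rw [hadef, div_pow, two_pow_q hF, hτq]
      ring
    have haa : 2 * (a * a) = δ := by
      have : 4 * (a * a) = 2 * δ := by
        rw [← hτ, ← hhalf]
        ring
      have h3 : 2 * (2 * (a * a) - δ) = 0 := by linear_combination this
      rcases mul_eq_zero.1 h3 with h | h
      · exact absurd h h2
      · exact sub_eq_zero.1 h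
    have hdet : (Three.blk a (-(δ * b ^ q)) b a δ).det = 1 := by
      rw [Three.det_blk]
      have h3 : 2 * ((a * a - -(δ * b ^ q) * b) * δ - 1) = 0 := by
        linear_combination δ * haa + (δ * δ) * hbb + 2 * hδ
      rcases mul_eq_zero.1 h3 with h | h
      · exact absurd h h2
      · exact sub_eq_zero.1 h
    have bqq : (b ^ q) ^ q = b := pow_q_pow_q hF b
    have hherm : ∀ x y, hermForm 3 F q (Three.blk a (-(δ * b ^ q)) b a δ *ᵥ x)
        (Three.blk a (-(δ * b ^ q)) b a δ *ᵥ y) = hermForm 3 F q x y := by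
      intro x y
      have aδ : a * a ^ q = a * (δ * a) := by rw [haq]
      simp only [herm_def, Fin.sum_univ_three, Matrix.mulVec, dotProduct, Three.blk, Matrix.of_apply,
        Matrix.cons_val_zero, Matrix.cons_val_one, Matrix.cons_val, zero_mul, add_zero, zero_add,
        add_pow_q hF, mul_pow, neg_pow_q hF, bqq, haq, hδq, zero_pow_q hF, mul_zero]
      have h3 : ∀ u v : F, 2 * (u - v) = 0 → u = v := by
        intro u v h
        rcases mul_eq_zero.1 h with h | h
        · exact absurd h h2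
        · exact sub_eq_zero.1 h
      apply h3
      linear_combination (x 0 * y 0 ^ q + x 1 * y 1 ^ q) * (δ * haa + hbb + hδ) +
        (2 * x 2 * y 2 ^ q) * hδ + (x 1 * y 1 ^ q) * (2 * (b * b ^ q)) * hδ
        + (x 1 * y 0 ^ q * 2 * a * b ^ q) * hδ * (-1) + (x 0 * y 1 ^ q * 2 * b * a) * hδ * 0
    refine ⟨mk _ hdet hherm, ?_, ?_⟩
    · apply Three.orderOf_eight (rep hF) h2 (g := mk _ hdet hherm) rfl
      simp only [Three.blk_mul]
      have e1 : a * a + -(δ * b ^ q) * b = 0 := by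
        have h3 : 2 * (a * a + -(δ * b ^ q) * b) = 0 := by
          linear_combination haa - δ * hbb
        rcases mul_eq_zero.1 h3 with h | h
        · exact absurd h h2
        · exact h
      have e2 : b * -(δ * b ^ q) + a * a = 0 := by rw [← e1]; ring
      rw [e1, e2]
      congr 1
      · have h3 : 2 * ((a * -(δ * b ^ q) + -(δ * b ^ q) * a) * (b * a + a * b)) = 2 * (-1) := by
          linear_combination (-(4 * a * a * δ)) * hbb + (-2 * δ) * haa - 2 * hδ
        have h4 : 2 * (0 * 0 + (a * -(δ * b ^ q) + -(δ * b ^ q) * a) * (b * a + a * b) + 1) = 0 := by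
          linear_combination h3
        rcases mul_eq_zero.1 h4 with h | h
        · exact absurd h h2
        · linear_combination h
      · ring
      · ring
      · have h3 : 2 * ((a * -(δ * b ^ q) + -(δ * b ^ q) * a) * (b * a + a * b)) = 2 * (-1) := by
          linear_combination (-(4 * a * a * δ)) * hbb + (-2 * δ) * haa - 2 * hδ
        have h4 : 2 * (0 * 0 + (a * -(δ * b ^ q) + -(δ * b ^ q) * a) * (b * a + a * b) + 1) = 0 := by
          linear_combination h3
        rcases mul_eq_zero.1 h4 with h | h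
        · exact absurd h h2
        · linear_combination h
      · linear_combination (δ * δ + 1) * hδ
    · show (Three.blk a (-(δ * b ^ q)) b a δ).trace = _
      rw [Three.trace_blk]
      linear_combination hhalf
  obtain ⟨g, hg, hgt⟩ := build τ hτ hτq
  obtain ⟨h, hh, hht⟩ := build (-τ) (by rw [neg_mul_neg]; exact hτ)
    (by rw [neg_pow_q hF, hτq]; ring)
  refine ⟨g, h, hg, hh, ?_⟩
  intro hc
  have := Three.trace_eq (rep hF) hc
  rw [hgt, hht] at this
  have h3 : 2 * τ = 0 := by linear_combination this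
  rcases mul_eq_zero.1 h3 with h | h
  · exact h2 h
  · exact hτ0 h

theorem ex2_odd (hF : Fintype.card F = q ^ 2) (ho : Odd q) : Ex2 (PSU 3 F q) := by
  obtain ⟨p, hp⟩ := CharP.exists F
  haveI hpf : Fact p.Prime := ⟨CharP.char_is_prime F p⟩
  have hodd : Odd (Fintype.card F) := by rw [hF]; exact ho.pow
  have h2 : (2 : F) ≠ 0 := by
    intro h
    have h1 : ringChar F ≠ 2 := by
      intro hr
      have := FiniteField.even_card_iff_char_two.1 hr
      rw [Nat.odd_iff] at hodd
      omega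
    exact Ring.two_ne_zero h1 h
  have hp2 : p ≠ 2 := by
    rintro rfl
    apply h2
    have := CharP.cast_eq_zero F 2
    simpa using this
  obtain ⟨y1, y2, o1, o2, hy⟩ := exists_pair_p hF (p := p) h2
  have hZ : NoP p (SU 3 F q) := noP hF le_rfl
  rcases Nat.lt_or_ge (q % 4) 2 with h | h
  · have h1 : q % 4 = 1 := by
      rw [Nat.odd_iff] at ho
      omega
    obtain ⟨g, k, og, ok, hgk⟩ := exists_pair_eight hF h2 h1
    exact ex2_of_pairs hpf.out Nat.prime_two hp2 hZ (rep hF).noP_two o1 o2 hy (b := 3) og ok hgk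
  · have h1 : q % 4 = 3 := by
      rw [Nat.odd_iff] at ho
      omega
    obtain ⟨g, k, og, ok, hgk⟩ := exists_pair_four hF h2 h1
    exact ex2_of_pairs hpf.out Nat.prime_two hp2 hZ (rep hF).noP_two o1 o2 hy (b := 2) og ok hgk

theorem ex2_of_isPSU {G : Type*} [Group G] (h : Cfsg.IsPSU G) : Ex2 G := by
  obtain ⟨F, _, _, n, q, hF, hn, hq, ⟨e⟩⟩ := h
  refine Ex2.congr e.symm ?_
  rcases Nat.lt_or_ge n 4 with h | h
  · have h3 : n = 3 := by omega
    subst h3
    have hq2 : q ≠ 2 := fun h => hq ⟨rfl, h⟩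
    have := two_le hF
    rcases Nat.even_or_odd q with he | ho
    · refine ex2_even hF he ?_ ?_
      · obtain ⟨k, hk⟩ := he
        omega
      · rintro rfl
        obtain ⟨p, k, hp, -, hk, hk0⟩ := exists_prime_pow hF
        have h2 : 2 ∣ p ^ k := by rw [← hk]; norm_num
        have h3 : 3 ∣ p ^ k := by rw [← hk]; norm_num
        have e2 := (Nat.prime_dvd_prime_iff_eq Nat.prime_two hp).1 (Nat.prime_two.dvd_of_dvd_pow h2)
        have e3 := (Nat.prime_dvd_prime_iff_eq Nat.prime_three hp).1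
          (Nat.prime_three.dvd_of_dvd_pow h3)
        omega
    · exact ex2_odd hF ho
  · exact ex2_four hF h

end Su

end Cfsg.Agent.H701
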