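import Cfsg.Agent.H701.Cent
import Cfsg.Agent.CTwoTab.Co1
import Cfsg.Agent.KFacts.Co1.Perf
import Cfsg.Agent.KFacts.Co1.YBig
import Cfsg.Agent.CoOneType.CentOctad
import Cfsg.Agent.CoOneType.ClosingCo1

set_option autoImplicit false

/-!
The Conway group `Co1`: the classes 2A (octads) and 2B.
-/

namespace Cfsg.Agent.H701

open Subgroup Cfsg
open Cfsg.Agent.SporadicA.Co0Mono
open Cfsg.Agent.SporadicA.Co1Simple (allOne exists_sign_perm N)
open Cfsg.Agent.CoOneType.SignFacts (wt wt_add_allOne sign_allOne_comm)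
open Cfsg.Agent.CoOneType.ClosingFacts (mk mk_mul mk_inv exists_mk mk_eq_one mk_eq)
open Cfsg.Agent.CoOneType.CentOctad (C0 mem_C0)
open Cfsg.Agent.KFacts.Co1D4

theorem three_dvd_octad {o : golayCode} (ho : wt o = 8) :
    3 ∣ Nat.card (Subgroup.centralizer ({mk (signCo0 o)} : Set Spor.Co1)) := by
  have : Finite Co0 := Cfsg.Agent.CoOneType.FrameFix.finite_co0
  let f : C0 o →* Spor.Co1 := (QuotientGroup.mk' (Subgroup.center Co0)).comp (C0 o).subtype
  have hker : Nat.card f.ker ≤ 2 := by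
    have h1 : Set.MapsTo (fun x : C0 o => (x : Co0)) (f.ker : Set (C0 o))
        ({1, signCo0 allOne} : Set Co0) := by
      intro x hx
      have h2 : ((x : Co0) : Spor.Co1) = 1 := hx
      exact (Cfsg.Agent.CoOneType.ClosingFacts.mk_eq_one (x : Co0)).1 h2
    have h2 := Set.ncard_le_ncard_of_injOn _ h1 (Subtype.val_injective.injOn) (Set.toFinite _)
    exact (Nat.card_coe_set_eq _).trans_le (h2.trans (Set.ncard_insert_le _ _ |>.trans
      (by rw [Set.ncard_singleton])))
  have hrange : f.range ≤ Subgroup.centralizer ({mk (signCo0 o)} : Set Spor.Co1) := by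
    rintro _ ⟨x, rfl⟩
    rw [Subgroup.mem_centralizer_singleton_iff]
    have h1 := mem_C0.1 x.2
    exact congrArg (fun y : Co0 => (y : Spor.Co1)) h1
  have hmul : Nat.card f.range * Nat.card f.ker = Nat.card (C0 o) := by
    rw [← Nat.card_congr (QuotientGroup.quotientKerEquivRange f).toEquiv, mul_comm]
    exact f.ker.card_mul_index
  have h3 : 3 ∣ Nat.card (C0 o) := by
    have h4 : Nat.card ↥(N ⊓ C0 o) ∣ Nat.card (C0 o) := card_dvd_of_le inf_le_right
    rw [KFacts.Co1.Perf.card_inf ho] at h4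
    exact (by norm_num : 3 ∣ 4096 * 322560).trans h4
  rw [← hmul] at h3
  rcases (Nat.Prime.dvd_mul Nat.prime_three).1 h3 with h | h
  · exact h.trans (card_dvd_of_le hrange)
  · have := Nat.le_of_dvd Nat.card_pos h
    omega

theorem ex2_co1 {K : Type*} [Group K] [Finite K] (h : Cfsg.Spor.IsoCo1 K) : Ex2 K := by
  obtain ⟨e⟩ := h
  have : Finite Cfsg.Spor.Co1 := Finite.of_equiv K e.toEquiv
  obtain ⟨o, ho⟩ := Cfsg.Agent.CoOneType.ClosingCo1.exists_octad
  have h1 : 89181388800 ≤ Nat.card (centralizer ({mk (signCo0 o)} : Set Spor.Co1)) :=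
    Cfsg.Agent.CoOneType.CentOctad.card_centralizer ho
  have h2 : Nat.card (centralizer ({TwoB.w} : Set Spor.Co1)) ≤ 2012774400 :=
    Cent.card_cent1 TwoB.k_sq
  have h3 : Nat.card GTwo.L ∣ Nat.card (centralizer ({TwoB.w} : Set Spor.Co1)) :=
    card_dvd_of_le fun l hl => Subgroup.mem_centralizer_singleton_iff.2 (TwoB.Lw l hl)
  rw [GTwo.card_L] at h3
  refine Ex2.congr e.symm (Ex2.of_inv (l := 3) (x := mk (signCo0 o)) (y := TwoB.w) ?_ ?_
    TwoB.ww TwoB.w_ne Nat.prime_three (by norm_num) ?_ (three_dvd_octad ho)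
    ((by norm_num : 3 ∣ 251596800).trans h3))
  · rw [← mk_mul, signCo0_mul_self]; rfl
  · exact KFacts.Co1.InCo1.z_ne_one ho
  · intro hc
    have h4 := card_centralizer_eq_of_isConj hc
    omega

end Cfsg.Agent.H701
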