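import Cfsg.Agent.H701.Cent
import Cfsg.Agent.CTwoTab.Fi23Fin

set_option autoImplicit false

/-!
The Fischer group `Fi23`: a transposition and a product of two commuting transpositions.
-/

namespace Cfsg.Agent.H701

open Subgroup
open Cfsg.Agent.Fischer.Fi23Nets
open Cfsg.Agent.Fischer.Fi23Z Cfsg.Agent.Fischer.Fi23Hom Cfsg.Agent.Fischer.Fi23Rel
open Cfsg.Agent.Fischer Cfsg.Agent.Fischer.Fi23Class Cfsg.Agent.Fischer.Fi23Simple
open Cfsg.Agent.KFacts.FiTTh.Cent
open Cfsg.Spor Cfsg.Spor.Fi23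
open Cfsg.Agent.CTwoTab.Fi23

theorem ex2_fi23 {K : Type*} [Group K] [Finite K] (h : Cfsg.Spor.IsoFi23 K) : Ex2 K := by
  obtain ⟨e⟩ := h
  have : Finite Cfsg.Spor.Fi23 := Finite.of_equiv K e.toEquiv
  obtain ⟨π, hπ, -⟩ := exists_pi2
  have h1 : Nat.card U ∣ Nat.card ↥(centralizer Ds2) := Subgroup.card_dvd_of_surjective π hπ
  rw [card_U] at h1
  have h3 : 3 ∣ Nat.card ↥(centralizer Ds2) := (by norm_num : 3 ∣ 9196830720).trans h1
  have hz : Nat.card ↥(centralizer Ds2) ∣ Nat.card ↥(centralizer ({z0} : Set Fi23)) :=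
    card_dvd_of_le fun x hx => mem_centralizer_singleton_iff.2 (mem_cent2.1 hx).1
  have hw : Nat.card ↥(centralizer Ds2) ∣ Nat.card ↥(centralizer ({z0 * gen .a} : Set Fi23)) := by
    refine card_dvd_of_le fun x hx => mem_centralizer_singleton_iff.2 ?_
    obtain ⟨h4, h5⟩ := mem_cent2.1 hx
    rw [← mul_assoc, h4, mul_assoc, h5, mul_assoc]
  have hzz : (z0 : Fi23) * z0 = 1 := Cfsg.Agent.KFacts.FiTTh.Cent.zz
  refine Ex2.congr e.symm (Ex2.of_inv (l := 3) (x := z0) (y := z0 * gen .a) hzz z0_one ?_ ?_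
    Nat.prime_three (by norm_num) not_conj2 (h3.trans hz) (h3.trans hw))
  · calc (z0 : Fi23) * gen .a * (z0 * gen .a) = (z0 * gen .a) * (gen .a * z0) := by rw [comm_za]
      _ = z0 * (gen .a * gen .a) * z0 := by group
      _ = 1 := by rw [aa, mul_one, hzz]
  · intro h4
    have h5 := c2
    have h6 : centralizer ({z0 * gen .a} : Set Fi23) = ⊤ := by
      rw [h4, eq_top_iff]
      intro x _
      rw [mem_centralizer_singleton_iff, mul_one, one_mul]
    apply h5
    rw [h6, card_top]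
    exact thirteen.trans (card_subgroup_dvd_card _)

end Cfsg.Agent.H701
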