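import Cfsg.Agent.H701.AltPair
import Cfsg.Agent.S2135
import Cfsg.Agent.NotCT.Orders

set_option autoImplicit false

/-!
The third Janko group: elements of order ten, from the centralizer `2^{1+4}.A₅`, and of order 19.
-/

namespace Cfsg.Agent.H701

open Subgroup

theorem ex2_j3 {K : Type*} [Group K] [Finite K] (h : Cfsg.Spor.IsoJ3 K) : Ex2 K := by
  have hcard : Nat.card K = 50232960 := Cfsg.Agent.NotCT.Orders.j3 h
  obtain ⟨F, _, _, ω, hF, hω, ⟨e⟩⟩ := h
  have : Finite (Cfsg.Spor.J3 F ω) := Finite.of_equiv K e.toEquiv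
  have hcard' : Nat.card (Cfsg.Spor.J3 F ω) = 50232960 := by
    rw [← hcard]; exact (Nat.card_congr e.toEquiv).symm
  obtain ⟨hone, t, ht, Q, hQ, -, hQ32, -, -, ⟨f⟩⟩ := Cfsg.Agent.S2135.result hF ω hω
  have hk : ∀ x ∈ (QuotientGroup.mk' Q).ker, x ^ 32 = 1 := by
    intro x hx
    rw [QuotientGroup.ker_mk'] at hx
    have := pow_card_eq_one' (x := (⟨x, hx⟩ : Q))
    rw [hQ32] at this
    exact congrArg Subtype.val this
  have hC : Nat.card (centralizer ({t} : Set (Cfsg.Spor.J3 F ω))) = 1920 := by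
    have h1 := card_eq_card_quotient_mul_card_subgroup Q
    have h2 := card_alt (k := 5) (by norm_num)
    rw [show (5 : ℕ).factorial = 120 from rfl] at h2
    rw [h1, Nat.card_congr f.toEquiv, hQ32,
      show Nat.card (alternatingGroup (Fin 5)) = 60 by omega]
  have h5 : Pair (centralizer ({t} : Set (Cfsg.Spor.J3 F ω))) 5 :=
    Pair.lift (QuotientGroup.mk' Q) (QuotientGroup.mk'_surjective _) (k := 32) hk
      (by norm_num) (Pair.congr f.symm pair_alt_five)
  have h19 : Pair (Cfsg.Spor.J3 F ω) 19 := by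
    refine pair_of_sylow (m := 2643840) (by norm_num) (by rw [hcard']) (by norm_num) ?_
    intro x hx c hc h1 h2
    have h3 : c ∣ 146880 := by
      rw [show (2643840 : ℕ) = 146880 * (19 - 1) from rfl] at h1
      exact Nat.dvd_of_mul_dvd_mul_right (by norm_num) h1
    have h4 : Even c := by
      by_contra hodd
      have hcop : c.Coprime (2 ^ 6) :=
        Nat.Coprime.pow_right _ (Nat.coprime_two_right.2 (Nat.not_even_iff_odd.1 hodd))
      rw [show (146880 : ℕ) = 2 ^ 6 * 2295 from rfl] at h3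
      have h6 : c ∈ Nat.divisors 2295 := Nat.mem_divisors.2 ⟨hcop.dvd_of_dvd_mul_left h3, by norm_num⟩
      have h7 : ∀ c ∈ Nat.divisors 2295, ¬ (2643840 % 19 = c * (19 - 1) % 19) := by
        decide +kernel
      exact h7 c h6 h2
    obtain ⟨s, hs⟩ : ∃ s : centralizer ({x} : Set (Cfsg.Spor.J3 F ω)), orderOf s = 2 := by
      have : Fact (Nat.Prime 2) := ⟨Nat.prime_two⟩
      exact exists_prime_orderOf_dvd_card' 2 (by rw [hc]; exact h4.two_dvd.mul_left _)
    have hs' : orderOf (s : Cfsg.Spor.J3 F ω) = 2 := by rw [orderOf_coe, hs]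
    have h5 := dvd_card_centralizer (y := (s : Cfsg.Spor.J3 F ω)) (z := x) (l := 19)
      (mem_centralizer_singleton_iff.1 s.2) (by rw [hx])
    rw [← card_centralizer_eq_of_isConj (hone t s ht hs'), hC] at h5
    revert h5
    norm_num
  exact Ex2.congr e.symm (Ex2.of_pairs (Pair.of_centralizer ht (by norm_num) h5) h19 (by norm_num))

end Cfsg.Agent.H701
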