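import Cfsg.Agent.H701.GolayFix
import Cfsg.Agent.NotCT.Orders

set_option autoImplicit false

/-!
The Mathieu group `M₂₂`: elements of orders 7 and 11.
-/

namespace Cfsg.Agent.H701

open Subgroup Cfsg.Agent.H565.Fix Cfsg.Agent.H701.Golay

/-- commuting elements of `M₂₂` of prime orders -/
theorem m22_comm {x s : Cfsg.Spor.M22} (hc : (s : Cfsg.Spor.M22) * x = x * s) {p : ℕ} (hp : p.Prime)
    (hx : orderOf x = p) :
    (Fx (s : Equiv.Perm GolayPt)).card ≡ (Fx (s : Equiv.Perm GolayPt) ∩ Fx (x : Equiv.Perm GolayPt)).card [MOD p] ∧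
      2 ≤ (Fx (s : Equiv.Perm GolayPt) ∩ Fx (x : Equiv.Perm GolayPt)).card := by
  constructor
  · refine card_mod_comm hp ?_ (congrArg Subtype.val hc).symm
    rw [← hx, ← orderOf_coe, pow_orderOf_eq_one]
  · have h1 : ({none, some 0} : Finset GolayPt) ⊆
        Fx (s : Equiv.Perm GolayPt) ∩ Fx (x : Equiv.Perm GolayPt) := by
      intro q hq
      rw [Finset.mem_insert, Finset.mem_singleton] at hq
      rw [Finset.mem_inter, mem_Fx, mem_Fx]
      rcases hq with rfl | rfl
      · exact ⟨s.2.1.2, x.2.1.2⟩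
      · exact ⟨s.2.2, x.2.2⟩
    have h2 := Finset.card_le_card h1
    rwa [Finset.card_pair (by simp)] at h2

theorem ex2_m22 {K : Type*} [Group K] [Finite K] (h : Cfsg.Spor.IsoM22 K) : Ex2 K := by
  have hcard : Nat.card K = 443520 := Cfsg.Agent.NotCT.Orders.m22 h
  obtain ⟨e⟩ := h
  have hcard' : Nat.card Cfsg.Spor.M22 = 443520 := by
    rw [← hcard]; exact (Nat.card_congr e.toEquiv).symm
  have hex : ∀ {x : Cfsg.Spor.M22} {r k : ℕ}, r.Prime →
      Nat.card (centralizer ({x} : Set Cfsg.Spor.M22)) = k → r ∣ k →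
      ∃ s : Cfsg.Spor.M22, s * x = x * s ∧ orderOf s = r := by
    intro x r k hr hk hrk
    have : Fact (Nat.Prime r) := ⟨hr⟩
    obtain ⟨s, hs⟩ := exists_prime_orderOf_dvd_card' (G := centralizer ({x} : Set Cfsg.Spor.M22)) r
      (by rw [hk]; exact hrk)
    exact ⟨s, mem_centralizer_singleton_iff.1 s.2, by rw [orderOf_coe, hs]⟩
  have hord : ∀ {x : Cfsg.Spor.M22} {r : ℕ}, orderOf x = r →
      orderOf (x : Equiv.Perm GolayPt) = r := by
    intro x r hx
    rw [orderOf_coe, hx]
  have h11 : Pair Cfsg.Spor.M22 11 := by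
    refine pair_of_sylow (m := 40320) (by norm_num) (by rw [hcard']) (by norm_num) ?_
    intro x hx c hc h1 h2
    have h3 : c ∣ 4032 := by
      rw [show (40320 : ℕ) = 4032 * (11 - 1) from rfl] at h1
      exact Nat.dvd_of_mul_dvd_mul_right (by norm_num) h1
    have h4 : Even c := by
      by_contra hodd
      have hcop : c.Coprime (2 ^ 6) :=
        Nat.Coprime.pow_right _ (Nat.coprime_two_right.2 (Nat.not_even_iff_odd.1 hodd))
      rw [show (4032 : ℕ) = 2 ^ 6 * 63 from rfl] at h3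
      have h6 : c ∈ Nat.divisors 63 := Nat.mem_divisors.2 ⟨hcop.dvd_of_dvd_mul_left h3, by norm_num⟩
      have h7 : ∀ c ∈ Nat.divisors 63, ¬ (40320 % 11 = c * (11 - 1) % 11) := by
        decide +kernel
      exact h7 c h6 h2
    obtain ⟨s, hs, hs2⟩ := hex Nat.prime_two hc (h4.two_dvd.mul_left _)
    have h8 := card_Fx_two s.2.1.1 (hord hs2) (p := none) s.2.1.2
    have h9 := card_Fx_eleven x.2.1.1 (hord hx)
    obtain ⟨h5, h6⟩ := m22_comm hs (by norm_num) hx
    have h7 := Finset.card_le_card (Finset.inter_subset_right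
      (s₁ := Fx (s : Equiv.Perm GolayPt)) (s₂ := Fx (x : Equiv.Perm GolayPt)))
    unfold Nat.ModEq at h5
    omega
  have h7 : Pair Cfsg.Spor.M22 7 := by
    refine pair_of_sylow (m := 63360) (by norm_num) (by rw [hcard']) (by norm_num) ?_
    intro x hx c hc h1 h2
    have h3 : c ∣ 10560 := by
      rw [show (63360 : ℕ) = 10560 * (7 - 1) from rfl] at h1
      exact Nat.dvd_of_mul_dvd_mul_right (by norm_num) h1
    have hx3 := card_Fx_seven x.2.1.1 (hord hx)
    by_cases h4 : Even c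
    · obtain ⟨s, hs, hs2⟩ := hex Nat.prime_two hc (h4.two_dvd.mul_left _)
      have h8 := card_Fx_two s.2.1.1 (hord hs2) (p := none) s.2.1.2
      obtain ⟨h5, h6⟩ := m22_comm hs (by norm_num) hx
      have h7 := Finset.card_le_card (Finset.inter_subset_right
        (s₁ := Fx (s : Equiv.Perm GolayPt)) (s₂ := Fx (x : Equiv.Perm GolayPt)))
      unfold Nat.ModEq at h5
      omega
    · have hcop : c.Coprime (2 ^ 6) :=
        Nat.Coprime.pow_right _ (Nat.coprime_two_right.2 (Nat.not_even_iff_odd.1 h4))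
      rw [show (10560 : ℕ) = 2 ^ 6 * 165 from rfl] at h3
      have h6 : c ∈ Nat.divisors 165 := Nat.mem_divisors.2 ⟨hcop.dvd_of_dvd_mul_left h3, by norm_num⟩
      have h7 : ∀ c ∈ Nat.divisors 165, 63360 % 7 = c * (7 - 1) % 7 → 11 ∣ c := by
        decide +kernel
      obtain ⟨s, hs, hs2⟩ := hex (by norm_num) hc ((h7 c h6 h2).mul_left _)
      have h8 := card_Fx_eleven s.2.1.1 (hord hs2)
      obtain ⟨h5, h6⟩ := m22_comm hs.symm (by norm_num) hs2
      have h7 := Finset.card_le_card (Finset.inter_subset_right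
        (s₁ := Fx (x : Equiv.Perm GolayPt)) (s₂ := Fx (s : Equiv.Perm GolayPt)))
      unfold Nat.ModEq at h5
      omega
  exact Ex2.congr e.symm (Ex2.of_pairs h7 h11 (by norm_num))

end Cfsg.Agent.H701
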