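import Cfsg.Agent.H701.AltPair
import Cfsg.Agent.S2132

set_option autoImplicit false

/-!
The McLaughlin group: elements of orders six and fourteen, from the centralizer `2.A₈`.
-/

namespace Cfsg.Agent.H701

open Subgroup

theorem ex2_mcl {K : Type*} [Group K] [Finite K] (h : Cfsg.Spor.IsoMcL K) : Ex2 K := by
  obtain ⟨e⟩ := h
  have : Finite Cfsg.Spor.McL := Finite.of_equiv K e.toEquiv
  obtain ⟨-, t, ht, h2, ⟨f⟩, -⟩ := Cfsg.Agent.S2132.result
  have hk : ∀ x ∈ (QuotientGroup.mk' (center (centralizer ({t} : Set Cfsg.Spor.McL)))).ker,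
      x ^ 2 = 1 := by
    intro x hx
    rw [QuotientGroup.ker_mk'] at hx
    have := pow_card_eq_one' (x := (⟨x, hx⟩ : center _))
    rw [h2] at this
    exact congrArg Subtype.val this
  have h3 : Pair (centralizer ({t} : Set Cfsg.Spor.McL)) 3 :=
    Pair.lift (QuotientGroup.mk' (center _)) (QuotientGroup.mk'_surjective _) (k := 2) hk
      (by norm_num) (Pair.congr f.symm (pair_alt_three (by norm_num)))
  have h7 : Pair (centralizer ({t} : Set Cfsg.Spor.McL)) 7 :=
    Pair.lift (QuotientGroup.mk' (center _)) (QuotientGroup.mk'_surjective _) (k := 2) hk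
      (by norm_num) (Pair.congr f.symm pair_alt_seven)
  exact Ex2.congr e.symm (Ex2.of_pairs (Pair.of_centralizer ht (by norm_num) h3)
    (Pair.of_centralizer ht (by norm_num) h7) (by norm_num))

end Cfsg.Agent.H701
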