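import Cfsg.Agent.H701.Cent
import Cfsg.Agent.CTwoTab.Ru
import Cfsg.Agent.Ru127.Y
import Cfsg.Agent.Ru127.CardD

set_option autoImplicit false

/-!
The Rudvalis group: two classes of involutions.
-/

namespace Cfsg.Agent.H701

open Subgroup Cfsg

theorem ex2_ru {K : Type*} [Group K] [Finite K] (h : Cfsg.Spor.IsoRu K) : Ex2 K := by
  obtain ⟨C, -, -⟩ := Cfsg.Agent.CTwoTab.Ru.exists_core_sz h
  have h1 := Cfsg.Agent.Ru127.Sg.card_cent C
  obtain ⟨a, ha⟩ : ∃ a : ZMod 2 × ZMod 2, a ≠ 0 := exists_ne 0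
  have h2 := Cfsg.Agent.Ru127.CardD.card_cent_v (C := C) ha
  rw [top_inf_eq] at h2
  have hz1 : C.z 1 ≠ 1 := fun h => one_ne_zero (C.z_eq_one h)
  have hv1 : C.v a ≠ 1 := by
    intro h
    rw [h] at h2
    have h3 : centralizer ({(1 : K)} : Set K) = ⊤ := by
      rw [eq_top_iff]
      intro x _
      rw [mem_centralizer_singleton_iff, mul_one, one_mul]
    rw [h3, card_top] at h2
    have h4 := card_subgroup_dvd_card (centralizer ({C.z 1} : Set K))
    rw [h1, h2] at h4
    revert h4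
    norm_num
  refine Ex2.of_cards (n := 2) (l := 5) (orderOf_eq_prime (by rw [pow_two, C.z_sq]) hz1)
    (orderOf_eq_prime (by rw [pow_two, C.v_sq]) hv1) (by norm_num) (by norm_num) h1 h2
    (by norm_num) (by norm_num) (by norm_num)

end Cfsg.Agent.H701
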