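import Cfsg.Agent.H701.Torus
import Cfsg.Agent.OddCyclic.ClaimC.SzIso
import Cfsg.Agent.S0333
import Cfsg.Agent.S1158
import Cfsg.Agent.Classification.FlavellU

/-!
# `Ex2` for the Suzuki and the Ree groups
-/

set_option autoImplicit false
set_option linter.all false

namespace Cfsg.Agent.H701

/-- `n ≤ φ(n)²` for odd `n` -/
theorem le_totient_sq (n : ℕ) (hn : Odd n) : n ≤ n.totient ^ 2 := by
  induction n using Nat.recOnPosPrimePosCoprime with
  | zero => exact absurd hn (by decide)
  | one => simp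
  | prime_pow p k hp hk =>
    have hp2 : p ≠ 2 := by
      rintro rfl
      exact (Nat.not_odd_iff_even.2 ((even_two).pow_of_ne_zero hk.ne')) hn
    have hp3 : 3 ≤ p := by
      have := hp.two_le
      omega
    rw [Nat.totient_prime_pow hp hk]
    obtain ⟨j, rfl⟩ : ∃ j, k = j + 1 := ⟨k - 1, by omega⟩
    rw [Nat.add_sub_cancel, pow_succ, mul_pow]
    have h1 : p ^ j ≤ (p ^ j) ^ 2 := Nat.le_self_pow two_ne_zero _
    have h2 : p ≤ (p - 1) ^ 2 := by
      obtain ⟨r, rfl⟩ : ∃ r, p = r + 3 := ⟨p - 3, by omega⟩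
      have : r + 3 - 1 = r + 2 := rfl
      rw [this]
      nlinarith
    exact Nat.mul_le_mul h1 h2
  | coprime a b ha hb hab iha ihb =>
    rw [Nat.odd_mul] at hn
    rw [Nat.totient_mul hab, mul_pow]
    exact Nat.mul_le_mul (iha hn.1) (ihb hn.2)

open Subgroup

theorem card_mul_relIndex_of_le {G : Type*} [Group G] {A B : Subgroup G} (h : A ≤ B) :
    Nat.card A * A.relIndex B = Nat.card B := by
  have := relIndex_mul_relIndex (⊥ : Subgroup G) A B bot_le h
  rwa [relIndex_bot_left, relIndex_bot_left] at this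

/-- the Suzuki groups -/
theorem ex2_of_isoSuzuki {G : Type*} [Group G] (h : Cfsg.Lie.IsoSuzuki G) : Ex2 G := by
  obtain ⟨F, _, _, m, hm, hF, ⟨e⟩⟩ := h
  obtain ⟨e'⟩ := Cfsg.Agent.OddCyclic.ClaimC.SzIso.iso hm hF
  haveI : Finite (Cfsg.Sz F m) := inferInstance
  refine Ex2.congr (e'.trans e.symm) ?_
  obtain ⟨U, hU, hk, hc, hN⟩ := S0333.result hm hF (2 ^ (2 * m + 1) + 2 ^ (m + 1) + 1) (by simp)
  have hle : U ≤ normalizer (U : Set (Cfsg.Sz F m)) := le_normalizer
  have hTI : ∀ g, g ∉ normalizer (U : Set (Cfsg.Sz F m)) → ∀ x ∈ U, g * x * g⁻¹ ∈ U → x = 1 := by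
    intro g hg x hx hgx
    by_contra hx1
    apply hg
    have hx2 : g * x * g⁻¹ ≠ 1 := by
      intro h
      apply hx1
      have : x = g⁻¹ * (g * x * g⁻¹) * g := by group
      rw [this, h]; group
    have h1 := hc x hx hx1
    have h2 := hc _ hgx hx2
    rw [mem_normalizer_iff]
    intro y
    rw [← SetLike.mem_coe, ← SetLike.mem_coe] 
    show y ∈ U ↔ g * y * g⁻¹ ∈ U
    rw [← h1, mem_centralizer_singleton_iff, h1]
    conv_rhs => rw [← h2, mem_centralizer_singleton_iff]
    constructor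
    · intro h
      calc g * y * g⁻¹ * (g * x * g⁻¹) = g * (y * x) * g⁻¹ := by group
        _ = g * (x * y) * g⁻¹ := by rw [h]
        _ = _ := by group
    · intro h
      have : g * (y * x) * g⁻¹ = g * (x * y) * g⁻¹ := by
        calc g * (y * x) * g⁻¹ = g * y * g⁻¹ * (g * x * g⁻¹) := by group
          _ = g * x * g⁻¹ * (g * y * g⁻¹) := h
          _ = _ := by group
      exact mul_left_cancel (mul_right_cancel this)
  have hrel : U.relIndex (normalizer (U : Set (Cfsg.Sz F m))) = 4 := by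
    have h1 := card_mul_relIndex_of_le hle
    rw [hN, hk, mul_comm] at h1
    exact Nat.eq_of_mul_eq_mul_right (by positivity) h1
  refine Ex2.of_torus_three U (normalizer (U : Set (Cfsg.Sz F m))) hU hTI
    (m := 2 ^ (2 * m + 1) + 2 ^ (m + 1) + 1) (by rw [hk]) ?_ ?_
  · rw [hrel]
    rcases Nat.lt_or_ge m 3 with h3 | h3
    · interval_cases m
      · decide
      · decide
    · by_contra hcon
      push Not at hcon
      have h1 := le_totient_sq (2 ^ (2 * m + 1) + 2 ^ (m + 1) + 1) (by
        have e1 : Even (2 ^ (2 * m + 1)) := (even_two).pow_of_ne_zero (by omega)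
        have e2 : Even (2 ^ (m + 1)) := (even_two).pow_of_ne_zero (by omega)
        exact (e1.add e2).add_one)
      have h2 : 2 ^ 7 ≤ 2 ^ (2 * m + 1) := Nat.pow_le_pow_right (by norm_num) (by omega)
      have h4 := Nat.pow_le_pow_left hcon 2
      generalize 2 ^ (2 * m + 1) = a at *
      generalize 2 ^ (m + 1) = b at *
      omega
  · have : 0 < 2 ^ (2 * m + 1) := by positivity
    generalize 2 ^ (2 * m + 1) = a at *
    generalize 2 ^ (m + 1) = b at *
    omega

/-- the Ree groups -/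
theorem ex2_of_isoRee {G : Type*} [Group G] (h : Cfsg.Lie.IsoRee G) : Ex2 G := by
  obtain ⟨F, _, _, m, hm, hF, ⟨e⟩⟩ := h
  haveI : Finite ↥(Cfsg.Lie.twistedG2 F (3 ^ m)) := inferInstance
  refine Ex2.congr e.symm ?_
  obtain ⟨U, hU, hk, hN, hA⟩ := S1158.result hm hF
    (3 ^ (2 * m + 1) + 3 ^ (m + 1) + 1, 6 * (3 ^ (2 * m + 1) + 3 ^ (m + 1) + 1)) (by simp)
  simp only at hk hN
  have hle : U ≤ normalizer (U : Set ↥(Cfsg.Lie.twistedG2 F (3 ^ m))) := le_normalizer
  have hTI : ∀ g, g ∉ normalizer (U : Set ↥(Cfsg.Lie.twistedG2 F (3 ^ m))) → ∀ x ∈ U,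
      g * x * g⁻¹ ∈ U → x = 1 := by
    intro g hg x hx hgx
    by_contra hx1
    apply hg
    have hgz : zpowers (g * x * g⁻¹) ≤ U := by rwa [zpowers_le]
    have hz : zpowers x ≤ U := by rwa [zpowers_le]
    have hcard : Nat.card (zpowers (g * x * g⁻¹)) = Nat.card (zpowers x) := by
      rw [Nat.card_zpowers, Nat.card_zpowers]
      exact orderOf_injective (MulAut.conj g).toMonoidHom (MulAut.conj g).injective x
    -- subgroups of a cyclic group of the same order
    have heq : zpowers (g * x * g⁻¹) = zpowers x := by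
      exact Cfsg.Agent.Classification.FlavellU.eq_of_card_eq_of_le_cyclic hU hgz hz hcard
    have hne : zpowers x ≠ ⊥ := by rwa [Ne, zpowers_eq_bot]
    rw [← hA (zpowers x) hz hne, mem_normalizer_iff]
    intro y
    have hmap : (zpowers x).map (MulAut.conj g).toMonoidHom = zpowers x := by
      rw [MonoidHom.map_zpowers]
      exact heq
    have h5 : y ∈ zpowers x ↔ g * y * g⁻¹ ∈ (zpowers x).map (MulAut.conj g).toMonoidHom := by
      constructor
      · intro hy
        exact ⟨y, hy, rfl⟩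
      · rintro ⟨w, hw, hwy⟩
        have : g * w * g⁻¹ = g * y * g⁻¹ := hwy
        rwa [mul_left_cancel (mul_right_cancel this)] at hw
    rw [hmap] at h5
    exact h5
  have hrel : U.relIndex (normalizer (U : Set ↥(Cfsg.Lie.twistedG2 F (3 ^ m)))) = 6 := by
    have h1 := card_mul_relIndex_of_le hle
    rw [hN, hk, mul_comm] at h1
    exact Nat.eq_of_mul_eq_mul_right (by positivity) h1
  refine Ex2.of_torus_three U (normalizer (U : Set ↥(Cfsg.Lie.twistedG2 F (3 ^ m)))) hU hTI
    (m := 3 ^ (2 * m + 1) + 3 ^ (m + 1) + 1) (by rw [hk]) ?_ ?_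
  · rw [hrel]
    rcases Nat.lt_or_ge m 2 with h3 | h3
    · interval_cases m
      decide
    · by_contra hcon
      push Not at hcon
      have h1 := le_totient_sq (3 ^ (2 * m + 1) + 3 ^ (m + 1) + 1) (by
        have e1 : Odd (3 ^ (2 * m + 1)) := (by decide : Odd 3).pow
        have e2 : Odd (3 ^ (m + 1)) := (by decide : Odd 3).pow
        exact (e1.add_odd e2).add_one)
      have h2 : 3 ^ 5 ≤ 3 ^ (2 * m + 1) := Nat.pow_le_pow_right (by norm_num) (by omega)
      have h4 := Nat.pow_le_pow_left hcon 2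
      generalize 3 ^ (2 * m + 1) = a at *
      generalize 3 ^ (m + 1) = b at *
      omega
  · have : 0 < 3 ^ (2 * m + 1) := by positivity
    generalize 3 ^ (2 * m + 1) = a at *
    generalize 3 ^ (m + 1) = b at *
    omega

end Cfsg.Agent.H701
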