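import Cfsg.Agent.H701.TwF
import Cfsg.Agent.ChevalleyStructure.TwF4.TitsPerfect

/-!
# `Ex2` for the Tits group

Two elements `g₁, g₂` of order 8 of `²F₄(2)` whose fourth powers are not conjugate: `g₁⁴, g₂⁴` have order 2 and
`g₁², g₂²` have order 4.
-/

set_option autoImplicit false
set_option linter.all false

namespace Cfsg.Agent.H701

/-- `Ex2` of a subgroup containing the squares -/
theorem Ex2.of_sq {Γ : Type*} [Group Γ] (T : Subgroup Γ) (hT : ∀ g : Γ, g * g ∈ T) {g₁ g₂ y₁ y₂ : Γ}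
    (h₁ : g₁ ^ 4 = y₁) (h₂ : g₂ ^ 4 = y₂) (o₁ : orderOf y₁ = 2) (o₂ : orderOf y₂ = 2)
    (nc : ¬ IsConj y₁ y₂) : Ex2 T := by
  have key : ∀ g y : Γ, g ^ 4 = y → orderOf y = 2 → orderOf (g * g) = 4 := by
    intro g y h o
    have e1 : (g * g) ^ 2 = y := by rw [← h, ← pow_two, ← pow_mul]
    have h1 : ¬ (g * g) ^ 2 ^ 1 = 1 := by
      rw [pow_one, e1]
      intro h
      rw [h, orderOf_one] at o
      omega
    have h2 : (g * g) ^ 2 ^ (1 + 1) = 1 := by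
      have : (g * g) ^ 2 ^ (1 + 1) = ((g * g) ^ 2) ^ 2 := by rw [← pow_mul]; norm_num
      rw [this, e1, ← o, pow_orderOf_eq_one]
    exact orderOf_eq_prime_pow h1 h2
  have hy : ∀ g y : Γ, g ^ 4 = y → y = (g * g) * (g * g) := by
    intro g y h
    rw [← h, pow_succ, pow_succ, pow_two]; group
  have hmem : ∀ g y : Γ, g ^ 4 = y → y ∈ T := by
    intro g y h
    rw [hy g y h]
    exact mul_mem (hT g) (hT g)
  refine Or.inr ⟨⟨y₁, hmem _ _ h₁⟩, ⟨y₂, hmem _ _ h₂⟩, ⟨g₁ * g₁, hT g₁⟩, ⟨g₂ * g₂, hT g₂⟩, ?_, ?_, ?_, ?_, ?_⟩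
  · rw [← Subgroup.orderOf_coe, ← Subgroup.orderOf_coe, o₁, o₂]
  · rw [← Subgroup.orderOf_coe, ← Subgroup.orderOf_coe, key _ _ h₁ o₁, key _ _ h₂ o₂]
  · rw [← Subgroup.orderOf_coe, ← Subgroup.orderOf_coe, key _ _ h₁ o₁, o₁]
    norm_num
  · intro h
    exact nc (T.subtype.map_isConj h)
  · intro h
    have h1 : IsConj (g₁ * g₁) (g₂ * g₂) := T.subtype.map_isConj h
    have h2 := IsConj.pow 2 h1
    apply nc
    rw [hy _ _ h₁, hy _ _ h₂, ← pow_two (g₁ * g₁), ← pow_two (g₂ * g₂)]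
    exact h2

open Cfsg.Lie Cfsg.Agent.ChevalleyStructure
open Cfsg.Agent.KFacts.TwF4 Cfsg.Agent.KFacts.TwF4.Inst
open Cfsg.Agent.ChevalleyStructure.TwF4.TwistedFix (Rln)
open Cfsg.Agent.ChevalleyStructure.TwF4.Rel
open Cfsg.Agent.ChevalleyStructure.TwF4.Tables
open Cfsg.Agent.ChevalleyStructure.TwF4.TitsPerfect (wd wd_cons wd_nil wd_append)

theorem rln_two : Rln (RingHom.id (ZMod 2)) 1 := ⟨by decide, by decide, by norm_num⟩

theorem wd_eq_of_chk (l l' : List ℕ)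
    (h : chkWord (l.map fun r => (r, 0, 0)) (l'.map fun r => (r, 0, 0)) = true) : wd l = wd l' := by
  have h1 := W_eq_of_chkWord _ _ h (1 : ZMod 2) 1
  have key : ∀ l : List ℕ, wordK (1 : ZMod 2) 1 (l.map fun r => (r, 0, 0)) = l.map fun r => (r, 1) := by
    intro l
    induction l with
    | nil => rfl
    | cons a l ih =>
      show (a, (1 : ZMod 2) ^ 0 * 1 ^ 0) :: _ = _
      simp only [List.map_cons, pow_zero, mul_one]
      congr 1
  rw [key, key] at h1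
  exact h1

theorem wd_mul (l l' : List ℕ) : wd l * wd l' = wd (l ++ l') := wd_append l l'

set_option maxRecDepth 100000 in
theorem g1_pow : (re rln_two 1 1 0 * re rln_two 4 0 1) ^ 4 = re rln_two 2 0 1 := by
  apply Subtype.ext
  show (((re rln_two 1 1 0 : ↥(twistedF4 (ZMod 2) 1)) : GL chevF4.Idx (ZMod 2)) *
    ((re rln_two 4 0 1 : ↥(twistedF4 (ZMod 2) 1)) : GL chevF4.Idx (ZMod 2))) ^ 4 =
    ((re rln_two 2 0 1 : ↥(twistedF4 (ZMod 2) 1)) : GL chevF4.Idx (ZMod 2))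
  have e1 : ((re rln_two 1 1 0 : ↥(twistedF4 (ZMod 2) 1)) : GL chevF4.Idx (ZMod 2)) = wd [34, 26, 36] := by
    show Cfsg.Agent.Octagon.KRel.xe (RingHom.id (ZMod 2)) 34 26 36 42 1 0 = _
    unfold Cfsg.Agent.Octagon.KRel.xe
    rw [wd_cons, wd_cons, wd_cons, wd_nil]
    simp [X_zero, mul_assoc]
  have e2 : ((re rln_two 4 0 1 : ↥(twistedF4 (ZMod 2) 1)) : GL chevF4.Idx (ZMod 2)) = wd [28, 30] := by
    show Cfsg.Agent.Octagon.KRel.xe (RingHom.id (ZMod 2)) 27 25 28 30 0 1 = _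
    unfold Cfsg.Agent.Octagon.KRel.xe
    rw [wd_cons, wd_cons, wd_nil]
    simp [X_zero, mul_assoc]
  have e3 : ((re rln_two 2 0 1 : ↥(twistedF4 (ZMod 2) 1)) : GL chevF4.Idx (ZMod 2)) = wd [44, 47] := by
    show Cfsg.Agent.Octagon.KRel.xe (RingHom.id (ZMod 2)) 29 41 44 47 0 1 = _
    unfold Cfsg.Agent.Octagon.KRel.xe
    rw [wd_cons, wd_cons, wd_nil]
    simp [X_zero, mul_assoc]
  rw [e1, e2, e3, wd_mul, pow_succ, pow_succ, pow_succ, pow_one, wd_mul, wd_mul, wd_mul]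
  exact wd_eq_of_chk _ _ (by decide +kernel)

set_option maxRecDepth 100000 in
theorem g2_pow : (ro rln_two 0 1 * (re rln_two 2 1 0 * re rln_two 4 0 1)) ^ 4 = ro rln_two 2 1 := by
  apply Subtype.ext
  show (((ro rln_two 0 1 : ↥(twistedF4 (ZMod 2) 1)) : GL chevF4.Idx (ZMod 2)) *
    (((re rln_two 2 1 0 : ↥(twistedF4 (ZMod 2) 1)) : GL chevF4.Idx (ZMod 2)) *
    ((re rln_two 4 0 1 : ↥(twistedF4 (ZMod 2) 1)) : GL chevF4.Idx (ZMod 2)))) ^ 4 =
    ((ro rln_two 2 1 : ↥(twistedF4 (ZMod 2) 1)) : GL chevF4.Idx (ZMod 2))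
  have e1 : ((re rln_two 2 1 0 : ↥(twistedF4 (ZMod 2) 1)) : GL chevF4.Idx (ZMod 2)) = wd [29, 41, 44] := by
    show Cfsg.Agent.Octagon.KRel.xe (RingHom.id (ZMod 2)) 29 41 44 47 1 0 = _
    unfold Cfsg.Agent.Octagon.KRel.xe
    rw [wd_cons, wd_cons, wd_cons, wd_nil]
    simp [X_zero, mul_assoc]
  have e2 : ((re rln_two 4 0 1 : ↥(twistedF4 (ZMod 2) 1)) : GL chevF4.Idx (ZMod 2)) = wd [28, 30] := by
    show Cfsg.Agent.Octagon.KRel.xe (RingHom.id (ZMod 2)) 27 25 28 30 0 1 = _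
    unfold Cfsg.Agent.Octagon.KRel.xe
    rw [wd_cons, wd_cons, wd_nil]
    simp [X_zero, mul_assoc]
  have e3 : ((ro rln_two 0 1 : ↥(twistedF4 (ZMod 2) 1)) : GL chevF4.Idx (ZMod 2)) = wd [33, 24] := by
    show Cfsg.Agent.Octagon.KRel.xo (RingHom.id (ZMod 2)) 33 24 1 = _
    unfold Cfsg.Agent.Octagon.KRel.xo
    rw [wd_cons, wd_cons, wd_nil]
    simp [X_zero, mul_assoc]
  have e4 : ((ro rln_two 2 1 : ↥(twistedF4 (ZMod 2) 1)) : GL chevF4.Idx (ZMod 2)) = wd [39, 45] := by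
    show Cfsg.Agent.Octagon.KRel.xo (RingHom.id (ZMod 2)) 39 45 1 = _
    unfold Cfsg.Agent.Octagon.KRel.xo
    rw [wd_cons, wd_cons, wd_nil]
    simp [X_zero, mul_assoc]
  rw [e1, e2, e3, e4, wd_mul, wd_mul, pow_succ, pow_succ, pow_succ, pow_one, wd_mul, wd_mul, wd_mul]
  exact wd_eq_of_chk _ _ (by decide +kernel)

theorem ex2_tits : Ex2 TitsGroup := by
  have hT : ∀ g : ↥(twistedF4 (ZMod 2) 1), g * g ∈ commutator ↥(twistedF4 (ZMod 2) 1) := by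
    intro g
    have h := Cfsg.Agent.ChevalleyStructure.TwF4.TitsPerfect.index_dvd
    have h1 : (QuotientGroup.mk g : ↥(twistedF4 (ZMod 2) 1) ⧸ commutator ↥(twistedF4 (ZMod 2) 1)) ^ 2 = 1 := by
      apply orderOf_dvd_iff_pow_eq_one.1
      exact (orderOf_dvd_natCard _).trans h
    rw [← QuotientGroup.mk_pow, QuotientGroup.eq_one_iff, pow_two] at h1
    exact h1
  have hc : IsConj (ro rln_two 0 1) (ro rln_two 2 1) := by
    have h1 : IsConj (ro rln_two 0 (1 : ZMod 2)) (ro rln_two 1 1) :=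
      isConj_iff.2 ⟨_, rot_ro rln_two 0 1⟩
    have h2 : IsConj (ro rln_two 1 (1 : ZMod 2)) (ro rln_two 2 1) :=
      isConj_iff.2 ⟨_, rot_ro rln_two 1 1⟩
    exact h1.trans h2
  refine Ex2.of_sq _ hT g1_pow g2_pow (Chev.order_two_re rln_two) ?_ ?_
  · exact (orderOf_eq_of_isConj hc).symm.trans (Chev.order_two_ro rln_two)
  · intro h
    exact Chev.not_conj_tw rln_two (h.trans hc.symm)

theorem ex2_of_isoTits {G : Type*} [Group G] (h : IsoTits G) : Ex2 G := by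
  obtain ⟨e⟩ := h
  exact @Ex2.congr TitsGroup G (Subgroup.toGroup _) _ e.symm ex2_tits

end Cfsg.Agent.H701
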