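import Cfsg.Prelude.Def_Classification2
import Cfsg.Agent.H701.Alt
import Cfsg.Agent.H701.PslTwo
import Cfsg.Agent.H701.Psp
import Cfsg.Agent.H701.PsuThree
import Cfsg.Agent.H701.OrthInst
import Cfsg.Agent.H701.ChevInst
import Cfsg.Agent.H701.TwChev
import Cfsg.Agent.H701.TwF
import Cfsg.Agent.H701.SzRee
import Cfsg.Agent.H701.TitsEx
import Cfsg.Agent.H701.SporA
import Cfsg.Agent.H701.SporB
import Cfsg.Agent.H701.SporCo1
import Cfsg.Agent.H701.SporCo2
import Cfsg.Agent.H701.SporCo3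
import Cfsg.Agent.H701.SporFi22
import Cfsg.Agent.H701.SporFi23
import Cfsg.Agent.H701.SporFi24
import Cfsg.Agent.H701.SporHN
import Cfsg.Agent.H701.SporHS
import Cfsg.Agent.H701.SporHe
import Cfsg.Agent.H701.SporJ2
import Cfsg.Agent.H701.SporJ3
import Cfsg.Agent.H701.SporJ4
import Cfsg.Agent.H701.SporLy
import Cfsg.Agent.H701.SporM
import Cfsg.Agent.H701.SporM11
import Cfsg.Agent.H701.SporM12
import Cfsg.Agent.H701.SporM22
import Cfsg.Agent.H701.SporM23
import Cfsg.Agent.H701.SporM24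
import Cfsg.Agent.H701.SporMcL
import Cfsg.Agent.H701.SporON
import Cfsg.Agent.H701.SporRu
import Cfsg.Agent.H701.SporSuz
import Cfsg.Agent.H701.SporTh
import Cfsg.Agent.NotCT.Orders
import Cfsg.Agent.S0252
import Cfsg.Agent.S0253
import Cfsg.Agent.S0255
import Cfsg.Agent.S0495
import Cfsg.Agent.SmallSimple.S1000.PSLFacts

set_option autoImplicit false

/-!
Every known simple group other than the groups of prime order, `A₅` and `PSL₂(7)` satisfies `Ex2`.
-/

namespace Cfsg.Agent.H701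

open Cfsg

theorem ex2_of_isSporadic {G : Type*} [Group G] [Finite G] (h : IsSporadicGroup G) : Ex2 G := by
  rcases h with h | h | h | h | h | h | h | h | h | h | h | h | h | h | h | h | h | h | h | h | h |
    h | h | h | h | h
  · exact ex2_m11 h
  · exact ex2_m12 h
  · exact ex2_m22 h
  · exact ex2_m23 h
  · exact ex2_m24 h
  · exact ex2_j1 (NotCT.Orders.j1 h)
  · exact ex2_j2 h
  · exact ex2_j3 h
  · exact ex2_j4 h
  · exact ex2_co1 h
  · exact ex2_co2 h
  · exact ex2_co3 h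
  · exact ex2_mcl h
  · exact ex2_hs h
  · exact ex2_suz h
  · exact ex2_he h
  · exact ex2_ru h
  · exact ex2_on h
  · exact ex2_ly h
  · exact ex2_fi22 h
  · exact ex2_fi23 h
  · exact ex2_fi24 h
  · exact ex2_hn h
  · exact ex2_th h
  · exact ex2_b h
  · exact ex2_m h

theorem ex2_of_isExceptional {G : Type*} [Group G] (h : IsExceptionalLieType G) : Ex2 G := by
  rcases h with h | h | h | h | h | h | h | h | h | h | h
  · obtain ⟨F, _, _, -, ⟨e⟩⟩ := h
    exact Ex2.congr e.symm Chev.ex2_G2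
  · obtain ⟨F, _, _, ⟨e⟩⟩ := h
    exact Ex2.congr e.symm Chev.ex2_F4
  · obtain ⟨F, _, _, ⟨e⟩⟩ := h
    exact Ex2.congr e.symm Chev.ex2_E6
  · obtain ⟨F, _, _, ⟨e⟩⟩ := h
    exact Ex2.congr e.symm Chev.ex2_E7
  · obtain ⟨F, _, _, ⟨e⟩⟩ := h
    exact Ex2.congr e.symm Chev.ex2_E8
  · obtain ⟨F, _, _, q, hq, hK, ⟨e⟩⟩ := h
    exact Ex2.congr e.symm (Chev.ex2_twistedE6 hq hK)
  · obtain ⟨F, _, _, q, hq, hK, ⟨e⟩⟩ := h
    exact Ex2.congr e.symm (Chev.ex2_twistedD4 hq hK)
  · exact ex2_of_isoSuzuki h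
  · exact ex2_of_isoRee h
  · obtain ⟨F, _, _, m, hm, hK, ⟨e⟩⟩ := h
    exact Ex2.congr e.symm (Chev.ex2_twistedF4 hm hK)
  · exact ex2_of_isoTits h

theorem card_ne_six {F : Type*} [Field F] [Fintype F] : Fintype.card F ≠ 6 := by
  intro h
  obtain ⟨p, hp⟩ := CharP.exists F
  obtain ⟨n, hp', hn⟩ := FiniteField.card F p
  rw [h] at hn
  have h2 : 2 ∣ p ^ (n : ℕ) := by rw [← hn]; norm_num
  have h3 : 3 ∣ p ^ (n : ℕ) := by rw [← hn]; norm_num
  have e2 := (Nat.prime_dvd_prime_iff_eq Nat.prime_two hp').1 (Nat.prime_two.dvd_of_dvd_pow h2)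
  have e3 := (Nat.prime_dvd_prime_iff_eq Nat.prime_three hp').1
    (Nat.prime_three.dvd_of_dvd_pow h3)
  omega

theorem ex2_or {G : Type*} [Group G] [Finite G] [IsSimpleGroup G] (hG : ¬ IsMulCommutative G)
    (h : IsKnownSimple' G) : Ex2 G ∨ Nonempty (G ≃* alternatingGroup (Fin 5)) ∨
      Nonempty (G ≃* Matrix.ProjectiveSpecialLinearGroup (Fin 2) (ZMod 7)) := by
  have h168 : Nat.card G = 168 → Nonempty (G ≃* Matrix.ProjectiveSpecialLinearGroup (Fin 2) (ZMod 7)) := by
    intro h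
    have : Fact (Nat.Prime 7) := ⟨by norm_num⟩
    exact S0495.result h (F := ZMod 7) (ZMod.card 7)
  rcases h with h | h | h | h | h | h | h | h | h | h
  · exfalso
    apply hG
    have h1 : Fact (Nat.card G).Prime := ⟨h⟩
    have h2 : IsCyclic G := isCyclic_of_prime_card (p := Nat.card G) rfl
    exact IsCyclic.isMulCommutative
  · obtain ⟨n, hn, ⟨e⟩⟩ := h
    rcases Nat.lt_or_ge n 6 with h6 | h6
    · have : n = 5 := by omega
      subst this
      exact Or.inr (Or.inl ⟨e⟩)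
    · exact Or.inl (Ex2.congr e.symm (ex2_alt h6))
  · obtain ⟨F, _, _, n, hn, hq, ⟨e⟩⟩ := h
    by_cases hn2 : n = 2
    · subst hn2
      rcases Nat.lt_or_ge (Fintype.card F) 8 with h8 | h8
      · have h4 := hq rfl
        have h6 := card_ne_six (F := F)
        have hc : Fintype.card F = 4 ∨ Fintype.card F = 5 ∨ Fintype.card F = 7 := by omega
        rcases hc with hc | hc | hc
        · obtain ⟨f⟩ := S0252.result hc
          exact Or.inr (Or.inl ⟨e.trans f⟩)
        · obtain ⟨f⟩ := S0253.result hc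
          exact Or.inr (Or.inl ⟨e.trans f⟩)
        · refine Or.inr (Or.inr (h168 ?_))
          rw [Nat.card_congr e.toEquiv]
          exact SmallSimple.PSLFacts.card_psl_two_seven hc
      · exact Or.inl (Ex2.congr e.symm (ex2_of_isPSL hn (fun _ => h8) (by omega)))
    · by_cases hn3 : n = 3 ∧ Fintype.card F = 2
      · obtain ⟨rfl, hc⟩ := hn3
        have : Fact (Nat.Prime 7) := ⟨by norm_num⟩
        obtain ⟨f⟩ := S0255.result (F := ZMod 7) (K := F) (ZMod.card 7) hc
        exact Or.inr (Or.inr ⟨e.trans f.symm⟩)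
      · refine Or.inl (Ex2.congr e.symm (ex2_of_isPSL hn (fun h => absurd h hn2) ?_))
        intro h3
        have h2 : Fintype.card F ≠ 2 := fun h => hn3 ⟨h3, h⟩
        have h1 : 1 < Fintype.card F := Fintype.one_lt_card
        omega
  · exact Or.inl (ex2_of_isPSp h)
  · exact Or.inl (Su.ex2_of_isPSU h)
  · exact Or.inl (Orth.ex2_of_odd h)
  · exact Or.inl (Orth.ex2_of_plus h)
  · exact Or.inl (Orth.ex2_of_minus h)
  · exact Or.inl (ex2_of_isExceptional h)
  · exact Or.inl (ex2_of_isSporadic h)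

end Cfsg.Agent.H701
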