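import Cfsg.Agent.H701.Ex
import Cfsg.Agent.LieClassical.OmegaCenter
import Cfsg.Agent.LieClassical.OmegaReindex

/-!
# `Ex2` for the orthogonal groups
-/

set_option autoImplicit false
set_option linter.all false

namespace Cfsg.Agent.H701

namespace Orth

open QuadraticMap Matrix
open Cfsg.Agent.LieClassical.OmegaCenter
open Cfsg.Agent.ClassicalGeometry.Reflection
open Cfsg.Agent.LieClassical.OmegaReindex (quadPlus quadOdd quadMinus polar_quadPlus polar_quadOdd
  polar_quadMinus quadPlus_nondegenerate quadOdd_nondegenerate quadMinus_nondegenerate)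

variable {ι : Type} [Fintype ι] [DecidableEq ι] {F : Type*} [Field F]

/-- vectors in an orthogonal space: two hyperbolic pairs and more -/
structure Conf (Q : QuadraticForm F (ι → F)) where
  nd : (polarBilin Q).Nondegenerate
  e1 : ι → F
  f1 : ι → F
  e2 : ι → F
  f2 : ι → F
  e3 : ι → F
  f3 : ι → F
  x : ι → F
  Qe1 : Q e1 = 0
  Qe2 : Q e2 = 0
  Qf2 : Q f2 = 0
  Qe3 : Q e3 = 0
  Qf3 : Q f3 = 0
  Qx : Q x = 1
  B11 : polar Q e1 f1 = 1
  B22 : polar Q e2 f2 = 1
  B33 : polar Q e3 f3 = 1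
  Be1e2 : polar Q e1 e2 = 0
  Be1f2 : polar Q e1 f2 = 0
  Be1e3 : polar Q e1 e3 = 0
  Be1f3 : polar Q e1 f3 = 0
  Be1x : polar Q e1 x = 0
  Bf1e2 : polar Q f1 e2 = 0
  Bf1f2 : polar Q f1 f2 = 0
  Be2e3 : polar Q e2 e3 = 0
  Be2f3 : polar Q e2 f3 = 0
  Be2x : polar Q e2 x = 0
  Bf2e3 : polar Q f2 e3 = 0
  Bf2f3 : polar Q f2 f3 = 0
  Bf2x : polar Q f2 x = 0
  Be3x : polar Q e3 x = 0
  Bf3x : polar Q f3 x = 0

variable {Q : QuadraticForm F (ι → F)}

/-- action of `Omega` on vectors -/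
def ac (g : Cfsg.Omega F (⇑Q)) (v : ι → F) : ι → F := act (g : Cfsg.isometryGroup F (⇑Q)) v

theorem ac_mul (g h : Cfsg.Omega F (⇑Q)) (v : ι → F) : ac (g * h) v = ac g (ac h v) :=
  coe_mul_mulVec _ _ _ _

theorem ac_one (v : ι → F) : ac (1 : Cfsg.Omega F (⇑Q)) v = v := by
  show (1 : Matrix ι ι F) *ᵥ v = v
  simp

theorem ac_inv (g : Cfsg.Omega F (⇑Q)) (v : ι → F) : ac g (ac g⁻¹ v) = v := by
  rw [← ac_mul, mul_inv_cancel, ac_one]

theorem ac_sub (g : Cfsg.Omega F (⇑Q)) (v w : ι → F) : ac g (v - w) = ac g v - ac g w :=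
  Matrix.mulVec_sub _ _ _

theorem ac_add (g : Cfsg.Omega F (⇑Q)) (v w : ι → F) : ac g (v + w) = ac g v + ac g w :=
  Matrix.mulVec_add _ _ _

theorem Q_ac (g : Cfsg.Omega F (⇑Q)) (v : ι → F) : Q (ac g v) = Q v := map_act Q _ v

theorem ext_ac {g h : Cfsg.Omega F (⇑Q)} (H : ∀ v, ac g v = ac h v) : g = h :=
  Subtype.ext (isometryGroup_ext _ _ _ H)

theorem polar_self' (v : ι → F) : polar (⇑Q) v v = 2 * Q v := by
  rw [QuadraticMap.polar_self]
  simp [two_mul, two_smul]

theorem Q_add' (u v : ι → F) : Q (u + v) = Q u + Q v + polar (⇑Q) u v := by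
  rw [QuadraticMap.polar]; ring

/-- the Siegel transformation, in `Omega` -/
def ei (u w : ι → F) (hu : Q u = 0) (huw : polar (⇑Q) u w = 0)
    (h : eichler Q u w hu huw ∈ Cfsg.Omega F (⇑Q)) : Cfsg.Omega F (⇑Q) := ⟨eichler Q u w hu huw, h⟩

theorem ac_ei {u w : ι → F} (hu : Q u = 0) (huw : polar (⇑Q) u w = 0)
    (h : eichler Q u w hu huw ∈ Cfsg.Omega F (⇑Q)) (v : ι → F) :
    ac (ei u w hu huw h) v = v + polar (⇑Q) u v • w - polar (⇑Q) w v • u - (Q w * polar (⇑Q) u v) • u := by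
  rw [← eichlerMatrix_mulVec]
  rfl

theorem commute_ei {u w : ι → F} (hu : Q u = 0) (huw : polar (⇑Q) u w = 0)
    (h : eichler Q u w hu huw ∈ Cfsg.Omega F (⇑Q)) (g : Cfsg.Omega F (⇑Q))
    (h1 : ac g u = u) (h2 : ac g w = w) : Commute (ei u w hu huw h) g := by
  have e := conj_eichler Q hu huw (g : Cfsg.isometryGroup F (⇑Q))
  have e2 : g * ei u w hu huw h * g⁻¹ = ei u w hu huw h := by
    apply Subtype.ext
    show (g : Cfsg.isometryGroup F (⇑Q)) * eichler Q u w hu huw *
      (g : Cfsg.isometryGroup F (⇑Q))⁻¹ = _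
    rw [e]
    have h1' : act (g : Cfsg.isometryGroup F (⇑Q)) u = u := h1
    have h2' : act (g : Cfsg.isometryGroup F (⇑Q)) w = w := h2
    simp only [h1', h2']
    rfl
  have : g * ei u w hu huw h = ei u w hu huw h * g := mul_inv_eq_iff_eq_mul.1 e2
  exact this.symm

theorem pow_ei {u w : ι → F} (hu : Q u = 0) (huw : polar (⇑Q) u w = 0)
    (h : eichler Q u w hu huw ∈ Cfsg.Omega F (⇑Q)) {p : ℕ} [CharP F p] :
    (ei u w hu huw h) ^ p = 1 := by
  have key : ∀ n : ℕ, ∃ hn : polar (⇑Q) u (n • w) = 0,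
      (eichler Q u w hu huw) ^ n = eichler Q u (n • w) hu hn := by
    intro n
    induction n with
    | zero =>
      refine ⟨by rw [zero_smul]; simp, ?_⟩
      rw [pow_zero]
      apply Subtype.ext
      apply Units.ext
      show (1 : Matrix ι ι F) = eichlerMatrix Q u (0 • w)
      rw [zero_smul, eichlerMatrix_zero]
    | succ n ih =>
      obtain ⟨hn, ih⟩ := ih
      have hn' : polar (⇑Q) u ((n + 1) • w) = 0 := by
        rw [succ_nsmul, QuadraticMap.polar_add_right, hn, huw, add_zero]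
      refine ⟨hn', ?_⟩
      rw [pow_succ, ih, eichler_mul]
      exact eichler_ext Q hu _ _ (succ_nsmul w n).symm
  obtain ⟨hp, e⟩ := key p
  apply Subtype.ext
  show (eichler Q u w hu huw) ^ p = 1
  rw [e]
  apply Subtype.ext
  apply Units.ext
  show eichlerMatrix Q u (p • w) = 1
  have : (p • w) = 0 := by
    ext i
    rw [Pi.smul_apply, nsmul_eq_mul, CharP.cast_eq_zero, zero_mul, Pi.zero_apply]
  rw [this, eichlerMatrix_zero]

theorem noP (hQ : (polarBilin Q).Nondegenerate) (hn : 3 ≤ Fintype.card ι)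
    (hs : ∃ u : ι → F, u ≠ 0 ∧ Q u = 0) {p : ℕ} (hp : p.Prime) [CharP F p] :
    NoP p (Cfsg.Omega F (⇑Q)) := by
  intro z hz hzp
  rcases (mem_center_omega_iff Q hQ hn hs z).1 hz with h | h
  · exact omega_ext h
  · rcases hp.eq_two_or_odd' with rfl | hodd
    · apply omega_ext
      rw [h]
      have h2 : (2 : F) = 0 := by
        have := CharP.cast_eq_zero F 2
        simpa using this
      show (-1 : Matrix ι ι F) = 1
      ext i j
      rw [Matrix.neg_apply, Matrix.one_apply]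
      split_ifs
      · linear_combination -h2
      · simp
    · exfalso
      have hm : ∀ v, ac z v = -v := by
        intro v
        show omegaMat z *ᵥ v = -v
        rw [h, Matrix.neg_mulVec, Matrix.one_mulVec]
      have hk : ∀ k v, ac (z ^ k) v = (-1 : F) ^ k • v := by
        intro k v
        induction k with
        | zero => rw [pow_zero, ac_one, pow_zero, one_smul]
        | succ k ih =>
          rw [pow_succ', ac_mul, ih, hm, pow_succ, mul_neg_one, neg_smul]
      obtain ⟨u, hu0, -⟩ := hs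
      have h1 := hk p u
      rw [hzp, ac_one, hodd.neg_one_pow, neg_smul, one_smul] at h1
      have h2 : (2 : F) • u = 0 := by
        rw [two_smul]
        nth_rewrite 1 [h1]
        rw [neg_add_cancel]
      rcases smul_eq_zero.1 h2 with h3 | h3
      · have h4 : ((2 : ℕ) : F) = 0 := by exact_mod_cast h3
        rw [CharP.cast_eq_zero_iff F p] at h4
        have := (Nat.prime_dvd_prime_iff_eq hp Nat.prime_two).1 h4
        subst this
        exact absurd hodd (by decide)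
      · exact hu0 h3

/-- the effect on the coordinates -/
theorem ac_z (C : Conf Q) (s : F) (h1 : eichler Q C.e3 (s • C.x) C.Qe3
      (by rw [QuadraticMap.polar_smul_right, C.Be3x, smul_zero]) ∈ Cfsg.Omega F (⇑Q))
    (h2 : eichler Q C.f3 C.x C.Qf3 C.Bf3x ∈ Cfsg.Omega F (⇑Q)) (v : ι → F) :
    ac (ei C.e3 (s • C.x) C.Qe3 (by rw [QuadraticMap.polar_smul_right, C.Be3x, smul_zero]) h1 *
      ei C.f3 C.x C.Qf3 C.Bf3x h2) v =
    v + (polar Q C.f3 v + s * (polar Q C.e3 v - polar Q C.f3 v - polar Q C.x v)) • C.x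
      - (polar Q C.f3 v + polar Q C.x v) • C.f3
      - (s * (polar Q C.x v + 2 * polar Q C.f3 v)
        + s ^ 2 * (polar Q C.e3 v - polar Q C.f3 v - polar Q C.x v)) • C.e3 := by
  rw [ac_mul, ac_ei, ac_ei]
  have hxx : polar Q C.x C.x = 2 := by rw [polar_self', C.Qx, mul_one]
  have hxf : polar Q C.x C.f3 = 0 := by rw [polar_comm, C.Bf3x]
  have hxe : polar Q C.x C.e3 = 0 := by rw [polar_comm, C.Be3x]
  have hQs : Q (s • C.x) = s * s := by rw [QuadraticMap.map_smul, C.Qx]; simp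
  simp only [QuadraticMap.polar_add_right, QuadraticMap.polar_sub_right,
    QuadraticMap.polar_smul_right, QuadraticMap.polar_smul_left, C.Be3x, C.B33, hxx, hxf, C.Qx, hQs,
    smul_eq_mul, mul_zero, mul_one, add_zero, sub_zero, one_mul]
  ext i
  simp only [Pi.add_apply, Pi.sub_apply, Pi.smul_apply, smul_eq_mul]
  ring

theorem ex2 [Finite F] (C : Conf Q) : Ex2 (Cfsg.Omega F (⇑Q) ⧸ Subgroup.center (Cfsg.Omega F (⇑Q))) := by
  obtain ⟨p, hp⟩ := CharP.exists F
  haveI hpf : Fact p.Prime := ⟨CharP.char_is_prime F p⟩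
  have e1ne : C.e1 ≠ 0 := by
    intro h
    have := C.B11
    rw [h, QuadraticMap.polar_zero_left] at this
    exact zero_ne_one this
  have hs : ∃ u : ι → F, u ≠ 0 ∧ Q u = 0 := ⟨C.e1, e1ne, C.Qe1⟩
  -- dimension
  have hn : 3 ≤ Fintype.card ι := by
    have hli : LinearIndependent F ![C.e1, C.e2, C.e3] := by
      rw [Fintype.linearIndependent_iff]
      intro g hg
      rw [Fin.sum_univ_three] at hg
      simp only [Matrix.cons_val_zero, Matrix.cons_val_one, Matrix.cons_val] at hg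
      have hf := C.f1
      have h2 := congrArg (polar Q C.f2) hg
      have h3 := congrArg (polar Q C.f3) hg
      have e2f2 : polar Q C.f2 C.e2 = 1 := by rw [polar_comm, C.B22]
      have e3f3 : polar Q C.f3 C.e3 = 1 := by rw [polar_comm, C.B33]
      have a1 : polar Q C.f2 C.e1 = 0 := by rw [polar_comm, C.Be1f2]
      have a3 : polar Q C.f3 C.e1 = 0 := by rw [polar_comm, C.Be1f3]
      have a4 : polar Q C.f3 C.e2 = 0 := by rw [polar_comm, C.Be2f3]
      simp only [QuadraticMap.polar_add_right, QuadraticMap.polar_smul_right, e2f2, e3f3, a1,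
        C.Bf2e3, a3, a4, smul_eq_mul, mul_zero, mul_one, zero_add, add_zero,
        QuadraticMap.polar_zero_right] at h2 h3
      rw [h2, h3, zero_smul, zero_smul, add_zero, add_zero] at hg
      have h1 := (smul_eq_zero.1 hg).resolve_right e1ne
      intro i
      fin_cases i
      · exact h1
      · exact h2
      · exact h3
    have := hli.fintype_card_le_finrank
    simpa using this
  have hZ : NoP p (Cfsg.Omega F (⇑Q)) := noP C.nd hn hs hpf.out
  -- `y₂`
  have Qw : Q (C.e2 + C.f2) = 1 := by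
    have : Q (C.e2 + C.f2) = Q C.e2 + Q C.f2 + polar Q C.e2 C.f2 := by
      rw [QuadraticMap.polar]; ring
    rw [this, C.Qe2, C.Qf2, C.B22]; ring
  have Bw : polar Q C.e1 (C.e2 + C.f2) = 0 := by
    rw [QuadraticMap.polar_add_right, C.Be1e2, C.Be1f2, add_zero]
  have m2 : eichler Q C.e1 (C.e2 + C.f2) C.Qe1 Bw ∈ Cfsg.Omega F (⇑Q) :=
    eichler_mem_omega Q C.nd C.Qe1 Bw (by rw [Qw]; exact one_ne_zero)
  -- `y₁`
  have Qw1 : Q (C.e2 + C.x) = 1 := by
    have : Q (C.e2 + C.x) = Q C.e2 + Q C.x + polar Q C.e2 C.x := by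
      rw [QuadraticMap.polar]; ring
    rw [this, C.Qe2, C.Qx, C.Be2x]; ring
  have Bw1 : polar Q C.e1 (C.e2 + C.x) = 0 := by
    rw [QuadraticMap.polar_add_right, C.Be1e2, C.Be1x, add_zero]
  have Bx1 : polar Q C.e1 (-C.x) = 0 := by rw [QuadraticMap.polar_neg_right, C.Be1x, neg_zero]
  have m1 : eichler Q C.e1 C.e2 C.Qe1 C.Be1e2 ∈ Cfsg.Omega F (⇑Q) := by
    have h1 := eichler_mem_omega Q C.nd C.Qe1 Bw1 (by rw [Qw1]; exact one_ne_zero)
    have h2 := eichler_mem_omega Q C.nd C.Qe1 Bx1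
      (by rw [QuadraticMap.map_neg, C.Qx]; exact one_ne_zero)
    have h3 := mul_mem h1 h2
    rw [eichler_mul] at h3
    rwa [eichler_ext Q C.Qe1 _ C.Be1e2 (by abel)] at h3
  set y1 := ei C.e1 C.e2 C.Qe1 C.Be1e2 m1 with hy1
  set y2 := ei C.e1 (C.e2 + C.f2) C.Qe1 Bw m2 with hy2
  have p1 : y1 ^ p = 1 := pow_ei _ _ _
  have p2 : y2 ^ p = 1 := pow_ei _ _ _
  have e2f2 : polar Q C.f2 C.e2 = 1 := by rw [polar_comm, C.B22]
  have f2e1 : polar Q C.f2 C.e1 = 0 := by rw [polar_comm, C.Be1f2]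
  have a1 : ∀ v, ac y1 v = v + polar (⇑Q) C.e1 v • C.e2 - polar (⇑Q) C.e2 v • C.e1 := by
    intro v
    rw [hy1, ac_ei, C.Qe2, zero_mul, zero_smul, sub_zero]
  have a2 : ∀ v, ac y2 v = v + polar (⇑Q) C.e1 v • (C.e2 + C.f2)
      - (polar (⇑Q) (C.e2 + C.f2) v) • C.e1 - (polar (⇑Q) C.e1 v) • C.e1 := by
    intro v
    rw [hy2, ac_ei, Qw, one_mul]
  have y1ne : y1 ≠ 1 := by
    intro h
    have h1 := a1 C.f2
    rw [h, ac_one, C.Be1f2, C.B22, zero_smul, one_smul, add_zero] at h1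
    exact e1ne (by
      have h2 : C.f2 - (C.f2 - C.e1) = 0 := by rw [← h1]; simp
      simpa using h2)
  have y2ne : y2 ≠ 1 := by
    intro h
    have h1 := a2 C.f2
    have hff : polar Q C.f2 C.f2 = 0 := by rw [polar_self', C.Qf2, mul_zero]
    rw [h, ac_one, C.Be1f2, QuadraticMap.polar_add_left, C.B22, hff, zero_smul, add_zero, add_zero, one_smul,
      zero_smul, sub_zero] at h1
    exact e1ne (by
      have h2 : C.f2 - (C.f2 - C.e1) = 0 := by rw [← h1]; simp
      simpa using h2)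
  have o1 : orderOf y1 = p := orderOf_eq_prime p1 y1ne
  have o2 : orderOf y2 = p := orderOf_eq_prime p2 y2ne
  have nc : ¬ IsConj y1 y2 := by
    intro hc
    obtain ⟨g, hg⟩ := isConj_iff.1 hc
    have hinv : ∀ v, Q (ac y1 v - v) = 0 := by
      intro v
      have : ac y1 v - v = polar (⇑Q) C.e1 v • C.e2 + (-polar (⇑Q) C.e2 v) • C.e1 := by
        rw [a1, neg_smul]; abel
      rw [this]
      rw [Q_add', QuadraticMap.map_smul, QuadraticMap.map_smul, C.Qe1, C.Qe2,
        QuadraticMap.polar_smul_left, QuadraticMap.polar_smul_right, polar_comm Q C.e2 C.e1,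
        C.Be1e2]
      simp
    have h4 : ∀ v, Q (ac y2 v - v) = 0 := by
      intro v
      have h5 := hinv (ac g⁻¹ v)
      rw [← Q_ac g, ac_sub, ac_inv, ← ac_mul, ← ac_mul, hg] at h5
      exact h5
    have h6 := h4 C.f1
    have h7 : ac y2 C.f1 - C.f1 = (C.e2 + C.f2) + (-(polar (⇑Q) (C.e2 + C.f2) C.f1 + 1)) • C.e1 := by
      rw [a2, C.B11, one_smul, one_smul, neg_smul, add_smul, one_smul]
      abel
    rw [h7] at h6
    have h8 : ∀ c : F, Q ((C.e2 + C.f2) + c • C.e1) = 1 := by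
      intro c
      rw [Q_add', Qw, QuadraticMap.map_smul, C.Qe1, QuadraticMap.polar_smul_right,
        polar_comm Q (C.e2 + C.f2) C.e1, Bw]
      simp
    rw [h8] at h6
    exact one_ne_zero h6
  -- the `p'`-element
  obtain ⟨s, r, hs0, hrp, hr⟩ : ∃ (s : F) (r : ℕ), s ≠ 0 ∧ ¬ p ∣ r ∧
      ((r = 2 ∧ s = 2) ∨ (r = 3 ∧ s = 3)) := by
    rcases eq_or_ne p 2 with rfl | hp2
    · refine ⟨3, 3, ?_, by norm_num, Or.inr ⟨rfl, rfl⟩⟩
      intro h3
      have h2 : (2 : F) = 0 := by
        have := CharP.cast_eq_zero F 2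
        simpa using this
      have : (1 : F) = 0 := by linear_combination h3 - h2
      exact one_ne_zero this
    · refine ⟨2, 2, ?_, ?_, Or.inl ⟨rfl, rfl⟩⟩
      · intro h2
        have h4 : ((2 : ℕ) : F) = 0 := by exact_mod_cast h2
        rw [CharP.cast_eq_zero_iff F p] at h4
        exact hp2 ((Nat.prime_dvd_prime_iff_eq hpf.out Nat.prime_two).1 h4)
      · intro h
        exact hp2 ((Nat.prime_dvd_prime_iff_eq hpf.out Nat.prime_two).1 h)
  have hsx : polar Q C.e3 (s • C.x) = 0 := by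
    rw [QuadraticMap.polar_smul_right, C.Be3x, smul_zero]
  have m3 : eichler Q C.e3 (s • C.x) C.Qe3 hsx ∈ Cfsg.Omega F (⇑Q) := by
    apply eichler_mem_omega Q C.nd
    rw [QuadraticMap.map_smul, C.Qx]
    simpa using hs0
  have m4 : eichler Q C.f3 C.x C.Qf3 C.Bf3x ∈ Cfsg.Omega F (⇑Q) :=
    eichler_mem_omega Q C.nd _ _ (by rw [C.Qx]; exact one_ne_zero)
  set z := ei C.e3 (s • C.x) C.Qe3 hsx m3 * ei C.f3 C.x C.Qf3 C.Bf3x m4 with hz
  have az := ac_z C s m3 m4
  rw [← hz] at az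
  have hxx : polar Q C.x C.x = 2 := by rw [polar_self', C.Qx, mul_one]
  have hxf : polar Q C.x C.f3 = 0 := by rw [polar_comm, C.Bf3x]
  have hxe : polar Q C.x C.e3 = 0 := by rw [polar_comm, C.Be3x]
  have hfe : polar Q C.f3 C.e3 = 1 := by rw [polar_comm, C.B33]
  have hee : polar Q C.e3 C.e3 = 0 := by rw [polar_self', C.Qe3, mul_zero]
  have hff : polar Q C.f3 C.f3 = 0 := by rw [polar_self', C.Qf3, mul_zero]
  -- coordinates of `z v`
  have ze : ∀ v, polar Q C.e3 (ac z v) = polar Q C.e3 v - (polar Q C.f3 v + polar Q C.x v) := by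
    intro v
    rw [az]
    simp only [QuadraticMap.polar_add_right, QuadraticMap.polar_sub_right,
      QuadraticMap.polar_smul_right, C.Be3x, C.B33, hee, smul_eq_mul]
    ring
  have zf : ∀ v, polar Q C.f3 (ac z v) = polar Q C.f3 v - (s * (polar Q C.x v + 2 * polar Q C.f3 v)
        + s ^ 2 * (polar Q C.e3 v - polar Q C.f3 v - polar Q C.x v)) := by
    intro v
    rw [az]
    simp only [QuadraticMap.polar_add_right, QuadraticMap.polar_sub_right,
      QuadraticMap.polar_smul_right, C.Bf3x, hfe, hff, smul_eq_mul]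
    ring
  have zx : ∀ v, polar Q C.x (ac z v) = polar Q C.x v + 2 * (polar Q C.f3 v + s * (polar Q C.e3 v -
      polar Q C.f3 v - polar Q C.x v)) := by
    intro v
    rw [az]
    simp only [QuadraticMap.polar_add_right, QuadraticMap.polar_sub_right,
      QuadraticMap.polar_smul_right, hxx, hxe, hxf, smul_eq_mul]
    ring
  have hzr : z ^ r = 1 := by
    rcases hr with ⟨rfl, rfl⟩ | ⟨rfl, rfl⟩
    · apply ext_ac
      intro v
      rw [pow_two, ac_mul, ac_one, az (ac z v), ze, zf, zx, az v]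
      ext i
      simp only [Pi.add_apply, Pi.sub_apply, Pi.smul_apply, smul_eq_mul]
      ring
    · apply ext_ac
      intro v
      rw [pow_succ, pow_two, ac_mul, ac_mul, ac_one, az (ac z (ac z v)), ze, zf, zx, ze, zf, zx,
        az (ac z v), ze, zf, zx, az v]
      ext i
      simp only [Pi.add_apply, Pi.sub_apply, Pi.smul_apply, smul_eq_mul]
      ring
  have hfix : ∀ v, polar Q C.e3 v = 0 → polar Q C.f3 v = 0 → polar Q C.x v = 0 → ac z v = v := by
    intro v h1 h2 h3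
    rw [az, h1, h2, h3]
    simp
  have fe1 : ac z C.e1 = C.e1 := hfix _ (by rw [polar_comm, C.Be1e3]) (by rw [polar_comm, C.Be1f3])
    (by rw [polar_comm, C.Be1x])
  have fe2 : ac z C.e2 = C.e2 := hfix _ (by rw [polar_comm, C.Be2e3]) (by rw [polar_comm, C.Be2f3])
    (by rw [polar_comm, C.Be2x])
  have ff2 : ac z C.f2 = C.f2 := hfix _ (by rw [polar_comm, C.Bf2e3]) (by rw [polar_comm, C.Bf2f3])
    (by rw [polar_comm, C.Bf2x])
  have c1 : Commute y1 z := commute_ei _ _ _ _ fe1 fe2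
  have c2 : Commute y2 z := commute_ei _ _ _ _ fe1 (by rw [ac_add, fe2, ff2])
  have zne : ac z C.e3 ≠ C.e3 := by
    intro h
    have h1 := ze C.e3
    rw [h, hee, hfe, hxe] at h1
    exact one_ne_zero (by linear_combination h1)
  have hzc : z ∉ Subgroup.center (Cfsg.Omega F (⇑Q)) := by
    intro hc
    rcases (mem_center_omega_iff Q C.nd hn hs z).1 hc with h | h
    · apply zne
      show omegaMat z *ᵥ C.e3 = C.e3
      rw [h, Matrix.one_mulVec]
    · have h1 : ∀ v, ac z v = -v := by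
        intro v
        show omegaMat z *ᵥ v = -v
        rw [h, Matrix.neg_mulVec, Matrix.one_mulVec]
      have h2 := h1 C.e1
      rw [fe1] at h2
      have h3 : (2 : F) • C.e1 = 0 := by
        rw [two_smul]
        nth_rewrite 1 [h2]
        rw [neg_add_cancel]
      have h4 : (2 : F) = 0 := (smul_eq_zero.1 h3).resolve_right e1ne
      apply zne
      rw [h1]
      ext i
      rw [Pi.neg_apply]
      linear_combination -(C.e3 i) * h4
  have hzo : ¬ p ∣ orderOf z := fun h => hrp (h.trans (orderOf_dvd_of_pow_eq_one hzr))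
  exact Ex2.quot_commute (a := 1) hpf.out hZ (by rw [pow_one]; exact p1) (by rw [pow_one]; exact p2)
    (o1.trans o2.symm) hzc hzo c1 c2 nc

end Orth

end Cfsg.Agent.H701
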