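import Cfsg.Agent.H701.MatInv

/-!
# `Ex2` for `PSL_n(q)`, `n ≥ 4`
-/

set_option autoImplicit false
set_option linter.all false

namespace Cfsg.Agent.H701

open Matrix

variable {ι F : Type*} [Fintype ι] [DecidableEq ι] [Field F]

/-- the inclusion of `SL` in the matrices -/
def slMat (ι F : Type*) [Fintype ι] [DecidableEq ι] [Field F] :
    SpecialLinearGroup ι F →* Matrix ι ι F :=
  { toFun := fun g => (g : Matrix ι ι F)
    map_one' := rfl
    map_mul' := fun _ _ => rfl }

theorem single_one_ne {i j : ι} : Matrix.single i j (1 : F) ≠ 0 := by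
  intro h0
  have := congrFun (congrFun h0 i) j
  simp at this

theorem slMat_injective : Function.Injective (slMat ι F) := fun _ _ h => Subtype.ext h

theorem noP_sl {p : ℕ} [Fact p.Prime] [CharP F p] : NoP p (SpecialLinearGroup ι F) := by
  intro z hz hp
  obtain ⟨r, hr, hz⟩ := Matrix.SpecialLinearGroup.mem_center_iff.1 hz
  apply Subtype.ext
  rcases isEmpty_or_nonempty ι with h | ⟨⟨i⟩⟩
  · exact Subsingleton.elim _ _
  · have h0 : (slMat ι F z) ^ p = 1 := by rw [← map_pow, hp, map_one]
    have hz' : slMat ι F z = Matrix.scalar ι r := hz.symm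
    rw [hz', ← map_pow] at h0
    have h2 : r ^ p = 1 := by
      have h1 := congrFun (congrFun h0 i) i
      simpa [Matrix.scalar_apply] using h1
    have h3 : r = 1 := by
      have : (r - 1) ^ p = 0 := by rw [sub_pow_char, one_pow, h2, sub_self]
      exact sub_eq_zero.1 (pow_eq_zero_iff (Fact.out : p.Prime).ne_zero |>.1 this)
    rw [← hz, h3]
    simp

/-- a transvection in `SL` -/
def tv (i j : ι) (h : i ≠ j) (a : F) : SpecialLinearGroup ι F :=
  ⟨Matrix.transvection i j a, Matrix.det_transvection_of_ne i j h a⟩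

theorem slMat_tv {i j : ι} (h : i ≠ j) (a : F) :
    slMat ι F (tv i j h a) = 1 + Matrix.single i j a := rfl

/-- four different indices -/
structure Four (i j k l : ι) : Prop where
  ij : i ≠ j
  ik : i ≠ k
  il : i ≠ l
  jk : j ≠ k
  jl : j ≠ l
  kl : k ≠ l

variable {i j k l : ι}

/-- `1 + E_ij + E_kl` -/
def y2 (h : Four i j k l) : SpecialLinearGroup ι F := tv i j h.ij 1 * tv k l h.kl 1

theorem y2_sub (h : Four i j k l) :
    slMat ι F (y2 h) - 1 = Matrix.single i j 1 + Matrix.single k l 1 := by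
  rw [y2, map_mul, slMat_tv, slMat_tv, mul_add, mul_one, add_mul, one_mul,
    Matrix.single_mul_single_of_ne _ _ _ _ h.jk]
  abel

/-- `1 + E_ij + E_jk` -/
def y3 (hij : i ≠ j) (hjk : j ≠ k) : SpecialLinearGroup ι F := tv j k hjk 1 * tv i j hij 1

theorem y3_sub (hij : i ≠ j) (hjk : j ≠ k) (hik : i ≠ k) :
    slMat ι F (y3 hij hjk) - 1 = Matrix.single i j 1 + Matrix.single j k 1 := by
  rw [y3, map_mul, slMat_tv, slMat_tv, mul_add, mul_one, add_mul, one_mul,
    Matrix.single_mul_single_of_ne _ _ _ _ hik.symm]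
  abel

/-- `1 + E_ij + E_jk + E_kl` -/
def y4 (h : Four i j k l) : SpecialLinearGroup ι F := tv k l h.kl 1 * y3 h.ij h.jk

theorem y4_sub (h : Four i j k l) :
    slMat ι F (y4 h) - 1 = Matrix.single i j 1 + Matrix.single j k 1 + Matrix.single k l 1 := by
  have e : slMat ι F (y3 h.ij h.jk) = 1 + (Matrix.single i j 1 + Matrix.single j k 1) := by
    rw [← y3_sub h.ij h.jk h.ik]; abel
  rw [y4, map_mul, slMat_tv, e, mul_add, mul_one, add_mul, one_mul, mul_add,
    Matrix.single_mul_single_of_ne _ _ _ _ h.il.symm,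
    Matrix.single_mul_single_of_ne _ _ _ _ h.jl.symm]
  abel

theorem ex2_psl_four [Finite F] (h : Four i j k l) :
    Ex2 (SpecialLinearGroup ι F ⧸ Subgroup.center (SpecialLinearGroup ι F)) := by
  obtain ⟨p, hp⟩ := CharP.exists F
  haveI : Fact p.Prime := ⟨CharP.char_is_prime F p⟩
  have hp2 : 2 ≤ p := (Fact.out : p.Prime).two_le
  set f := slMat ι F with hf
  have hinj : Function.Injective f := slMat_injective
  -- the four unipotent elements
  have n1 : f (tv i j h.ij 1) - 1 = Matrix.single i j 1 := by rw [slMat_tv]; abel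
  have n2 := y2_sub (F := F) h
  have n3 := y3_sub (F := F) h.ij h.jk h.ik
  have n4 := y4_sub (F := F) h
  rw [← hf] at n2 n3 n4
  have s1 : (f (tv i j h.ij 1) - 1) ^ 2 = 0 := by
    rw [n1, pow_two, Matrix.single_mul_single_of_ne _ _ _ _ h.ij.symm]
  have s2 : (f (y2 h) - 1) ^ 2 = 0 := by
    rw [n2, pow_two, mul_add, add_mul, add_mul, Matrix.single_mul_single_of_ne _ _ _ _ h.ij.symm,
      Matrix.single_mul_single_of_ne _ _ _ _ h.il.symm,
      Matrix.single_mul_single_of_ne _ _ _ _ h.jk, Matrix.single_mul_single_of_ne _ _ _ _ h.kl.symm]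
    simp
  have s3 : (f (y3 h.ij h.jk) - 1) ^ 2 = Matrix.single i k 1 := by
    rw [n3, pow_two, mul_add, add_mul, add_mul, Matrix.single_mul_single_of_ne _ _ _ _ h.ij.symm,
      Matrix.single_mul_single_same,
      Matrix.single_mul_single_of_ne _ _ _ _ h.ik.symm, Matrix.single_mul_single_of_ne _ _ _ _ h.jk.symm]
    simp
  have s3' : (f (y3 h.ij h.jk) - 1) ^ 3 = 0 := by
    rw [pow_succ, s3, n3, mul_add, Matrix.single_mul_single_of_ne _ _ _ _ h.ik.symm,
      Matrix.single_mul_single_of_ne _ _ _ _ h.jk.symm]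
    simp
  have s4 : (f (y4 h) - 1) ^ 2 = Matrix.single i k 1 + Matrix.single j l 1 := by
    rw [n4, pow_two, mul_add, mul_add, add_mul, add_mul, add_mul, add_mul, add_mul, add_mul,
      Matrix.single_mul_single_of_ne _ _ _ _ h.ij.symm,
      Matrix.single_mul_single_same, Matrix.single_mul_single_same,
      Matrix.single_mul_single_of_ne _ _ _ _ h.ik.symm, Matrix.single_mul_single_of_ne _ _ _ _ h.jk.symm,
      Matrix.single_mul_single_of_ne _ _ _ _ h.il.symm, Matrix.single_mul_single_of_ne _ _ _ _ h.jl.symm,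
      Matrix.single_mul_single_of_ne _ _ _ _ h.jk, Matrix.single_mul_single_of_ne _ _ _ _ h.kl.symm]
    simp
  have s4' : (f (y4 h) - 1) ^ 3 = Matrix.single i l 1 := by
    rw [pow_succ, s4, n4, mul_add, mul_add, add_mul, add_mul, add_mul,
      Matrix.single_mul_single_same,
      Matrix.single_mul_single_of_ne _ _ _ _ h.ik.symm, Matrix.single_mul_single_of_ne _ _ _ _ h.jk.symm,
      Matrix.single_mul_single_of_ne _ _ _ _ h.il.symm, Matrix.single_mul_single_of_ne _ _ _ _ h.jl.symm,
      Matrix.single_mul_single_of_ne _ _ _ _ h.kl.symm]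
    simp
  have s4'' : (f (y4 h) - 1) ^ 4 = 0 := by
    rw [pow_succ, s4', n4, mul_add, mul_add,
      Matrix.single_mul_single_of_ne _ _ _ _ h.il.symm, Matrix.single_mul_single_of_ne _ _ _ _ h.jl.symm,
      Matrix.single_mul_single_of_ne _ _ _ _ h.kl.symm]
    simp
  have o1 : orderOf (tv i j h.ij (1 : F)) = p :=
    orderOf_eq_char f hinj s1 hp2 (by rw [n1]; exact single_one_ne)
  have o2 : orderOf (y2 (F := F) h) = p :=
    orderOf_eq_char f hinj s2 hp2 (by
      rw [n2]; intro h0
      have := congrFun (congrFun h0 i) j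
      simp [Matrix.single_apply, h.ik.symm] at this)
  have c12 : ¬ IsConj (tv i j h.ij (1 : F)) (y2 h) := by
    intro hc
    have := rk1_iff_of_isConj f hc (by rw [n1]; exact rk1_single _ _ _)
    rw [n2] at this
    exact not_rk1_add h.ik h.jl one_ne_zero one_ne_zero this
  have sq3 : (f (y3 h.ij h.jk) - 1) ^ 2 ≠ 0 := by
    rw [s3]; exact single_one_ne
  have hnoP : NoP p (SpecialLinearGroup ι F) := noP_sl
  rcases eq_or_ne p 2 with rfl | hne
  · -- characteristic two: orders 2 and 4
    have q1 : (tv i j h.ij (1 : F)) ^ 2 ^ 2 = 1 := pow_char_eq_one f hinj s1 (by norm_num)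
    have q2 : (y2 (F := F) h) ^ 2 ^ 2 = 1 := pow_char_eq_one f hinj s2 (by norm_num)
    have q3 : (y3 (F := F) h.ij h.jk) ^ 2 ^ 2 = 1 := pow_char_eq_one f hinj s3' (by norm_num)
    have q4 : (y4 (F := F) h) ^ 2 ^ 2 = 1 := pow_char_eq_one f hinj s4'' (by norm_num)
    have hord : ∀ g : SpecialLinearGroup ι F, g ^ 2 ^ 2 = 1 → (f g - 1) ^ 2 ≠ 0 →
        orderOf g = 4 := by
      intro g hg hg2
      have : orderOf g = 2 ^ (1 + 1) := by
        apply orderOf_eq_prime_pow
        · intro hcon
          apply hg2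
          have h2 : f g ^ 2 = 1 := by
            rw [← map_pow, show g ^ 2 = 1 by simpa using hcon, map_one]
          haveI : Nonempty ι := ⟨i⟩
          haveI : CharP (Matrix ι ι F) 2 := Matrix.charP 2
          have h3 := sub_pow_char_of_commute (R := Matrix ι ι F) (p := 2)
            (Commute.one_right (f g))
          rw [h3, h2, one_pow, sub_self]
        · exact hg
      simpa using this
    have o3 := hord _ q3 sq3
    have o4 := hord _ q4 (by
      rw [s4]; intro h0
      have := congrFun (congrFun h0 i) k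
      simp [Matrix.single_apply, h.ij.symm] at this)
    refine Ex2.quot_two_two hnoP q1 q2 q3 q4 (o1.trans o2.symm) (o3.trans o4.symm)
      (by rw [o1, o3]; norm_num) c12 ?_
    intro hc
    have := pow_eq_zero_of_isConj f hc (n := 3) (by norm_num) s3'
    rw [s4'] at this
    exact single_one_ne this
  · -- odd characteristic: three classes of elements of order `p`
    have hp3 : 3 ≤ p := by omega
    have q1 : (tv i j h.ij (1 : F)) ^ p ^ 1 = 1 :=
      pow_char_eq_one f hinj s1 (by simpa using hp2)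
    have q2 : (y2 (F := F) h) ^ p ^ 1 = 1 := pow_char_eq_one f hinj s2 (by simpa using hp2)
    have q3 : (y3 (F := F) h.ij h.jk) ^ p ^ 1 = 1 :=
      pow_char_eq_one f hinj s3' (by simpa using hp3)
    have o3 : orderOf (y3 (F := F) h.ij h.jk) = p :=
      orderOf_eq_char f hinj s3' hp3 (fun h0 => sq3 (by rw [h0]; simp))
    refine Ex2.quot_three hnoP q1 q2 q3 (o1.trans o2.symm) (o2.trans o3.symm) c12 ?_ ?_
    · intro hc
      exact sq3 (pow_eq_zero_of_isConj f hc (n := 2) (by norm_num) s1)
    · intro hc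
      exact sq3 (pow_eq_zero_of_isConj f hc (n := 2) (by norm_num) s2)

end Cfsg.Agent.H701
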