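import Cfsg.Agent.H701.Psp
import Cfsg.Agent.S0279
import Cfsg.Agent.ClassicalGeometry.UnitTransv

/-!
# `Ex2` for `PSU_n(q)`, `n ≥ 4`
-/

set_option autoImplicit false
set_option linter.all false

namespace Cfsg.Agent.H701

open Matrix Cfsg Cfsg.Agent.LieClassical.HermBasic Cfsg.Agent.ClassicalGeometry.UnitTransv
open Cfsg.Agent.LieClassical.SUBasic (suDiag coe_suDiag mem_center_SU_iff)

namespace Su

variable {F : Type*} [Field F] [Fintype F] {n q : ℕ}

/-- the matrices of `SU` -/
def um (n : ℕ) (F : Type*) [Field F] (q : ℕ) : SU n F q →* Matrix (Fin n) (Fin n) F :=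
  (slMat (Fin n) F).comp (SU n F q).subtype

theorem um_injective : Function.Injective (um n F q) :=
  fun _ _ h => Subtype.ext (slMat_injective h)

theorem noP {p : ℕ} [hp : Fact p.Prime] [CharP F p] (hF : Fintype.card F = q ^ 2) (hn : 3 ≤ n) :
    NoP p (SU n F q) := by
  apply noP_of_coprime
  rw [Cfsg.Agent.S0279.result hF n hn]
  obtain ⟨m, hp', hm⟩ := FiniteField.card F p
  have hdvd : p ∣ q := by
    have : p ∣ q ^ 2 := by
      rw [← hF, hm]
      exact dvd_pow_self p m.pos.ne'
    exact hp'.dvd_of_dvd_pow this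
  have : Nat.Coprime p (q + 1) := by
    rw [Nat.Prime.coprime_iff_not_dvd hp']
    intro h
    have := (Nat.dvd_add_right hdvd).1 h
    exact hp'.one_lt.ne' (Nat.dvd_one.1 this)
  exact Nat.Coprime.coprime_dvd_right (Nat.gcd_dvd_right _ _) this

theorem um_utv_sub (hF : Fintype.card F = q ^ 2) {v : Fin n → F} {c : F}
    (hv : hermForm n F q v v = 0) (hc : c + c ^ q = 0) :
    um n F q (utv hF v c hv hc) - 1 = c • vecMulVec v (fun j => v j ^ q) := by
  have : um n F q (utv hF v c hv hc) = unitaryTransvection n q v c := rfl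
  rw [this, unitaryTransvection]
  abel

theorem commute_utv (hF : Fintype.card F = q ^ 2) {v : Fin n → F} {c : F}
    (hv : hermForm n F q v v = 0) (hc : c + c ^ q = 0) (z : SU n F q) (w : F)
    (hw : w ^ (q + 1) = 1) (hz : act z v = w • v) : Commute (utv hF v c hv hc) z := by
  apply ext_act
  intro x
  rw [act_mul, act_mul, act_utv, act_utv, act_add, act_smul, hz, smul_smul]
  congr 2
  have h1 : hermForm n F q (act z x) (act z v) = hermForm n F q x v := herm_act z x v
  rw [hz, herm_smul_right] at h1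
  have h2 : w * w ^ q = 1 := by rw [← pow_succ']; exact hw
  rw [← h1]
  linear_combination (-(c * hermForm n F q (act z x) v)) * h2

theorem commute_utv_utv (hF : Fintype.card F = q ^ 2) {v w : Fin n → F} {c d : F}
    (hv : hermForm n F q v v = 0) (hc : c + c ^ q = 0)
    (hw : hermForm n F q w w = 0) (hd : d + d ^ q = 0) (hvw : hermForm n F q v w = 0) :
    Commute (utv hF v c hv hc) (utv hF w d hw hd) := by
  have hwv := herm_eq_zero_swap hF hvw
  apply ext_act
  intro x
  rw [act_mul, act_mul]
  simp only [act_utv, herm_add_left, herm_smul_left, hvw, hwv, mul_zero, add_zero]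
  abel

theorem herm_eq_dot (u v : Fin n → F) :
    hermForm n F q u v = (fun j => v j ^ q) ⬝ᵥ u := by
  rw [herm_def]
  exact Finset.sum_congr rfl fun i _ => mul_comm _ _

theorem um_utv_sq (hF : Fintype.card F = q ^ 2) {v : Fin n → F} {c : F}
    (hv : hermForm n F q v v = 0) (hc : c + c ^ q = 0) :
    (um n F q (utv hF v c hv hc) - 1) ^ 2 = 0 := by
  rw [um_utv_sub, pow_two, Matrix.smul_mul, Matrix.mul_smul, Matrix.vecMulVec_mul_vecMulVec,
    ← herm_eq_dot, hv]
  simp

theorem ord_prime {p : ℕ} (hp : p.Prime) {Q : Type*} [Group Q] {g : Q} (h1 : g ^ p = 1)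
    (h2 : g ≠ 1) : orderOf g = p := by
  haveI := Fact.mk hp
  exact orderOf_eq_prime h1 h2

theorem ex2_four (hF : Fintype.card F = q ^ 2) (hn : 4 ≤ n) : Ex2 (PSU n F q) := by
  obtain ⟨p, hp⟩ := CharP.exists F
  haveI hpf : Fact p.Prime := ⟨CharP.char_is_prime F p⟩
  have hp2 : 2 ≤ p := (Fact.out : p.Prime).two_le
  have hZ : NoP p (SU n F q) := noP hF (by omega)
  have hq2 := two_le hF
  -- `s` of norm `-1`, `c` of trace zero
  obtain ⟨s, hs⟩ := exists_norm_eq hF (c := (-1 : F)) (by rw [neg_pow_q hF, one_pow])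
  obtain ⟨c, hc0, hc⟩ := exists_trace_zero_ne hF
  let i0 : Fin n := ⟨0, by omega⟩
  let i1 : Fin n := ⟨1, by omega⟩
  let i2 : Fin n := ⟨2, by omega⟩
  let i3 : Fin n := ⟨3, by omega⟩
  have h01 : i0 ≠ i1 := by simp [i0, i1]
  have h02 : i0 ≠ i2 := by simp [i0, i2]
  have h03 : i0 ≠ i3 := by simp [i0, i3]
  have h12 : i1 ≠ i2 := by simp [i1, i2]
  have h13 : i1 ≠ i3 := by simp [i1, i3]
  have h23 : i2 ≠ i3 := by simp [i2, i3]
  let a : Fin n → F := Pi.single i0 1 + Pi.single i1 s
  let b : Fin n → F := Pi.single i2 1 + Pi.single i3 s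
  have ha : hermForm n F q a a = 0 := by
    simp only [a, herm_add_left, herm_single_left, Pi.add_apply, Pi.single_eq_same,
      Pi.single_eq_of_ne h01, Pi.single_eq_of_ne h01.symm, add_zero, zero_add, one_pow, one_mul, hs]
    ring
  have hb : hermForm n F q b b = 0 := by
    simp only [b, herm_add_left, herm_single_left, Pi.add_apply, Pi.single_eq_same,
      Pi.single_eq_of_ne h23, Pi.single_eq_of_ne h23.symm, add_zero, zero_add, one_pow, one_mul, hs]
    ring
  have hab : hermForm n F q a b = 0 := by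
    simp only [a, b, herm_add_left, herm_single_left, Pi.add_apply,
      Pi.single_eq_of_ne h02, Pi.single_eq_of_ne h03, Pi.single_eq_of_ne h12,
      Pi.single_eq_of_ne h13, add_zero, zero_pow_q hF, mul_zero]
  set y1 := utv hF a c ha hc with hy1
  set y1' := utv hF b c hb hc with hy1'
  have cab : Commute y1 y1' := commute_utv_utv hF ha hc hb hc hab
  have n1 : um n F q y1 - 1 = c • vecMulVec a (fun j => a j ^ q) := um_utv_sub hF ha hc
  have n1' : um n F q y1' - 1 = c • vecMulVec b (fun j => b j ^ q) := um_utv_sub hF hb hc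
  have pw : ∀ {v : Fin n → F} (hv : hermForm n F q v v = 0), utv hF v c hv hc ^ p = 1 := by
    intro v hv
    have := pow_char_eq_one (um n F q) um_injective (a := 1) (um_utv_sq hF hv hc)
      (by simpa using hp2)
    simpa using this
  have p1 : y1 ^ p = 1 := pw ha
  have p1' : y1' ^ p = 1 := pw hb
  have p2 : (y1 * y1') ^ p = 1 := by rw [cab.mul_pow, p1, p1', one_mul]
  have aa : ∀ j, a j = (Pi.single i0 1 : Fin n → F) j + (Pi.single i1 s : Fin n → F) j :=
    fun j => rfl
  have bb : ∀ j, b j = (Pi.single i2 1 : Fin n → F) j + (Pi.single i3 s : Fin n → F) j :=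
    fun j => rfl
  have a0 : a i0 = 1 := by rw [aa, Pi.single_eq_same, Pi.single_eq_of_ne h01, add_zero]
  have a2 : a i2 = 0 := by
    rw [aa, Pi.single_eq_of_ne h02.symm, Pi.single_eq_of_ne h12.symm, add_zero]
  have b0 : b i0 = 0 := by rw [bb, Pi.single_eq_of_ne h02, Pi.single_eq_of_ne h03, add_zero]
  have b2 : b i2 = 1 := by rw [bb, Pi.single_eq_same, Pi.single_eq_of_ne h23, add_zero]
  have n2 : um n F q (y1 * y1') - 1 =
      c • vecMulVec a (fun j => a j ^ q) + c • vecMulVec b (fun j => b j ^ q) := by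
    have e1 : um n F q y1 = 1 + c • vecMulVec a (fun j => a j ^ q) := by rw [← n1]; abel
    have e2 : um n F q y1' = 1 + c • vecMulVec b (fun j => b j ^ q) := by rw [← n1']; abel
    have e3 : (c • vecMulVec a (fun j => a j ^ q)) * (c • vecMulVec b (fun j => b j ^ q)) = 0 := by
      rw [Matrix.smul_mul, Matrix.mul_smul, Matrix.vecMulVec_mul_vecMulVec, ← herm_eq_dot,
        herm_eq_zero_swap hF hab]
      simp
    rw [map_mul, e1, e2, mul_add, add_mul, add_mul, e3]
    simp only [mul_one, one_mul, add_zero]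
    abel
  have c12 : ¬ IsConj y1 (y1 * y1') := by
    intro hcj
    have hr := rk1_iff_of_isConj (um n F q) hcj (by
      rw [n1]
      exact ⟨c • a, fun j => a j ^ q, by rw [Matrix.smul_vecMulVec]⟩)
    rw [n2] at hr
    have := hr.minor i0 i0 i2 i2
    simp [Matrix.vecMulVec_apply, a0, a2, b0, b2, zero_pow_q hF] at this
    exact hc0 this
  have y1ne : y1 ≠ 1 := by
    intro h
    have h0 : um n F q y1 - 1 = 0 := by rw [h, map_one, sub_self]
    rw [n1] at h0
    have := congrFun (congrFun h0 i0) i0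
    simp [Matrix.vecMulVec_apply, a0] at this
    exact hc0 this
  have y2ne : y1 * y1' ≠ 1 := by
    intro h
    have h0 : um n F q (y1 * y1') - 1 = 0 := by rw [h, map_one, sub_self]
    rw [n2] at h0
    have := congrFun (congrFun h0 i0) i0
    simp [Matrix.vecMulVec_apply, a0, b0, zero_pow_q hF] at this
    exact hc0 this
  -- the diagonal element
  obtain ⟨w, hw1, hw2⟩ : ∃ w : F, w ^ (q + 1) = 1 ∧ w ^ 2 ≠ 1 := by
    haveI : IsCyclic Fˣ := inferInstance
    obtain ⟨g, hg⟩ := IsCyclic.exists_generator (α := Fˣ)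
    have hcard : orderOf g = (q + 1) * (q - 1) := by
      rw [orderOf_eq_card_of_forall_mem_zpowers hg, card_units_eq hF]
    have hqm : 0 < q - 1 := by omega
    refine ⟨((g ^ (q - 1) : Fˣ) : F), ?_, ?_⟩
    · rw [← Units.val_pow_eq_pow_val, ← pow_mul, mul_comm (q - 1) (q + 1), ← hcard,
        pow_orderOf_eq_one, Units.val_one]
    · intro h
      rw [← Units.val_pow_eq_pow_val, ← pow_mul, Units.val_eq_one] at h
      have := orderOf_dvd_of_pow_eq_one h
      rw [hcard, mul_comm (q - 1) 2] at this
      have := Nat.le_of_dvd (by positivity) this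
      have h3 : q + 1 ≤ 2 := Nat.le_of_mul_le_mul_right this hqm
      omega
  have hw0 : w ≠ 0 := by
    rintro rfl
    rw [zero_pow (Nat.succ_ne_zero q)] at hw1
    exact zero_ne_one hw1
  have hwi : (w⁻¹) ^ (q + 1) = 1 := by rw [inv_pow, hw1, inv_one]
  let d : Fin n → F := fun j => if (j : ℕ) < 2 then w else if (j : ℕ) < 4 then w⁻¹ else 1
  have hd1 : ∏ j, d j = 1 := by
    have e1 : ∏ j, d j = ∏ j ∈ ({i0, i1, i2, i3} : Finset (Fin n)), d j := by
      symm
      apply Finset.prod_subset (Finset.subset_univ _)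
      intro x _ hx
      simp only [Finset.mem_insert, Finset.mem_singleton, not_or] at hx
      have hx4 : ¬ (x : ℕ) < 4 := by
        intro h4
        obtain ⟨h0, h1, h2, h3⟩ := hx
        have : (x : ℕ) = 0 ∨ (x : ℕ) = 1 ∨ (x : ℕ) = 2 ∨ (x : ℕ) = 3 := by omega
        rcases this with h | h | h | h
        · exact h0 (Fin.ext h)
        · exact h1 (Fin.ext h)
        · exact h2 (Fin.ext h)
        · exact h3 (Fin.ext h)
      have hx2 : ¬ (x : ℕ) < 2 := by omega
      simp only [d, if_neg hx4, if_neg hx2]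
    rw [e1, Finset.prod_insert (by simp [h01, h02, h03]), Finset.prod_insert (by simp [h12, h13]),
      Finset.prod_insert (by simp [h23]), Finset.prod_singleton]
    simp only [d, i0, i1, i2, i3]
    norm_num
    field_simp
  have hd2 : ∀ j, d j ^ (q + 1) = 1 := by
    intro j
    simp only [d]
    split_ifs
    · exact hw1
    · exact hwi
    · exact one_pow _
  set z : SU n F q := suDiag q d hd1 hd2 with hz
  have zact : ∀ v : Fin n → F, act z v = fun j => d j * v j := by
    intro v
    rw [act_def, hz, coe_suDiag]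
    ext j
    rw [Matrix.mulVec_diagonal]
  have za : act z a = w • a := by
    rw [zact]
    ext j
    rw [Pi.smul_apply, smul_eq_mul, aa]
    by_cases j0 : j = i0
    · subst j0; simp [d, i0]
    · by_cases j1 : j = i1
      · subst j1; simp [d, i1]
      · simp [Pi.single_eq_of_ne j0, Pi.single_eq_of_ne j1]
  have zb : act z b = w⁻¹ • b := by
    rw [zact]
    ext j
    rw [Pi.smul_apply, smul_eq_mul, bb]
    by_cases j0 : j = i2
    · subst j0; simp [d, i2]
    · by_cases j1 : j = i3
      · subst j1; simp [d, i3]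
      · simp [Pi.single_eq_of_ne j0, Pi.single_eq_of_ne j1]
  have c1 : Commute y1 z := commute_utv hF ha hc z w hw1 za
  have c1' : Commute y1' z := commute_utv hF hb hc z w⁻¹ hwi zb
  have hzc : z ∉ Subgroup.center (SU n F q) := by
    intro h
    obtain ⟨r, _, _, hr⟩ := (mem_center_SU_iff hF (by omega) z).1 h
    have e : ∀ j, d j = r := by
      intro j
      have h1 := congrArg (fun g => act g (Pi.single j 1 : Fin n → F) j) hr
      simp only [zact] at h1
      rw [act_def, Cfsg.Agent.LieClassical.SUBasic.coe_suScalar, Matrix.mulVec_diagonal] at h1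
      simpa using h1
    have e0 := e i0
    have e2 := e i2
    simp only [d, i0, i2] at e0 e2
    norm_num at e0 e2
    apply hw2
    rw [pow_two]
    nth_rewrite 1 [e0, ← e2]
    exact inv_mul_cancel₀ hw0
  have hzo : orderOf z ∣ q + 1 := by
    apply orderOf_dvd_of_pow_eq_one
    apply um_injective
    rw [map_pow, map_one]
    have : um n F q z = Matrix.diagonal d := coe_suDiag q d hd1 hd2
    rw [this, Matrix.diagonal_pow, ← Matrix.diagonal_one]
    congr 1
    ext j
    exact hd2 j
  have hpz : ¬ p ∣ orderOf z := by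
    intro h
    obtain ⟨m, hp', hm⟩ := FiniteField.card F p
    have hdvd : p ∣ q := by
      have : p ∣ q ^ 2 := by
        rw [← hF, hm]
        exact dvd_pow_self p m.pos.ne'
      exact hp'.dvd_of_dvd_pow this
    have := (Nat.dvd_add_right hdvd).1 (h.trans hzo)
    exact hp'.one_lt.ne' (Nat.dvd_one.1 this)
  exact Ex2.quot_commute (a := 1) (Fact.out : p.Prime) hZ (by simpa using p1) (by simpa using p2)
    ((ord_prime hpf.out p1 y1ne).trans (ord_prime hpf.out p2 y2ne).symm) hzc hpz c1
    (c1.mul_left c1') c12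

end Su

end Cfsg.Agent.H701
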